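import Groth.Agent.L14.TypeR.Lin
import Groth.Agent.L20.SchDesc.Cov
import Groth.Agent.L25.Locus.Factor
import Mathlib.RingTheory.Localization.Free

/-!
The root homomorphisms inside a smooth subgroup containing the torus, over a connected base.
-/

set_option autoImplicit false
universe u

open CategoryTheory CategoryTheory.Limits AlgebraicGeometry MonoidalCategory CartesianMonoidalCategory MonObj
open Groth.L14.RankOne Groth.L25 Groth.L14.Chart Groth.L14.Chev.Cell

set_option backward.isDefEq.respectTransparency.types false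
set_option linter.style.haveILetI false
set_option linter.unusedSectionVars false
set_option maxHeartbeats 1000000

noncomputable section

namespace Groth.L14.TypeR

section Fppf

variable {S : Scheme.{u}} {G H : Over S} [GrpObj G] [GrpObj H] {R : Type u} [CommRing R]
  {j : Spec (CommRingCat.of R) ⟶ S} {C : Type u} [CommRing C] [Algebra R C] {h : H ⟶ G} [IsMonHom h]

/-- Membership descends along faithfully flat algebra maps. -/
theorem mem_HP_of_cover [Mono h.left] {C' : Type u} [CommRing C'] [Algebra R C'] (φ : C →ₐ[R] C')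
    (hf : φ.toRingHom.Flat) (hs : Function.Surjective (PrimeSpectrum.comap φ.toRingHom)) {g : Sp j C ⟶ G}
    (hg : mor j φ ≫ g ∈ HP j C' h) : g ∈ HP j C h := by
  obtain ⟨y, hy⟩ := hg
  haveI : Flat (mor j φ).left := (Flat.SpecMap_iff (f := CommRingCat.ofHom φ.toRingHom)).2 hf
  haveI : Surjective (mor j φ).left := ⟨hs⟩
  haveI : QuasiCompact (mor j φ).left := inferInstanceAs (QuasiCompact (Spec.map _))
  obtain ⟨w, hw⟩ := Groth.L25.Locus.factors_of_cov h.left g.left (mor j φ).left y.left
    (congrArg CommaMorphism.left hy)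
  exact ⟨Over.homMk w (by rw [← Over.w h, reassoc_of% hw]; exact Over.w g), Over.OverMorphism.ext hw⟩

end Fppf

variable {S : Scheme.{u}} {G H : Over S} [GrpObj G] [GrpObj H] {D : Red.SplitRed G} {h : H ⟶ G} [IsMonHom h]
  {b : D.P.Base} {n m : ℕ} {eneg : Fin n → D.idx} {epos : Fin m → D.idx}
  (hneg : RedSub.Enumerates (RedSub.negRoots D.P b) eneg) (hpos : RedSub.Enumerates (RedSub.posRoots D.P b) epos)
  {R : Type u} [CommRing R] {j : Spec (CommRingCat.of R) ⟶ S}

variable (D h) in
/-- The root occurs in the tangent space of the subgroup at a field valued point. -/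
def TanAt {K : Type u} [Field K] (g : Spec (CommRingCat.of K) ⟶ S) (c : D.idx) : Prop :=
  gp g (DualNumber.eps : DualNumber K) ≫ D.u c ∈ HP g (DualNumber K) h

theorem mem_HP_spIso {R' : Type u} [CommRing R'] [Algebra R R'] (g : Spec (CommRingCat.of R') ⟶ S)
    (hg : Spec.map (CommRingCat.ofHom (algebraMap R R')) ≫ j = g) {C : Type u} [CommRing C] [Algebra R C]
    [Algebra R' C] [IsScalarTower R R' C] (x : C) (c : D.idx) :
    gp j x ≫ D.u c ∈ HP j C h ↔ gp g x ≫ D.u c ∈ HP g C h := by
  let e := spIso j g hg C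
  have he : e.hom ≫ gp g x = gp j x := GaPts.gaFn_injective (by
    show Red.gaFn (e.hom ≫ gp g x) = Red.gaFn (gp j x)
    rw [GaPts.gaFn_comp, gaFn_gp, gaFn_gp]
    simp [e, spIso])
  constructor
  · rintro ⟨y, hy⟩
    refine ⟨e.inv ≫ y, ?_⟩
    show (e.inv ≫ y) ≫ h = _
    rw [Category.assoc, show y ≫ h = gp j x ≫ D.u c from hy, ← he, Category.assoc, Iso.inv_hom_id_assoc]
  · rintro ⟨y, hy⟩
    refine ⟨e.hom ≫ y, ?_⟩
    show (e.hom ≫ y) ≫ h = _
    rw [Category.assoc, show y ≫ h = gp g x ≫ D.u c from hy, ← Category.assoc, he]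

include hneg hpos in
theorem chart_single [DecidableEq D.idx] {C : Type u} [CommRing C] [Algebra R C] (c : D.idx) (y : C) :
    chart j D.u (cellList eneg epos) (co1 (Pi.single c y)) = gp j y ≫ D.u c := by
  haveI : ∀ c, IsMonHom (D.u c) := fun c => (D.rootHom c).1
  rw [chart_one_tor, rootProd_single j (nodup_cellList hneg hpos) (mem_cellList hneg hpos c) fun e he => by
    simp [he], Pi.single_eq_same]

variable [IsOpenImmersion j]

include hneg hpos in
theorem tanAt_iff (Q : Eqns j h D (cellList eneg epos)) (K : Type u) [Field K] [Algebra R K]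
    (g : Spec (CommRingCat.of K) ⟶ S) (hg : qK j K = g) (c : D.idx) : TanAt D h g c ↔ Tan Q K c := by
  classical
  rw [TanAt, ← mem_HP_spIso (j := j) g hg, ← chart_single hneg hpos]
  let δ : D.idx → DualNumber K := Pi.single c DualNumber.eps
  have h1 : ∀ e d, δ e * δ d = 0 := fun e d => by
    simp only [δ, Pi.single_apply]
    split_ifs <;> first | exact DualNumber.eps_mul_eps | simp
  have hu : IsUnit (evalCoord (R := R) (co1 δ) Q.f) :=
    isUnit_of_nilpotent Q.one_f _ (I := nilradical _) (fun z hz => hz)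
      ⟨fun m => by simp, fun e => ⟨2, by rw [pow_two, h1]; exact rfl⟩⟩
  rw [Q.mem _ _ hu]
  refine forall_congr' fun a => imp_congr_right fun ha => ?_
  rw [eval_small δ h1, one_mem_coord Q a ha, map_zero, zero_add,
    Finset.sum_eq_single c (fun e _ he => by simp [δ, he]) (by simp), show δ c = DualNumber.eps from Pi.single_eq_same _ _,
    IsScalarTower.algebraMap_apply R K (DualNumber K)]
  refine ⟨fun h0 => ?_, fun h0 => by rw [h0, map_zero, zero_mul]⟩
  simpa [TrivSqZeroExt.algebraMap_eq_inl] using congrArg TrivSqZeroExt.snd h0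

theorem exists_algebra_geomPt (p : PrimeSpectrum R) :
    ∃ _ : Algebra R (AlgebraicClosure (S.residueField (j p))),
      qK j (AlgebraicClosure (S.residueField (j p))) = Red.geomPt (j p) ∧
      RingHom.ker (algebraMap R (AlgebraicClosure (S.residueField (j p)))) = p.asIdeal := by
  have hg : ∀ z, Red.geomPt (j p) z = j p := fun z => by
    have : (Red.geomPt (j p)) z ∈ Set.range (S.fromSpecResidueField (j p)) := ⟨_, (Scheme.Hom.comp_apply _ _ _).symm⟩
    rwa [Scheme.range_fromSpecResidueField, Set.mem_singleton_iff] at this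
  have hr : Set.range (Red.geomPt (j p)) ⊆ Set.range j := by
    rintro _ ⟨z, rfl⟩
    rw [hg]
    exact Set.mem_range_self p
  let f := IsOpenImmersion.lift j (Red.geomPt (j p)) hr
  letI alg : Algebra R (AlgebraicClosure (S.residueField (j p))) := (Spec.preimage f).hom.toAlgebra
  have hf : Spec.map (CommRingCat.ofHom (algebraMap R (AlgebraicClosure (S.residueField (j p))))) = f := by
    rw [RingHom.algebraMap_toAlgebra, CommRingCat.ofHom_hom, Spec.map_preimage]
  refine ⟨alg, by rw [qK, hf, IsOpenImmersion.lift_fac], ?_⟩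
  let z := IsLocalRing.closedPoint (AlgebraicClosure (S.residueField (j p)))
  have hz : f z = p := j.isOpenEmbedding.injective (by
    show j (f z) = j p
    rw [← Scheme.Hom.comp_apply, IsOpenImmersion.lift_fac, hg])
  have h1 := congrArg PrimeSpectrum.asIdeal hz
  rw [← hf] at h1
  rw [← h1]
  show _ = Ideal.comap _ (IsLocalRing.maximalIdeal _)
  rw [IsLocalRing.maximalIdeal_eq_bot]
  rfl

include hneg hpos in
theorem tanAt_geomPt_iff (Q : Eqns j h D (cellList eneg epos)) (p : PrimeSpectrum R) (c : D.idx) :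
    TanAt D h (Red.geomPt (j p)) c ↔ ∀ a, Q.π a = 0 → coeffL D R c a ∈ p.asIdeal := by
  obtain ⟨alg, hq, hker⟩ := exists_algebra_geomPt (j := j) p
  letI := alg
  rw [tanAt_iff hneg hpos Q _ _ hq]
  refine forall_congr' fun a => imp_congr_right fun _ => ?_
  rw [← hker, RingHom.mem_ker]

omit [IsOpenImmersion j] in
theorem exists_open_chart (s : S) : ∃ (R : Type u) (_ : CommRing R) (j : Spec (CommRingCat.of R) ⟶ S)
    (_ : IsOpenImmersion j) (p : PrimeSpectrum R), j p = s := by
  obtain ⟨i, p, hp⟩ := S.affineOpenCover.openCover.exists_eq s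
  exact ⟨S.affineOpenCover.X i, inferInstance, S.affineOpenCover.f i, S.affineOpenCover.map_prop i, p, hp⟩

omit [IsOpenImmersion j] in
include hneg hpos in
/-- The tangent roots are locally constant. -/
theorem isClopen_tanAt (hh : IsImmersion h.left) [Smooth H.hom] (t : D.T ⟶ H) (ht : t ≫ h = D.i) (c : D.idx) :
    IsClopen {s : S | TanAt D h (Red.geomPt s) c} := by
  classical
  constructor
  · rw [← isOpen_compl_iff, isOpen_iff_forall_mem_open]
    intro s hs
    obtain ⟨R, _, j, hj, p, rfl⟩ := exists_open_chart s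
    obtain ⟨Q⟩ := exists_eqns j h (cellList eneg epos) hh (isOpenImmersion_chart hneg hpos)
    obtain ⟨a, ha, hap⟩ : ∃ a, Q.π a = 0 ∧ coeffL D R c a ∉ p.asIdeal := by
      by_contra! hcon
      exact hs ((tanAt_geomPt_iff hneg hpos Q p c).2 hcon)
    refine ⟨j '' (PrimeSpectrum.basicOpen (coeffL D R c a) : Set (PrimeSpectrum R)), ?_,
      j.isOpenEmbedding.isOpenMap _ (PrimeSpectrum.basicOpen _).2, ⟨p, hap, rfl⟩⟩
    rintro _ ⟨q, hq, rfl⟩ hT
    exact hq ((tanAt_geomPt_iff hneg hpos Q q c).1 hT a ha)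
  · rw [isOpen_iff_forall_mem_open]
    intro s hs
    obtain ⟨R, _, j, hj, p, rfl⟩ := exists_open_chart s
    obtain ⟨Q⟩ := exists_eqns j h (cellList eneg epos) hh (isOpenImmersion_chart hneg hpos)
    obtain ⟨r, hrp, hr⟩ := exists_tan_nhd t ht Q p.asIdeal ((tanAt_geomPt_iff hneg hpos Q p c).1 hs)
    refine ⟨j '' (PrimeSpectrum.basicOpen r : Set (PrimeSpectrum R)), ?_,
      j.isOpenEmbedding.isOpenMap _ (PrimeSpectrum.basicOpen _).2, ⟨p, hrp, rfl⟩⟩
    rintro _ ⟨q, hq, rfl⟩
    refine (tanAt_geomPt_iff hneg hpos Q q c).2 fun a ha => ?_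
    exact (q.isPrime.mem_or_mem ((hr a ha).symm ▸ zero_mem _ : r * coeffL D R c a ∈ q.asIdeal)).resolve_left hq

variable (D h) in
/-- The tangent roots of a subgroup. -/
def tanRoots : Set D.idx := {c | ∀ s : S, TanAt D h (Red.geomPt s) c}

include hneg hpos in
theorem coeffL_eq_zero (t : D.T ⟶ H) (ht : t ≫ h = D.i) (Q : Eqns j h D (cellList eneg epos)) {c : D.idx}
    (hc : c ∈ tanRoots D h) (a : CoordRing D R) (ha : Q.π a = 0) : coeffL D R c a = 0 := by
  classical
  let I : Ideal R :=
    { carrier := {r | r * coeffL D R c a = 0}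
      add_mem' := fun {x y} (hx : x * _ = 0) (hy : y * _ = 0) => by show (x + y) * _ = 0; rw [add_mul, hx, hy, add_zero]
      zero_mem' := zero_mul _
      smul_mem' := fun x y (hy : y * _ = 0) => by show x * y * _ = 0; rw [_root_.mul_assoc, hy, mul_zero] }
  have hI : I = ⊤ := by
    by_contra hne
    obtain ⟨P, hP, hle⟩ := Ideal.exists_le_maximal I hne
    obtain ⟨r, hr, hr0⟩ := exists_tan_nhd t ht Q P
      ((tanAt_geomPt_iff hneg hpos Q ⟨P, hP.isPrime⟩ c).1 (hc _))
    exact hr (hle (hr0 a ha))
  simpa [I] using (Ideal.eq_top_iff_one I).1 hI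

include hneg hpos in
theorem exists_ne_of_notMem [PreconnectedSpace S] (hh : IsImmersion h.left) [Smooth H.hom] (t : D.T ⟶ H)
    (ht : t ≫ h = D.i) (Q : Eqns j h D (cellList eneg epos)) {c : D.idx} (hc : c ∉ tanRoots D h) (p : PrimeSpectrum R) :
    ∃ a, Q.π a = 0 ∧ coeffL D R c a ∉ p.asIdeal := by
  by_contra! hcon
  rcases isClopen_iff.1 (isClopen_tanAt hneg hpos hh t ht c) with h0 | h0
  · exact Set.eq_empty_iff_forall_notMem.1 h0 _ ((tanAt_geomPt_iff hneg hpos Q p c).2 hcon)
  · exact hc fun s => Set.eq_univ_iff_forall.1 h0 s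

include hneg hpos in
theorem root_mem_of_unit [Nonempty S] (t : D.T ⟶ H) (ht : t ≫ h = D.i) (Q : Eqns j h D (cellList eneg epos))
    [DecidableEq D.idx] {c : D.idx} (hc : c ∈ tanRoots D h) {C : Type u} [CommRing C] [Algebra R C] (y : C)
    (hy : IsUnit (Polynomial.aeval y (linePoly D R c Q.f))) : gp j y ≫ D.u c ∈ HP j C h := by
  rw [← chart_single hneg hpos]
  refine (Q.mem C _ (by rwa [eval_line])).2 fun a ha => ?_
  rw [eval_line, show linePoly D R c a = 0 from Polynomial.ext fun k => by
    rw [Polynomial.coeff_zero]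
    have := line_coeff t ht Q (K := R) (c := c)
      (fun b hb => by rw [coeffL_eq_zero hneg hpos t ht Q hc b hb, map_zero]) k a ha
    simpa using this, map_zero]

include hneg hpos in
theorem root_mem_local [Nonempty S] (hh : IsImmersion h.left) (t : D.T ⟶ H) (ht : t ≫ h = D.i)
    (Q : Eqns j h D (cellList eneg epos))
    {c : D.idx} (hc : c ∈ tanRoots D h) {C : Type u} [CommRing C] [Algebra R C] (y : C) :
    gp j y ≫ D.u c ∈ HP j C h := by
  classical
  haveI := hh
  haveI : IsMonHom (D.u c) := (D.rootHom c).1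
  haveI : Mono h.left := inferInstance
  let u := linePoly D R c Q.f
  have hu0 : u.coeff 0 = 1 := by
    have h0 := eval_line (C := R) c (0 : R) Q.f
    rw [Pi.single_zero, eval_zero, Q.one_f, map_one] at h0
    rw [Polynomial.coeff_zero_eq_aeval_zero]
    exact h0.symm
  let a₁ : Polynomial C := Polynomial.aeval (Polynomial.C y - Polynomial.X) u
  let a₂ : Polynomial C := Polynomial.aeval (Polynomial.X : Polynomial C) u
  let C' := Localization.Away (a₁ * a₂)
  let φ : C →ₐ[R] C' := IsScalarTower.toAlgHom R C C'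
  refine mem_HP_of_cover φ ?_ ?_ ?_
  · show (algebraMap C C').Flat
    haveI : Module.Flat C C' := Module.Flat.trans C (Polynomial C) C'
    exact RingHom.flat_algebraMap_iff.2 ‹_›
  · intro p
    let K := AlgebraicClosure p.asIdeal.ResidueField
    let P : Polynomial C →+* Polynomial K := Polynomial.mapRingHom (algebraMap C K)
    letI : Algebra R (Polynomial K) := inferInstance
    have hP : ∀ z : Polynomial C, P (Polynomial.aeval z u) = Polynomial.aeval (P z) u := fun z => by
      rw [Polynomial.aeval_def, Polynomial.aeval_def, Polynomial.hom_eval₂]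
      congr 1
      ext r
      simp [P, Polynomial.algebraMap_eq, IsScalarTower.algebraMap_apply R C K]
    have hev : ∀ (v : K) (z : Polynomial K), (Polynomial.aeval z u).eval v = Polynomial.aeval (z.eval v) u := fun v z => by
      rw [Polynomial.aeval_def, Polynomial.aeval_def, ← Polynomial.coe_evalRingHom, Polynomial.hom_eval₂]
      congr 1
      ext r
      simp [Polynomial.algebraMap_eq]
    have hne : P (a₁ * a₂) ≠ 0 := by
      rw [map_mul]
      refine mul_ne_zero (fun h0 => ?_) (fun h0 => ?_)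
      · have := congrArg (Polynomial.eval (algebraMap C K y)) h0
        rw [hP, hev, Polynomial.eval_zero] at this
        simp [P, Polynomial.aeval_def, ← Polynomial.coeff_zero_eq_eval_zero, hu0] at this
      · have := congrArg (Polynomial.eval 0) h0
        rw [hP, hev, Polynomial.eval_zero] at this
        simp [P, Polynomial.aeval_def, ← Polynomial.coeff_zero_eq_eval_zero, hu0] at this
    obtain ⟨v, hv⟩ : ∃ v : K, (P (a₁ * a₂)).eval v ≠ 0 := by
      by_contra! hall
      exact hne (Polynomial.funext fun v => by rw [hall v, Polynomial.eval_zero])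
    let ev : Polynomial C →+* K := (Polynomial.evalRingHom v).comp P
    let ev' : C' →+* K := IsLocalization.Away.lift (a₁ * a₂) (g := ev) (Ne.isUnit hv)
    refine ⟨⟨RingHom.ker ev', RingHom.ker_isPrime _⟩, PrimeSpectrum.ext ?_⟩
    ext z
    show ev' (algebraMap C C' z) = 0 ↔ _
    rw [IsScalarTower.algebraMap_apply C (Polynomial C) C', IsLocalization.Away.lift_eq]
    show (Polynomial.eval v (Polynomial.map (algebraMap C K) (Polynomial.C z))) = 0 ↔ _
    rw [Polynomial.map_C, Polynomial.eval_C, IsScalarTower.algebraMap_apply C p.asIdeal.ResidueField K,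
      map_eq_zero, Ideal.algebraMap_residueField_eq_zero]
  · let ψ : Polynomial C →ₐ[R] C' := IsScalarTower.toAlgHom R (Polynomial C) C'
    have hunit : IsUnit (ψ (a₁ * a₂)) := IsLocalization.Away.algebraMap_isUnit _
    rw [map_mul] at hunit
    have h1 : gp j (ψ (Polynomial.C y - Polynomial.X)) ≫ D.u c ∈ HP j C' h :=
      root_mem_of_unit hneg hpos t ht Q hc _ (by
        rw [Polynomial.aeval_algHom_apply]; exact isUnit_of_mul_isUnit_left hunit)
    have h2 : gp j (ψ Polynomial.X) ≫ D.u c ∈ HP j C' h :=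
      root_mem_of_unit hneg hpos t ht Q hc _ (by
        rw [Polynomial.aeval_algHom_apply]; exact isUnit_of_mul_isUnit_right hunit)
    have h3 := mul_mem h1 h2
    rw [← MonObj.mul_comp, ← gp_add, ← map_add, sub_add_cancel] at h3
    rw [← Category.assoc, mor_gp]
    exact h3

include hneg hpos in
theorem exists_rootHom [Nonempty S] (hh : IsImmersion h.left) [Smooth H.hom] (t : D.T ⟶ H) (ht : t ≫ h = D.i) {c : D.idx}
    (hc : c ∈ tanRoots D h) : ∃ v : Red.Ga S ⟶ H, v ≫ h = D.u c := by
  haveI := hh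
  haveI : Mono h := Over.mono_of_mono_left h
  haveI := (affSmooth_ga (S := S)).1
  refine exists_lift_of_univ h (D.u c) fun R _ j _ => ?_
  obtain ⟨Q⟩ := exists_eqns j h (cellList eneg epos) hh (isOpenImmersion_chart hneg hpos)
  rw [← gp_gv (univ j (Red.Ga S))]
  exact root_mem_local hneg hpos hh t ht Q hc _

include hneg hpos in
theorem mem_tanRoots_of_hom {c : D.idx} (v : Red.Ga S ⟶ H) (hv : v ≫ h = D.u c) : c ∈ tanRoots D h := fun s => by
  refine ⟨gp (Red.geomPt s) DualNumber.eps ≫ v, ?_⟩
  show (_ ≫ v) ≫ h = _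
  rw [Category.assoc, hv]

include hneg hpos in
theorem mem_tanRoots_iff [Nonempty S] (hh : IsImmersion h.left) [Smooth H.hom] (t : D.T ⟶ H) (ht : t ≫ h = D.i)
    (c : D.idx) : (∃ v : Red.Ga S ⟶ H, v ≫ h = D.u c) ↔ c ∈ tanRoots D h :=
  ⟨fun ⟨v, hv⟩ => mem_tanRoots_of_hom hneg hpos v hv, exists_rootHom hneg hpos hh t ht⟩

end Groth.L14.TypeR
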