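import Groth.Agent.L14.TypeR.Contain

/-!
A subgroup containing the torus whose roots are positive is the torus times the root groups of its roots.
-/

set_option autoImplicit false
universe u

open CategoryTheory CategoryTheory.Limits AlgebraicGeometry MonoidalCategory CartesianMonoidalCategory MonObj
open Groth.L14.RankOne Groth.L25 Groth.L14.Chart Groth.L14.Chev.Cell

set_option backward.isDefEq.respectTransparency.types false
set_option linter.style.haveILetI false
set_option linter.unusedSectionVars false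
set_option maxHeartbeats 1000000

noncomputable section

namespace Groth.L14.TypeR

variable {S : Scheme.{u}} {G H : Over S} [GrpObj G] [GrpObj H] {D : Red.SplitRed G} {h : H ⟶ G} [IsMonHom h]
  {b : D.P.Base} {R' : Set D.idx} {m : ℕ} {e : Fin m → D.idx}

/-- The inclusion of a Borel parametrisation for fewer roots. -/
def borelIncl (D : Red.SplitRed G) (m l : ℕ) :
    D.T ⊗ RedSub.pow (Red.Ga S) m ⟶ D.T ⊗ RedSub.pow (Red.Ga S) (m + l) := lift (fst _ _) (snd _ _ ≫ pad m l)

/-- The projection of a Borel parametrisation onto the first roots. -/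
def borelProj (D : Red.SplitRed G) (m l : ℕ) :
    D.T ⊗ RedSub.pow (Red.Ga S) (m + l) ⟶ D.T ⊗ RedSub.pow (Red.Ga S) m := lift (fst _ _) (snd _ _ ≫ unpad m l)

theorem borelIncl_proj {l : ℕ} : borelIncl D m l ≫ borelProj D m l = 𝟙 _ := by
  apply CartesianMonoidalCategory.hom_ext
  · rw [Category.assoc, borelProj, lift_fst, borelIncl, lift_fst]
    exact (Category.id_comp _).symm
  · rw [Category.assoc, borelProj, lift_snd, borelIncl, lift_snd_assoc]
    exact ((Category.assoc _ _ _).trans ((congrArg _ (pad_unpad m l)).trans (Category.comp_id _))).trans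
      (Category.id_comp _).symm

theorem borelIncl_borelMap {l : ℕ} (e' : Fin l → D.idx) :
    borelIncl D m l ≫ RedSub.borelMap D (Fin.append e e') = RedSub.borelMap D e := by
  refine (comp_borelMap D _ _).trans ((comp_borelMap D e (𝟙 _)).symm.trans (Category.id_comp _) |> fun he => ?_)
  rw [← he]
  simp only [borelIncl, lift_fst, lift_snd, comp_pad_prod, Fin.append_left, Category.id_comp]

variable (hh : IsImmersion h.left) [Smooth H.hom] (hconn : RedSub.HasConnectedFibres H)
  (t : D.T ⟶ H) (ht : t ≫ h = D.i) (hR' : ∀ a : D.idx, (∃ v : Red.Ga S ⟶ H, v ≫ h = D.u a) ↔ a ∈ R')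
  (hsub : R' ⊆ RedSub.posRoots D.P b) (he : RedSub.Enumerates R' e)

include hh hconn ht hR' hsub he in
theorem coords_zero [PreconnectedSpace S] [Nonempty S] {R : Type u} [CommRing R]
    {j : Spec (CommRingCat.of R) ⟶ S} [IsOpenImmersion j] {C : Type u} [CommRing C] [Algebra R C] {M : ℕ}
    {E : Fin M → D.idx} (hE : RedSub.Enumerates (RedSub.posRoots D.P b) E) (χ : Multiplicative D.M →* C)
    (z : D.idx → C) (hmem : (tpt D j χ ≫ D.i) * rootProd j D.u (List.ofFn E) z ∈ HP j C h) :
    ∀ c ∈ RedSub.posRoots D.P b, c ∉ R' → z c = 0 := by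
  classical
  haveI : ∀ c, IsMonHom (D.u c) := fun c => (D.rootHom c).1
  obtain ⟨n, en, hen⟩ := exists_enum (D := D) (RedSub.negRoots D.P b)
  intro c hc hcR
  let x : D.idx → C := fun a => if a ∈ RedSub.posRoots D.P b then z a else 0
  have hx : chart j D.u (cellList en E) (⟨χ, x⟩ : Coord D C) =
      (tpt D j χ ≫ D.i) * rootProd j D.u (List.ofFn E) z := by
    obtain ⟨lam, hl⟩ := hasLam b
    rw [chart, show rootProd j D.u (cellList en E) x = rootProd j D.u (List.ofFn en) x * rootProd j D.u (List.ofFn E) x by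
      simp only [rootProd, List.map_append, List.prod_append],
      rootProd_eq_one j fun a ha => if_neg fun hp => by
        have := (hl a).1 hp
        have := (hl a).2 ((mem_list_iff hen a).1 ha)
        omega,
      _root_.one_mul]
    congr 1
    exact congrArg List.prod (List.map_congr_left fun a ha => by
      show gp j (x a) ≫ D.u a = _
      rw [show x a = z a from if_pos ((mem_list_iff hE a).1 ha)])
  have := cell_roots hen hE hh hconn t ht ⟨χ, x⟩ (hx ▸ hmem) c fun hc' =>
    hcR ((hR' c).1 ((mem_tanRoots_iff hen hE hh t ht c).2 hc'))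
  simpa [x, hc] using this

include hh hconn ht hR' hsub he in
/-- A subgroup with positive roots is the torus times its root groups. -/
theorem exists_borel_iso [PreconnectedSpace S] [Nonempty S] :
    ∃ φ : D.T ⊗ RedSub.pow (Red.Ga S) m ≅ H, φ.hom ≫ h = RedSub.borelMap D e := by
  classical
  haveI := hh
  haveI : Mono h := Over.mono_of_mono_left h
  haveI : ∀ c, IsMonHom (D.u c) := fun c => (D.rootHom c).1
  haveI := isMonHom_i (D := D)
  obtain ⟨lam, hl⟩ := hasLam b
  have hneg : RedSub.Enumerates (R' ∩ RedSub.negRoots D.P b) (Fin.elim0 : Fin 0 → D.idx) := by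
    refine ⟨fun i => i.elim0, ?_⟩
    rw [Set.range_eq_empty, eq_comm, Set.eq_empty_iff_forall_notMem]
    rintro a ⟨ha, ha'⟩
    have := (hl a).1 (hsub ha)
    have := (hl a).2 ha'
    omega
  have hpos : RedSub.Enumerates (R' ∩ RedSub.posRoots D.P b) e := by rwa [Set.inter_eq_left.2 hsub]
  obtain ⟨f₀, hf₀, hopen⟩ := exists_cell hh hconn t ht hR' hneg hpos
  obtain ⟨l, ep', hep'⟩ := exists_enum (D := D) (RedSub.posRoots D.P b \ R')
  have hE : RedSub.Enumerates (RedSub.posRoots D.P b) (Fin.append e ep') :=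
    enum_append he hep' (fun a ha hb => hb.2 ha) (Set.union_sdiff_cancel hsub)
  obtain ⟨gB, hB⟩ := exists_grpObj_borel hE
  letI := gB
  haveI := hB
  haveI := isClosedImmersion_borelMap hE
  haveI := mono_borelMap hE
  let f : D.T ⊗ RedSub.pow (Red.Ga S) m ⟶ H := lift (tup 0 Fin.elim0) (𝟙 _) ≫ f₀
  have hcell : RedSub.cellMap D (Fin.elim0 : Fin 0 → D.idx) e = snd _ _ ≫ RedSub.borelMap D e := by
    show (fst _ _ ≫ (1 : RedSub.pow (Red.Ga S) 0 ⟶ G)) * _ = _
    rw [MonObj.comp_one, _root_.one_mul, RedSub.borelMap, MonObj.comp_mul]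
  have hf : f ≫ h = RedSub.borelMap D e := by
    show (_ ≫ f₀) ≫ h = _
    rw [Category.assoc, hf₀, hcell, lift_snd_assoc, Category.id_comp]
  obtain ⟨F, hF⟩ := exists_hom_of_open h (RedSub.borelMap D (Fin.append e ep')) hconn f₀ (cellOrigin D 0 m)
    ((cancel_mono h).1 (by rw [Category.assoc, hf₀, cellOrigin_cellMap, MonObj.one_comp]))
    (snd _ _ ≫ borelIncl D m l)
    (by rw [Category.assoc, borelIncl_borelMap, hf₀, hcell])
  have hzero : F ≫ borelProj D m l ≫ borelIncl D m l = F := hom_ext_open fun R _ j _ C _ _ τ => by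
    obtain ⟨χ, z, hz, hτ⟩ := exists_borel_coords (τ ≫ F) hE.1
    rw [Category.assoc, hF] at hz
    have hmem : (tpt D j χ ≫ D.i) * rootProd j D.u (List.ofFn (Fin.append e ep')) z ∈ HP j C h :=
      mem_HP.2 ⟨τ, hz⟩
    rw [← Category.assoc, hτ]
    simp only [borelProj, borelIncl, comp_lift, lift_fst, lift_snd_assoc, Category.assoc]
    congr 1
    refine pow_ext fun i => ?_
    induction i using Fin.addCases with
    | left i => simp only [pad, unpad, Category.assoc, tup_proj, Fin.append_left]
    | right i =>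
      simp only [pad, Category.assoc, tup_proj, Fin.append_right, MonObj.comp_one]
      have hi : ep' i ∈ RedSub.posRoots D.P b \ R' := hep'.2 ▸ Set.mem_range_self i
      rw [coords_zero hh hconn t ht hR' hsub he hE χ z hmem _ hi.1 hi.2, gp_zero]
  have e1 : f ≫ F = borelIncl D m l :=
    (cancel_mono (RedSub.borelMap D (Fin.append e ep'))).1 (by rw [Category.assoc, hF, hf, borelIncl_borelMap])
  refine ⟨⟨f, F ≫ borelProj D m l, ?_, (cancel_mono h).1 ?_⟩, hf⟩
  · rw [← Category.assoc, e1, borelIncl_proj]
  · rw [Category.assoc, Category.assoc, hf, ← borelIncl_borelMap (e' := ep'), ← Category.assoc (borelProj D m l),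
      ← Category.assoc, hzero, hF, Category.id_comp]

end Groth.L14.TypeR
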