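import Groth.Agent.L14.TypeR.Stable

/-!
The symmetric and asymmetric parts of a closed set of roots.
-/

set_option autoImplicit false
universe u

open CategoryTheory CategoryTheory.Limits AlgebraicGeometry MonoidalCategory CartesianMonoidalCategory MonObj
open Groth.L14.RankOne Groth.L25 Groth.L14.Chart Groth.L14.Chev.Cell

set_option backward.isDefEq.respectTransparency.types false
set_option linter.style.haveILetI false
set_option linter.unusedSectionVars false

noncomputable section

namespace Groth.L14.TypeR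

variable {S : Scheme.{u}} {G : Over S} [GrpObj G] {D : Red.SplitRed G} {R' : Set D.idx}

/-- The opposite root. -/
abbrev opp (D : Red.SplitRed G) (a : D.idx) : D.idx := D.P.reflectionPerm a a

theorem root_opp (a : D.idx) : D.P.root (opp D a) = -D.P.root a := Groth.L24.RootD.root_neg (P := D.P) a

/-- The roots whose opposite is also in the set. -/
def symPart (D : Red.SplitRed G) (R' : Set D.idx) : Set D.idx := {a | a ∈ R' ∧ opp D a ∈ R'}

/-- The roots whose opposite is not in the set. -/
def asymPart (D : Red.SplitRed G) (R' : Set D.idx) : Set D.idx := {a | a ∈ R' ∧ opp D a ∉ R'}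

theorem opp_opp (a : D.idx) : opp D (opp D a) = a :=
  D.P.root.injective (by rw [root_opp, root_opp, neg_neg])

theorem opp_mem_symPart {a : D.idx} (ha : a ∈ symPart D R') : opp D a ∈ symPart D R' :=
  ⟨ha.2, by rw [opp_opp]; exact ha.1⟩

variable (hcl : ∀ a b c : D.idx, a ∈ R' → b ∈ R' → D.P.root a + D.P.root b = D.P.root c → c ∈ R')

include hcl in
theorem mem_of_natSpan {c : D.idx} (h : D.P.root c ∈ _root_.RootD.natSpan D.P R') : c ∈ R' := by
  haveI : Finite D.idx := Finite.of_fintype _
  haveI := Chart.RootCombo.isCrystallographic D.P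
  exact Groth.L24.RootD.mem_of_closed_of_mem_natSpan (fun x y z hx hy hz => hcl x y z hx hy hz.symm) h

include hcl in
theorem add_mem_asymPart {a b c : D.idx} (ha : a ∈ asymPart D R') (hb : b ∈ R')
    (h : D.P.root a + D.P.root b = D.P.root c) : c ∈ asymPart D R' := by
  refine ⟨hcl a b c ha.1 hb h, fun hc => ha.2 (hcl _ b _ hc hb ?_)⟩
  rw [root_opp, root_opp, ← h]
  abel

include hcl in
theorem noOpp_asymPart : NoOpp D (asymPart D R') :=
  ⟨fun a b c ha hb h => add_mem_asymPart hcl ha hb.1 h, fun a b ha h hb => ha.2 (by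
    have : opp D a = b := D.P.root.injective (by rw [root_opp, h])
    exact this ▸ hb.1)⟩

include hcl in
theorem stab_asymPart [Nonempty S] {a : D.idx} (ha : a ∈ R') : Stab D a (asymPart D R') :=
  stab_of_mix (noOpp_asymPart hcl).1 (fun _ _ hx h => add_mem_asymPart hcl hx ha h) fun x hx h => hx.2 (by
    have : opp D x = a := D.P.root.injective (by rw [root_opp, h, neg_neg])
    exact this ▸ ha)

theorem zsmul_mem_natSpan {b : D.idx} (hb : b ∈ R') (hb' : opp D b ∈ R') (z : ℤ) :
    z • D.P.root b ∈ _root_.RootD.natSpan D.P R' := by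
  rcases Int.eq_nat_or_neg z with ⟨n, rfl | rfl⟩
  · rw [natCast_zsmul]; exact nsmul_mem (Groth.L24.RootD.root_mem_natSpan hb) n
  · rw [neg_smul, natCast_zsmul, ← smul_neg, ← root_opp]
    exact nsmul_mem (Groth.L24.RootD.root_mem_natSpan hb') n

theorem pairing_reflectionPerm (a b : D.idx) :
    D.P.pairing (D.P.reflectionPerm b a) b = -D.P.pairing a b := by
  rw [← D.P.root_coroot'_eq_pairing, D.P.root_reflectionPerm b a,
    D.P.reflection_apply_root, map_sub, map_smul, D.P.root_coroot'_eq_pairing, D.P.root_coroot'_eq_pairing,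
    D.P.pairing_same, smul_eq_mul]
  ring

include hcl in
theorem reflect_asymPart {a b : D.idx} (ha : a ∈ asymPart D R') (hb : b ∈ symPart D R') :
    D.P.reflectionPerm b a ∈ asymPart D R' := by
  have hz : ∀ z : ℤ, z • D.P.root b ∈ _root_.RootD.natSpan D.P R' := zsmul_mem_natSpan hb.1 hb.2
  refine ⟨mem_of_natSpan hcl ?_, fun hc => ha.2 (mem_of_natSpan hcl ?_)⟩
  · rw [D.P.root_reflectionPerm, D.P.reflection_apply_root, sub_eq_add_neg, ← neg_smul]
    exact add_mem (Groth.L24.RootD.root_mem_natSpan ha.1) (hz _)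
  · have h1 := add_mem (Groth.L24.RootD.root_mem_natSpan (P := D.P) hc) (hz (-D.P.pairing a b))
    rw [root_opp, D.P.root_reflectionPerm, D.P.reflection_apply_root] at h1
    rw [root_opp]
    convert h1 using 1
    rw [neg_smul]
    abel

theorem two_mul_rootForm (x : D.M) (b : D.idx) :
    2 * D.P.RootForm x (D.P.root b) = D.P.coroot' b x * D.P.RootForm (D.P.root b) (D.P.root b) := by
  have h := D.P.rootForm_reflection_reflection_apply b x (D.P.root b)
  rw [D.P.reflection_apply_self, D.P.reflection_apply, LinearMap.map_sub₂, LinearMap.map_smul₂, map_neg,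
    map_neg, smul_eq_mul] at h
  linarith

include hcl in
theorem sum_pairing_pos {s : Finset D.idx} (hs : ∀ a, a ∈ s ↔ a ∈ asymPart D R') {b : D.idx}
    (hb : b ∈ asymPart D R') : 0 < ∑ a ∈ s, D.P.pairing a b := by
  classical
  let N := s.filter fun a => D.P.pairing a b < 0
  let σ : D.idx → D.idx := fun a => D.P.reflectionPerm b a
  have hf : ∀ a, D.P.pairing (σ a) b = -D.P.pairing a b := fun a => pairing_reflectionPerm a b
  have hσ : N.image σ ⊆ (s \ N).erase b := by
    intro c hc
    obtain ⟨a, ha, rfl⟩ := Finset.mem_image.1 hc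
    obtain ⟨has, hneg⟩ := Finset.mem_filter.1 ha
    have ha' := (hs a).1 has
    refine Finset.mem_erase.2 ⟨fun e => hb.2 ?_, Finset.mem_sdiff.2 ⟨(hs _).2 ⟨mem_of_natSpan hcl ?_, fun hc' => ?_⟩, ?_⟩⟩
    · have : a = opp D b := by
        have h := congrArg (D.P.reflectionPerm b) e
        rwa [D.P.reflectionPerm_self] at h
      exact this ▸ ha'.1
    · obtain ⟨n, hn⟩ : ∃ n : ℕ, D.P.pairing a b = -(n : ℤ) := ⟨(-D.P.pairing a b).toNat, by omega⟩
      rw [show D.P.root (σ a) = _ from D.P.root_reflectionPerm b a, D.P.reflection_apply_root, hn, neg_smul,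
        natCast_zsmul, sub_neg_eq_add]
      exact add_mem (Groth.L24.RootD.root_mem_natSpan ha'.1) (nsmul_mem (Groth.L24.RootD.root_mem_natSpan hb.1) n)
    · refine ha'.2 (mem_of_natSpan hcl ?_)
      obtain ⟨n, hn⟩ : ∃ n : ℕ, D.P.pairing a b = -(n : ℤ) := ⟨(-D.P.pairing a b).toNat, by omega⟩
      have h1 := add_mem (Groth.L24.RootD.root_mem_natSpan (P := D.P) hc')
        (nsmul_mem (Groth.L24.RootD.root_mem_natSpan (P := D.P) hb.1) n)
      rw [root_opp, show D.P.root (σ a) = _ from D.P.root_reflectionPerm b a, D.P.reflection_apply_root, hn, neg_smul,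
        natCast_zsmul, sub_neg_eq_add] at h1
      rw [root_opp]
      convert h1 using 1
      abel
    · intro hN
      have := (Finset.mem_filter.1 hN).2
      rw [hf] at this
      omega
  have hnn : ∀ a ∈ (s \ N).erase b, 0 ≤ D.P.pairing a b := fun a ha => by
    obtain ⟨-, ha⟩ := Finset.mem_erase.1 ha
    obtain ⟨h1, h2⟩ := Finset.mem_sdiff.1 ha
    by_contra h3
    exact h2 (Finset.mem_filter.2 ⟨h1, by omega⟩)
  have hbN : b ∈ s \ N := Finset.mem_sdiff.2 ⟨(hs b).2 hb, fun h => by
    have := (Finset.mem_filter.1 h).2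
    rw [D.P.pairing_same] at this
    omega⟩
  have h1 := Finset.sum_le_sum_of_subset_of_nonneg hσ (fun a ha _ => hnn a ha)
  rw [Finset.sum_image fun a _ a' _ h => (D.P.reflectionPerm b).injective h] at h1
  rw [Finset.sum_congr rfl fun a _ => hf a, Finset.sum_neg_distrib] at h1
  have h2 : D.P.pairing b b + ∑ a ∈ (s \ N).erase b, D.P.pairing a b = ∑ a ∈ s \ N, D.P.pairing a b :=
    Finset.add_sum_erase _ (fun a => D.P.pairing a b) hbN
  have h3 : ∑ a ∈ s \ N, D.P.pairing a b + ∑ a ∈ N, D.P.pairing a b = ∑ a ∈ s, D.P.pairing a b :=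
    Finset.sum_sdiff (Finset.filter_subset _ _)
  rw [D.P.pairing_same] at h2
  omega

include hcl in
theorem sum_pairing_zero {s : Finset D.idx} (hs : ∀ a, a ∈ s ↔ a ∈ asymPart D R') {b : D.idx}
    (hb : b ∈ symPart D R') : ∑ a ∈ s, D.P.pairing a b = 0 := by
  classical
  have h : ∑ a ∈ s, D.P.pairing a b = ∑ a ∈ s, -D.P.pairing a b := by
    refine Finset.sum_nbij' (D.P.reflectionPerm b) (D.P.reflectionPerm b) ?_ ?_
      (fun a _ => D.P.reflectionPerm_self b a) (fun a _ => D.P.reflectionPerm_self b a) fun a _ => ?_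
    · exact fun a ha => (hs _).2 (reflect_asymPart hcl ((hs a).1 ha) hb)
    · exact fun a ha => (hs _).2 (reflect_asymPart hcl ((hs a).1 ha) hb)
    · rw [pairing_reflectionPerm, neg_neg]
  rw [Finset.sum_neg_distrib] at h
  omega

include hcl in
/-- A functional vanishing on the symmetric part and positive on the asymmetric part. -/
theorem exists_lam_levi : ∃ lam : D.M →+ ℤ, (∀ a ∈ symPart D R', lam (D.P.root a) = 0) ∧
    ∀ a ∈ asymPart D R', 0 < lam (D.P.root a) := by
  classical
  let s : Finset D.idx := Finset.univ.filter (· ∈ asymPart D R')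
  have hs : ∀ a, a ∈ s ↔ a ∈ asymPart D R' := fun a => by simp [s]
  let lam : D.M →+ ℤ := (D.P.RootForm (∑ a ∈ s, D.P.root a)).toAddMonoidHom
  have hlam : ∀ b, 2 * lam (D.P.root b) =
      (∑ a ∈ s, D.P.pairing a b) * D.P.RootForm (D.P.root b) (D.P.root b) := fun b => by
    show 2 * D.P.RootForm _ (D.P.root b) = _
    rw [two_mul_rootForm, map_sum]
    simp only [D.P.root_coroot'_eq_pairing]
  refine ⟨lam, fun a ha => ?_, fun a ha => ?_⟩
  · have := hlam a
    rw [sum_pairing_zero hcl hs ha, zero_mul] at this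
    omega
  · have h1 := sum_pairing_pos hcl hs ha
    have h2 : 0 < D.P.RootForm (D.P.root a) (D.P.root a) := by
      rw [D.P.rootForm_root_self]
      refine Finset.sum_pos' (fun i _ => mul_self_nonneg _) ⟨a, Finset.mem_univ _, ?_⟩
      rw [D.P.pairing_same]
      norm_num
    have := mul_pos h1 h2
    have := hlam a
    omega

include hcl in
/-- The asymmetric part with one half of the symmetric part. -/
theorem noOpp_half (lam : D.M →+ ℤ) :
    NoOpp D {a | a ∈ asymPart D R' ∨ (a ∈ symPart D R' ∧ 0 < lam (D.P.root a))} := by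
  refine ⟨fun a b c ha hb h => ?_, fun a b ha h hb => ?_⟩
  · rcases ha with ha | ha
    · exact Or.inl (add_mem_asymPart hcl ha (hb.elim (·.1) (·.1.1)) h)
    rcases hb with hb | hb
    · exact Or.inl (add_mem_asymPart hcl hb ha.1.1 (by rw [add_comm, h]))
    · refine Or.inr ⟨⟨hcl a b c ha.1.1 hb.1.1 h, hcl _ _ _ ha.1.2 hb.1.2 ?_⟩, ?_⟩
      · rw [root_opp, root_opp, root_opp, ← h, neg_add]
      · rw [← h, map_add]
        exact add_pos ha.2 hb.2
  · have hb' : opp D a = b := D.P.root.injective (by rw [root_opp, h])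
    rcases ha with ha | ha
    · exact ha.2 (hb' ▸ hb.elim (·.1) (·.1.1))
    · rcases hb with hb | hb
      · exact hb.2 (by rw [← hb', opp_opp]; exact ha.1.1)
      · have := hb.2
        rw [← hb', root_opp, map_neg] at this
        linarith [ha.2]

end Groth.L14.TypeR
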