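import Groth.Agent.L14.TypeR.Contain
import Groth.Agent.L14.TypeR.LeviRoots
import Groth.Agent.L25.GaPts
import Groth.Agent.L08.TorusWeights.Radical

/-!
Torus points killing the roots of a subgroup commute with it.
-/

set_option autoImplicit false
universe u

open CategoryTheory CategoryTheory.Limits AlgebraicGeometry MonoidalCategory CartesianMonoidalCategory MonObj
open Groth.L14.RankOne Groth.L25 Groth.L14.Chart Groth.L14.Chev.Cell

set_option backward.isDefEq.respectTransparency.types false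
set_option linter.style.haveILetI false
set_option linter.unusedSectionVars false
set_option maxHeartbeats 1000000

noncomputable section

namespace Groth.L14.TypeR

variable {S : Scheme.{u}} {G H : Over S} [GrpObj G] [GrpObj H] {D : Red.SplitRed G} {h : H ⟶ G} [IsMonHom h]
  {R' : Set D.idx}

/-- A torus point killing a root commutes with the root group. -/
theorem commute_root {Y : Over S} (τ : Y ⟶ D.T) (a : D.idx)
    (hτ : τ ≫ D.split.hom.hom.hom ≫ Red.chi S (D.P.root a) = 1) (x : Y ⟶ Red.Ga S) :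
    Commute (τ ≫ D.i) (x ≫ D.u a) := by
  obtain ⟨y, hy, hy'⟩ := (D.rootHom a).2.2 Y τ x
  rw [hτ] at hy'
  have h1 : Red.gmFn (1 : Y ⟶ Red.Gm S) = 1 := by
    simpa using congrArg id (GmPts.gmFn_one (T := Y))
  rw [h1, _root_.one_mul] at hy'
  have : y = x := GaPts.gaFn_injective hy'
  subst this
  exact (mul_inv_eq_iff_eq_mul.1 hy.symm)

/-- A torus point killing the roots of a subgroup commutes with it. -/
theorem commute_of_roots [PreconnectedSpace S] [Nonempty S] (hh : IsImmersion h.left) [Smooth H.hom]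
    (hconn : RedSub.HasConnectedFibres H) (t : D.T ⟶ H) (ht : t ≫ h = D.i)
    (hR' : ∀ a : D.idx, (∃ v : Red.Ga S ⟶ H, v ≫ h = D.u a) ↔ a ∈ R') (b : D.P.Base) {X : Over S} (τ : X ⟶ D.T)
    (hτ : ∀ a ∈ R', τ ≫ D.split.hom.hom.hom ≫ Red.chi S (D.P.root a) = 1) (y : X ⟶ H) :
    Commute (τ ≫ D.i) (y ≫ h) := by
  classical
  haveI := hh
  haveI : Mono h := Over.mono_of_mono_left h
  haveI := isMonHom_i (D := D)
  haveI : ∀ c, IsMonHom (D.u c) := fun c => (D.rootHom c).1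
  have hIrr : Groth.L02.SchDom.IrrFib H.hom := Groth.L02.SchDom.irrFib_of_group H fun s =>
    Groth.L02.SchDom.connectedSpace_fiber_of_isConnected H.hom s (hconn s)
  let l₁ : X ⊗ H ⟶ G := (fst _ _ ≫ τ ≫ D.i) * (snd _ _ ≫ h)
  let l₂ : X ⊗ H ⟶ G := (snd _ _ ≫ h) * (fst _ _ ≫ τ ≫ D.i)
  let P : Over S := Over.mk (equalizer.ι l₁.left l₂.left ≫ (X ⊗ H).hom)
  let ι₀ : P ⟶ X ⊗ H := Over.homMk (equalizer.ι l₁.left l₂.left)
  haveI : Mono ι₀.left := inferInstanceAs (Mono (equalizer.ι l₁.left l₂.left))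
  have hι : ι₀ ≫ l₁ = ι₀ ≫ l₂ := Over.OverMorphism.ext (equalizer.condition _ _)
  have hchar : ∀ (W : Over S) (g : W ⟶ X) (c : W ⟶ H),
      (∃ p, p ≫ ι₀ = lift g c) ↔ Commute (g ≫ τ ≫ D.i) (c ≫ h) := by
    intro W g c
    have e : ∀ w : W ⟶ X ⊗ H, w ≫ l₁ = w ≫ l₂ ↔ Commute (w ≫ fst _ _ ≫ τ ≫ D.i) (w ≫ snd _ _ ≫ h) := fun w => by
      simp only [l₁, l₂, MonObj.comp_mul]; rfl
    refine ⟨fun ⟨p, hp⟩ => ?_, fun hc => ?_⟩
    · have := (e (lift g c)).1 (by rw [← hp, Category.assoc, Category.assoc, hι])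
      rwa [lift_fst_assoc, lift_snd_assoc] at this
    · have := (e (lift g c)).2 (by rwa [lift_fst_assoc, lift_snd_assoc])
      exact ⟨Over.homMk (equalizer.lift (lift g c).left (congrArg CommaMorphism.left this)) (by
        show _ ≫ equalizer.ι _ _ ≫ _ = _
        rw [equalizer.lift_ι_assoc, Over.w (lift g c)]), Over.OverMorphism.ext (equalizer.lift_ι _ _)⟩
  obtain ⟨n, en, hen⟩ := exists_enum (D := D) (R' ∩ RedSub.negRoots D.P b)
  obtain ⟨m, ep, hep⟩ := exists_enum (D := D) (R' ∩ RedSub.posRoots D.P b)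
  obtain ⟨f₀, hf₀, hopen⟩ := exists_cell hh hconn t ht hR' hen hep
  have hcell : ∀ (W : Over S) (g : W ⟶ X) (c : W ⟶ cellSpace D n m),
      Commute (g ≫ τ ≫ D.i) (c ≫ RedSub.cellMap D en ep) := by
    intro W g c
    have hr : ∀ a ∈ R', ∀ x : W ⟶ Red.Ga S, Commute (g ≫ τ ≫ D.i) (x ≫ D.u a) := fun a ha x => by
      rw [← Category.assoc]
      exact commute_root (g ≫ τ) a (by rw [Category.assoc, hτ a ha, MonObj.comp_one]) x
    rw [comp_cellMap]
    refine Commute.mul_right (Commute.list_prod_right _ _ fun x hx => ?_)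
      (Commute.mul_right ?_ (Commute.list_prod_right _ _ fun x hx => ?_))
    · obtain ⟨i, rfl⟩ := List.mem_ofFn.1 hx
      exact hr _ (hen.2 ▸ Set.mem_range_self i : en i ∈ R' ∩ _).1 _
    · rw [← Category.assoc, ← Category.assoc]
      show _ * _ = _ * _
      rw [← MonObj.mul_comp, ← MonObj.mul_comp, Groth.L08.TorusWeights.torus_comm D.maximalTorus.2.2.1]
    · obtain ⟨i, rfl⟩ := List.mem_ofFn.1 hx
      exact hr _ (hep.2 ▸ Set.mem_range_self i : ep i ∈ R' ∩ _).1 _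
  let V : (X ⊗ H).left.Opens := (snd X H).left ⁻¹ᵁ f₀.left.opensRange
  let oV : Over.mk (V.ι ≫ (X ⊗ H).hom) ⟶ X ⊗ H := Over.homMk V.ι
  have hrV : Set.range (oV ≫ snd _ _).left ⊆ Set.range f₀.left := by
    rintro _ ⟨x, rfl⟩
    exact x.2
  let q : Over.mk (V.ι ≫ (X ⊗ H).hom) ⟶ cellSpace D n m :=
    Over.homMk (IsOpenImmersion.lift f₀.left (oV ≫ snd _ _).left hrV) (by
      rw [← Over.w f₀, IsOpenImmersion.lift_fac_assoc, Over.w (oV ≫ snd _ _)])
  have hq : q ≫ f₀ = oV ≫ snd _ _ := Over.OverMorphism.ext (IsOpenImmersion.lift_fac _ _ _)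
  have hoV : lift (oV ≫ fst _ _) (oV ≫ snd _ _) = oV :=
    (comp_lift oV (fst _ _) (snd _ _)).symm.trans (by rw [lift_fst_snd, Category.comp_id])
  obtain ⟨p, hp⟩ := (hchar _ (oV ≫ fst _ _) (oV ≫ snd _ _)).2 (by
    rw [← hq, Category.assoc q, hf₀]
    exact hcell _ _ q)
  rw [hoV] at hp
  have horig : cellOrigin D n m ≫ f₀ = 1 := (cancel_mono h).1 (by
    rw [Category.assoc, hf₀, cellOrigin_cellMap, MonObj.one_comp])
  obtain ⟨l, hl⟩ := Groth.L02.SchDom.factors_of_open_subgroup hIrr ι₀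
    (fun W g a c ha hc => (hchar W g _).2 (by
      rw [MonObj.mul_comp]
      exact ((hchar W g a).1 ha).mul_right ((hchar W g c).1 hc)))
    (𝟙 X) V (by
      rintro _ ⟨x, rfl⟩
      refine ⟨(toUnit X ≫ cellOrigin D n m).left x, ?_⟩
      show ((toUnit X ≫ cellOrigin D n m) ≫ f₀).left x = (lift (𝟙 _) (1 : X ⟶ H) ≫ snd _ _).left x
      rw [Category.assoc, horig, MonObj.comp_one, lift_snd])
    ⟨p.left, by rw [id_whiskerRight, ← Over.comp_left, hp]; exact (Category.comp_id _).symm⟩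
  rw [id_whiskerRight] at hl
  let P' : X ⊗ H ⟶ P := Over.homMk l (by
    rw [← Over.w ι₀, reassoc_of% hl]
    exact Category.id_comp _)
  have hP' : P' ≫ ι₀ = 𝟙 _ := Over.OverMorphism.ext hl
  have := (hchar X (𝟙 X) y).1 ⟨lift (𝟙 X) y ≫ P', by rw [Category.assoc, hP', Category.comp_id]⟩
  rwa [Category.id_comp] at this

theorem tpt_char_eq_one {R : Type u} [CommRing R] {j : Spec (CommRingCat.of R) ⟶ S} {C : Type u} [CommRing C]
    [Algebra R C] (χ : Multiplicative D.M →* C) (a : D.idx) (h1 : χ (Multiplicative.ofAdd (D.P.root a)) = 1) :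
    tpt D j χ ≫ D.split.hom.hom.hom ≫ Red.chi S (D.P.root a) = 1 := by
  refine DSPts.char_injective (MonoidHom.ext fun k => ?_)
  rw [← Category.assoc, tpt_hom, Red.chi, SplitSub.char_DSmap, DSPts.char_pt, DSPts.char_one]
  show (Scheme.ΓSpecIso (CommRingCat.of C)).inv (χ (Multiplicative.ofAdd ((zmultiplesHom D.M (D.P.root a)) k.toAdd))) = 1
  rw [zmultiplesHom_apply, ofAdd_zsmul]
  have : χ (Multiplicative.ofAdd (D.P.root a) ^ k.toAdd) = 1 := by
    obtain ⟨u, hu⟩ : ∃ u : Multiplicative D.M →* Cˣ, ∀ x, (u x : C) = χ x :=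
      ⟨χ.toHomUnits, fun x => MonoidHom.coe_toHomUnits χ x⟩
    rw [← hu, map_zpow, show u (Multiplicative.ofAdd (D.P.root a)) = 1 from Units.ext ((hu _).trans h1), one_zpow,
      Units.val_one]
  rw [this]
  exact map_one _

end Groth.L14.TypeR
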