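import Groth.Agent.L14.TypeR.LeviFibre
import Groth.Agent.L14.TypeR.LeviComm
import Groth.Agent.L08.Borel.Orbit
import Groth.Agent.L14.Luna.CentRed
import Groth.Agent.L14.AlmostSimple.Torus

/-!
A subgroup containing the torus without two opposite roots has solvable geometric fibres.
-/

set_option autoImplicit false
universe u

open CategoryTheory CategoryTheory.Limits AlgebraicGeometry MonoidalCategory CartesianMonoidalCategory MonObj
open Groth.L14.RankOne Groth.L25 Groth.L14.Chart Groth.L14.Chev.Cell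
open Groth.L08.Borel (ptOf exists_pt_mem exists_pt_lift)

set_option backward.isDefEq.respectTransparency.types false
set_option linter.style.haveILetI false
set_option linter.unusedSectionVars false
set_option maxHeartbeats 2000000

noncomputable section

namespace Groth.L14.TypeR

theorem isConnected_irrFib {S : Scheme.{u}} {H : Over S} [GrpObj H] [Smooth H.hom]
    (hconn : RedSub.HasConnectedFibres H) {K : Type u} [Field K] [IsAlgClosed K]
    (q : Spec (CommRingCat.of K) ⟶ S) : IrreducibleSpace (Red.bc q H).left :=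
  Groth.L02.SchDom.irrFib_of_group H
    (fun s => Groth.L02.SchDom.connectedSpace_fiber_of_isConnected H.hom s (hconn s)) K q

theorem isClosedImmersion_bc_immersion {S : Scheme.{u}} {G H : Over S} [GrpObj G] [GrpObj H] {h : H ⟶ G}
    [IsMonHom h] (hh : IsImmersion h.left) {K : Type u} [Field K] (q : Spec (CommRingCat.of K) ⟶ S) :
    IsClosedImmersion ((Over.pullback q).map h).left := by
  haveI := isMonHom_bcMap q h
  haveI : IsImmersion ((Over.pullback q).map h).left :=
    MorphismProperty.overPullbackMap (P := @IsImmersion) q h hh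
  exact GenWords.isClosedImmersion_of_isImmersion _

theorem isClosedImmersion_i {S : Scheme.{u}} {G : Over S} [GrpObj G] (D : Red.SplitRed G) :
    IsClosedImmersion D.i.left := by
  haveI := D.maximalTorus.1; haveI := D.maximalTorus.2.1
  haveI : IsAffineHom G.hom := reductive_affine D
  exact Locus.isClosedImmersion_of_mono
    (Locus.locally_of_multTypeFT (Locus.isMultTypeFT_of_isTorus D.maximalTorus.2.2.1)) D.i

theorem comp_DSmap_zero {S : Scheme.{u}} {M N : Type} [AddCommGroup M] [AddCommGroup N] {X : Over S}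
    (t : X ⟶ Red.DS S N) : t ≫ Red.DSmap S (0 : M →+ N) = 1 := by
  refine DSPts.char_injective (MonoidHom.ext fun k => ?_)
  rw [SplitSub.char_DSmap, DSPts.char_one]
  exact map_one (DSPts.char t)

variable {S : Scheme.{u}} [PreconnectedSpace S] [Nonempty S] {G H : Over S} [GrpObj G] [GrpObj H]
  {D : Red.SplitRed G} {h : H ⟶ G} [IsMonHom h] {R' : Set D.idx}
  (hh : IsImmersion h.left) [Smooth H.hom] [QuasiCompact H.hom] (hconn : RedSub.HasConnectedFibres H)
  (t : D.T ⟶ H) (ht : t ≫ h = D.i)
  (hR' : ∀ a : D.idx, (∃ v : Red.Ga S ⟶ H, v ≫ h = D.u a) ↔ a ∈ R')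
  {R : Type u} [CommRing R] {j : Spec (CommRingCat.of R) ⟶ S} [IsOpenImmersion j]
  {K : Type u} [Field K] [IsAlgClosed K] [Algebra R K]

include hh hconn ht hR' in
/-- Every root group of a subgroup without opposite roots lies in every Borel subgroup containing the torus. -/
theorem root_le_borel {c : D.idx} (hc : c ∈ R') (hc' : opp D c ∉ R') {B : Over (Spec (CommRingCat.of K))} [GrpObj B]
    {iB : B ⟶ Red.bc (qK j K) H} (hB : Red.IsBorelOver K iB) (tB : Red.bc (qK j K) D.T ⟶ B)
    (htB : tB ≫ iB = (Over.pullback (qK j K)).map t) (y : K) :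
    ∃ x : 𝟙_ (Over (Spec (CommRingCat.of K))) ⟶ B,
      ptBC j K (x ≫ iB ≫ (Over.pullback (qK j K)).map h) = gp j y ≫ D.u c := by
  classical
  haveI := hh
  haveI : Mono h := Over.mono_of_mono_left h
  haveI := reductive_affine D
  haveI := reductive_smooth D
  haveI := isMonHom_i (D := D)
  haveI : ∀ c, IsMonHom (D.u c) := fun c => (D.rootHom c).1
  haveI : Finite D.idx := Finite.of_fintype _
  haveI := D.maximalTorus.2.1
  haveI : IsMonHom t := Groth.L25.Bridge.isMonHom_of_mul _ fun Y a c => (cancel_mono h).1 (by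
    rw [Category.assoc, ht, MonObj.mul_comp, MonObj.mul_comp, Category.assoc, Category.assoc, ht])
  haveI : Mono t := by haveI : Mono (t ≫ h) := ht ▸ inferInstance; exact mono_of_mono t h
  let q := qK j K
  let HK := Red.bc q H
  let hK : HK ⟶ Red.bc q G := (Over.pullback q).map h
  haveI : IsMonHom hK := isMonHom_bcMap q h
  haveI : IsClosedImmersion hK.left := isClosedImmersion_bc_immersion hh q
  haveI : IsAffineHom (Red.bc q G).hom := MorphismProperty.pullback_snd _ _ ‹IsAffineHom G.hom›
  haveI : IsAffine (Red.bc q G).left := isAffine_of_isAffineHom (Red.bc q G).hom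
  haveI : IsAffine HK.left := isAffine_of_isAffineHom hK.left
  haveI : Smooth HK.hom := MorphismProperty.pullback_snd _ _ ‹Smooth H.hom›
  haveI : Smooth (Red.bc q G).hom := MorphismProperty.pullback_snd _ _ ‹Smooth G.hom›
  haveI : IrreducibleSpace HK.left := isConnected_irrFib hconn q
  haveI : ConnectedSpace HK.left := inferInstance
  haveI := hB.1; haveI := hB.2.1; haveI := hB.2.2.1; haveI := hB.2.2.2.1
  haveI : Mono iB := Groth.L08.mono_of_closedImmersion iB
  obtain ⟨b, hb⟩ : ∃ b : D.P.Base, c ∈ RedSub.posRoots D.P b := by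
    obtain ⟨b₀⟩ := Groth.L14.AlmostSimple.exists_base D
    rcases pos_or_neg D.P b₀ c with hp | hn
    · exact ⟨b₀, hp⟩
    · exact ⟨negBase D.P b₀, by rw [posRoots_negBase]; exact hn⟩
  -- the singular subtorus
  obtain ⟨f₀, hf₀c, hf₀⟩ := exists_functional_avoid (c := D.P.root c)
    ((Finset.univ.filter fun d => d ≠ c ∧ D.P.root d ≠ -D.P.root c).image D.P.root) fun d hd => by
      obtain ⟨d', hd', rfl⟩ := Finset.mem_image.1 hd
      obtain ⟨-, h1, h2⟩ := Finset.mem_filter.1 hd'
      exact fun p r hp e => (eq_or_neg_of_dep D.P b hp e).elim h1 h2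
  obtain ⟨f, hfp, hf⟩ := exists_primitive f₀
  have hfc : f (D.P.root c) = 0 := (hf _).2 hf₀c
  have hfd : ∀ d, d ≠ c → D.P.root d ≠ -D.P.root c → f (D.P.root d) ≠ 0 := fun d h1 h2 h =>
    hf₀ _ (Finset.mem_image.2 ⟨d, Finset.mem_filter.2 ⟨Finset.mem_univ _, h1, h2⟩, rfl⟩) ((hf _).1 h)
  obtain ⟨r, φ, a, hφ, hker, ha⟩ : ∃ (r : ℕ) (φ : D.M →+ (Fin r → ℤ)) (a : (Fin r → ℤ) →+ ℤ),
      Function.Surjective φ ∧ (∀ x, f x = 0 → φ x = 0) ∧ ∀ x, a (φ x) = f x := by
    rcases hfp with h | h
    · exact ⟨0, 0, 0, fun v => ⟨0, Subsingleton.elim _ _⟩, fun x _ => rfl, fun x => by simp [h]⟩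
    · exact ⟨1, AddMonoidHom.mk' (fun x _ => f x) (fun a c => funext fun _ => map_add f a c),
        Pi.evalAddMonoidHom (fun _ => ℤ) 0,
        fun v => (h (v 0)).imp fun x hx => funext fun i => by rw [Subsingleton.elim i 0]; exact hx,
        fun x hx => funext fun _ => hx, fun x => rfl⟩
  let T' := Red.DS S (Fin r → ℤ)
  let ιT : T' ⟶ D.T := Red.DSmap S φ ≫ D.split.inv.hom.hom
  haveI : IsMonHom ιT := inferInstanceAs (IsMonHom (Red.DSmap S φ ≫ D.split.inv.hom.hom))
  haveI : Mono ιT := by
    haveI : Mono (Red.DSmap S φ) := SplitSub.mono_DSmap φ hφ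
    haveI : IsIso D.split.inv.hom.hom := ⟨D.split.hom.hom.hom, split_inv_hom, split_hom_inv⟩
    exact mono_comp _ _
  let eT : Red.bc q T' ⟶ Red.bc q D.T := (Over.pullback q).map ιT
  let embH : Red.bc q T' ⟶ HK := eT ≫ (Over.pullback q).map t
  haveI : IsMonHom eT := isMonHom_bcMap q ιT
  haveI := isMonHom_bcMap q t
  haveI : IsMonHom embH := inferInstanceAs (IsMonHom (eT ≫ (Over.pullback q).map t))
  haveI : Mono embH := mono_comp _ _
  have hT' : Red.IsTorus (Red.bc q T') := Locus.isTorus_bc (Groth.L01.Unip.isTorus_DS S r) q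
  obtain ⟨Z, _, z, hz⟩ := Groth.L08.Borel.exists_centralizer_torus embH hT'
  obtain ⟨hzcl, hZaff, hZsm, hZcon, -, hcen⟩ := Groth.L08.Borel.centralizer_props hT' hz
  haveI := hzcl; haveI := hZaff; haveI := hZsm; haveI := hZcon; haveI := hz.1; haveI := hz.2.1
  haveI := ConnIrred.irreducibleSpace Z
  haveI : LocallyOfFiniteType Z.hom := inferInstance
  haveI : IsReduced Z.left := Groth.L25.GenWords.isReduced_of_smooth_field Z.hom
  -- the centralizer lies in a Borel subgroup of the ambient group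
  obtain ⟨n, eneg, hneg⟩ := exists_enum (D := D) (RedSub.negRoots D.P b)
  obtain ⟨m, epos, hpos⟩ := exists_enum (D := D) (RedSub.posRoots D.P b)
  obtain ⟨lv, hF⟩ := exists_filt_pos (D := D) b
  obtain ⟨lam, hl⟩ := hasLam b
  haveI := isOpenImmersion_cellMap hneg hpos
  haveI := isClosedImmersion_borelMap hpos
  let bK : Red.bc q (D.T ⊗ RedSub.pow (Red.Ga S) m) ⟶ Red.bc q G := (Over.pullback q).map (RedSub.borelMap D epos)
  haveI : IsClosedImmersion bK.left :=
    MorphismProperty.overPullbackMap (P := @IsClosedImmersion) q (RedSub.borelMap D epos) inferInstance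
  let zG : Z ⟶ Red.bc q G := z ≫ hK
  let W : Set Z.left := (zG.left ≫ pullback.fst G.hom q) ⁻¹' Set.range (RedSub.cellMap D eneg epos).left
  let Y : Set Z.left := zG.left ⁻¹' Set.range bK.left
  have hW : IsOpen W := (RedSub.cellMap D eneg epos).left.isOpenEmbedding.isOpen_range.preimage
    (Scheme.Hom.continuous _)
  have hY : IsClosed Y := bK.left.isClosedEmbedding.isClosed_range.preimage (Scheme.Hom.continuous _)
  have hW1 : ptOf (1 : 𝟙_ (Over (Spec (CommRingCat.of K))) ⟶ Z) ∈ W := by
    refine ⟨(toUnit (Sp j K) ≫ cellOrigin D n m).left (IsLocalRing.closedPoint K), ?_⟩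
    show ((toUnit (Sp j K) ≫ cellOrigin D n m) ≫ RedSub.cellMap D eneg epos).left _ =
      (pullback.fst G.hom q) (ptOf ((1 : 𝟙_ (Over (Spec (CommRingCat.of K))) ⟶ Z) ≫ zG))
    rw [Category.assoc, cellOrigin_cellMap, MonObj.comp_one, ← ptBC_closedPoint, MonObj.one_comp]
    exact congrArg (fun s : Sp j K ⟶ G => s.left (IsLocalRing.closedPoint K)) (map_one (ptHom j K G)).symm
  have hWY : ∀ w : 𝟙_ (Over (Spec (CommRingCat.of K))) ⟶ Z, ptOf w ∈ W → ptOf w ∈ Y := by
    intro w hw
    obtain ⟨tc, htc⟩ := exists_cell_of_range hneg hpos (ptBC j K (w ≫ zG)) (by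
      rw [ptBC_closedPoint]; exact hw)
    obtain ⟨d, hd⟩ := (toCell_bijective hneg hpos (j := j)).2 tc
    rw [← hd, toCell_cellMap] at htc
    have hmem : chart j D.u (cellList eneg epos) d ∈ HP j K h := by
      rw [htc]
      exact mem_HP.2 ⟨ptBC j K (w ≫ z), by rw [← ptBC_comp, Category.assoc]⟩
    have h0 : ∀ d' , d' ∉ R' → d.co d' = 0 := fun d' hd' => cell_roots hneg hpos hh hconn t ht d hmem d' fun hc'' =>
      hd' ((hR' d').1 ((mem_tanRoots_iff hneg hpos hh t ht d').2 hc''))
    have hfix : ∀ u : Kˣ, conjT D j (unitChar f u) (chart j D.u (cellList eneg epos) d) =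
        chart j D.u (cellList eneg epos) d := fun u => by
      let τ : Multiplicative (Fin r → ℤ) →* K :=
        { toFun := fun v => ((u ^ a v.toAdd : Kˣ) : K)
          map_one' := by simp
          map_mul' := fun v v' => by simp [toAdd_mul, map_add, zpow_add] }
      let s₀ : Sp j K ⟶ T' := DSPts.pt ((Scheme.ΓSpecIso (CommRingCat.of K)).inv.hom.toMonoidHom.comp τ)
      have hs₀ : s₀ ≫ ιT = tpt D j (unitChar f u) := by
        rw [show ιT = Red.DSmap S φ ≫ D.split.inv.hom.hom from rfl, tpt, ← Category.assoc s₀]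
        congr 1
        refine DSPts.char_injective (MonoidHom.ext fun v => ?_)
        rw [SplitSub.char_DSmap, DSPts.char_pt, DSPts.char_pt]
        exact congrArg (fun k => (Scheme.ΓSpecIso (CommRingCat.of K)).inv ((u ^ k : Kˣ) : K)) (ha v.toAdd)
      have h1 := congrArg (fun x => ptHom j K G (x ≫ hK)) (hcen _ w ((ptBC j K).symm s₀))
      simp only [MonObj.mul_comp, map_mul, Category.assoc] at h1
      simp only [ptHom, MonoidHom.coe_mk, OneHom.coe_mk, embH, eT, hK, Category.assoc, ← Functor.map_comp] at h1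
      rw [ptBC_comp (x := (ptBC j K).symm s₀), Equiv.apply_symm_apply, ht, ← Category.assoc s₀, hs₀] at h1
      rw [htc, conjT, mul_inv_eq_iff_eq_mul]
      exact h1.symm
    have hzero : ∀ d' , d' ≠ c → d.co d' = 0 := fun d' h1 => by
      by_cases h2 : D.P.root d' = -D.P.root c
      · refine h0 d' fun hd' => hc' ?_
        rwa [show opp D c = d' from D.P.root.injective ((root_opp c).trans h2.symm)]
      obtain ⟨u, hu⟩ := exists_unit_zpow_ne_one (K := K) (hfd d' h1 h2)
      have hco := hfix u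
      rw [chart, show rootProd j D.u (cellList eneg epos) d.co =
        rootProd j D.u (List.ofFn eneg) d.co * rootProd j D.u (List.ofFn epos) d.co by
        simp only [rootProd, List.map_append, List.prod_append]] at hco
      let χ' := d.tor
      have e1 : (tpt D j χ' ≫ D.i) * (rootProd j D.u (List.ofFn eneg) d.co * rootProd j D.u (List.ofFn epos) d.co) =
          rootProd j D.u (List.ofFn eneg) (fun e => χ' (Multiplicative.ofAdd (D.P.root e)) * d.co e) *
            ((tpt D j χ' ≫ D.i) * rootProd j D.u (List.ofFn epos) d.co) := by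
        rw [← conj_rootProd j D.rootHom]; group
      rw [e1, conjT_cell] at hco
      obtain ⟨-, hy, hx⟩ := cell_injective D.rootHom (mu := lam) (nodup_list hneg) (nodup_list hpos)
        (fun e he => (hl e).2 ((mem_list_iff hneg e).1 he)) (fun e he => (hl e).1 ((mem_list_iff hpos e).1 he)) hco
      by_contra hne
      have hu' : ∀ {x : K}, x ≠ 0 → unitChar f u (Multiplicative.ofAdd (D.P.root d')) * x = x → False :=
        fun {x} hx e => hu (mul_right_cancel₀ hx (e.trans (_root_.one_mul _).symm))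
      rcases pos_or_neg D.P b d' with hp | hn
      · exact hu' hne (hx d' ((mem_list_iff hpos d').2 hp))
      · refine hu' (mul_ne_zero ((Group.isUnit _).map χ').ne_zero hne) (hy d' ((mem_list_iff hneg d').2 hn))
    have hmemB : chart j D.u (cellList eneg epos) d ∈ borelPts D b j K lv := by
      refine ⟨d.tor, rootProd j D.u (cellList eneg epos) d.co, Subgroup.list_prod_mem _ fun x hx => ?_, rfl⟩
      obtain ⟨d', -, rfl⟩ := List.mem_map.1 hx
      by_cases hd' : d' = c
      · exact gp_mem_gen (hd' ▸ hb) (Nat.zero_le _) _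
      · rw [hzero d' hd', gp_zero, MonObj.one_comp]; exact one_mem _
    obtain ⟨τb, hτb⟩ := (mem_borelPts_iff hpos hF).1 hmemB
    refine ⟨ptOf ((ptBC j K).symm τb), ?_⟩
    show ptOf ((ptBC j K).symm τb ≫ bK) = ptOf (w ≫ zG)
    rw [ptBC_symm_comp, hτb, htc, Equiv.symm_apply_apply]
  have hYuniv : Y = Set.univ := by
    by_contra hne
    obtain ⟨p₀, hp₀⟩ := (Set.ne_univ_iff_exists_notMem _).1 hne
    obtain ⟨p, hpW, hpY⟩ := nonempty_preirreducible_inter hW hY.isOpen_compl ⟨_, hW1⟩ ⟨p₀, hp₀⟩
    obtain ⟨w, hw1, hw2⟩ := exists_pt_mem (X := Z) (hW.inter hY.isOpen_compl).isLocallyClosed ⟨p, hpW, hpY⟩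
    exact hw2 (hWY w hw1)
  obtain ⟨ζ, hζ⟩ := Groth.L14.Luna.exists_lift_of_points bK zG fun x => by
    haveI : LocallyOfFiniteType (Red.bc q (D.T ⊗ RedSub.pow (Red.Ga S) m)).hom := by
      haveI : Smooth (Red.bc q (D.T ⊗ RedSub.pow (Red.Ga S) m)).hom :=
        MorphismProperty.pullback_snd _ _ (affSmooth_borel D m).2
      infer_instance
    haveI : LocallyOfFiniteType (Red.bc q G).hom := inferInstance
    exact exists_pt_lift bK (x ≫ zG) (show ptOf x ∈ Y by rw [hYuniv]; trivial)
  obtain ⟨gP, hgP⟩ := exists_grpObj_borel hpos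
  letI := gP
  letI : MonObj (D.T ⊗ RedSub.pow (Red.Ga S) m) := gP.toMonObj
  haveI := hgP
  haveI : IsMonHom bK := isMonHom_bcMap q (RedSub.borelMap D epos)
  haveI : Mono bK := Groth.L08.mono_of_closedImmersion bK
  haveI : Mono hK := Groth.L08.mono_of_closedImmersion hK
  haveI : IsMonHom zG := inferInstanceAs (IsMonHom (z ≫ hK))
  haveI : IsMonHom ζ := Groth.L25.Bridge.isMonHom_of_mul _ fun Y a c => (cancel_mono bK).1 (by
    rw [Category.assoc, hζ, MonObj.mul_comp, MonObj.mul_comp, Category.assoc, Category.assoc, hζ])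
  haveI : Mono ζ := by
    haveI : Mono zG := mono_comp z hK
    haveI : Mono (ζ ≫ bK) := hζ ▸ inferInstance
    exact mono_of_mono ζ bK
  have hZsolv : Red.IsSolvableGrp Z :=
    Groth.L08.Borel.isSolvableGrp_of_mono ζ (isSolvableGrp_bc q (isSolvable_borel hpos))
  -- the centralizer lies in the Borel subgroup
  let Dz : Over (Spec (CommRingCat.of K)) := Over.mk (pullback.fst z.left iB.left ≫ Z.hom)
  let dC : Dz ⟶ Z := Over.homMk (pullback.fst z.left iB.left)
  let dB : Dz ⟶ B := Over.homMk (pullback.snd z.left iB.left) (by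
    show _ = pullback.fst z.left iB.left ≫ Z.hom
    rw [← Over.w z, pullback.condition_assoc, Over.w iB])
  have hpb : IsPullback dC dB z iB :=
    IsPullback.of_map (Over.forget _) (Over.OverMorphism.ext pullback.condition) (IsPullback.of_hasPullback _ _)
  haveI : Mono dC := by
    haveI : Mono dC.left := inferInstanceAs (Mono (pullback.fst z.left iB.left))
    exact Over.mono_of_mono_left dC
  obtain ⟨_, hdC⟩ := Groth.L14.Luna.exists_grpObj_pullback hpb
  haveI := hdC
  haveI : IsMonHom dB := Groth.L25.Bridge.isMonHom_of_mul _ fun Y a c => (cancel_mono iB).1 (by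
    rw [Category.assoc, ← hpb.w, MonObj.mul_comp (a ≫ dB)]
    simp only [Category.assoc, ← hpb.w, ← MonObj.mul_comp])
  have hBD : Red.IsBorelOver K dC := Groth.L08.Borel.isBorelOver_inter embH hT' hz hB (eT ≫ tB) (by
    rw [Category.assoc, htB]) hpb
  haveI : IsIso dC := hBD.2.2.2.2.2 Z (𝟙 Z) dC (inferInstanceAs (IsClosedImmersion (𝟙 Z.left))) hZsm hZcon hZsolv
    (Category.comp_id _)
  -- the root point centralises the subtorus
  obtain ⟨v, hv⟩ := (hR' c).2 hc
  let uK : 𝟙_ (Over (Spec (CommRingCat.of K))) ⟶ HK := (ptBC j K).symm (gp j y ≫ v)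
  obtain ⟨w, hw⟩ : ∃ w, w ≫ z = uK := by
    refine (hz.2.2 _ _).2 fun X' x s => (cancel_mono hK).1 (Groth.L14.Chev.Cell.toBase_injective' q ?_)
    simp only [MonObj.mul_comp, NilAction.toBase_mul, Category.assoc]
    have e1 : NilAction.toBase q (x ≫ uK ≫ hK) =
        (NilAction.toBase q (x ≫ (ptBC j K).symm (gp j y))) ≫ D.u c := by
      rw [ptBC_symm_comp, Category.assoc, hv, ← ptBC_symm_comp]; exact (congrArg (NilAction.toBase q) (Category.assoc _ _ _).symm).trans (toBase_comp_map q _ _)
    have e2 : NilAction.toBase q (s ≫ embH ≫ hK) = (NilAction.toBase q s ≫ ιT) ≫ D.i := by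
      simp only [embH, eT, hK, Category.assoc, ← Functor.map_comp, ht, toBase_comp_map]
    rw [e1, e2]
    refine (commute_root _ c ?_ _).symm
    have h0 : φ.comp (zmultiplesHom D.M (D.P.root c) : ℤ →+ D.M) = 0 := AddMonoidHom.ext fun k => by
      simp [hker _ hfc]
    simp only [ιT, Category.assoc, Red.chi]
    rw [reassoc_of% (split_inv_hom (D := D)), TorusTorsion.DSmap_comp, h0]
    exact comp_DSmap_zero _
  refine ⟨w ≫ inv dC ≫ dB, ?_⟩
  simp only [Category.assoc]
  rw [← reassoc_of% hpb.w, IsIso.inv_hom_id_assoc, ← Category.assoc w, hw]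
  exact (ptBC_comp j K _ h).trans (by rw [Equiv.apply_symm_apply, Category.assoc, hv])

include hh hconn ht hR' in
/-- A subgroup without opposite roots has solvable geometric fibres. -/
theorem isSolvableGrp_of_asym (hasym : ∀ a ∈ R', opp D a ∉ R') : Red.IsSolvableGrp (Red.bc (qK j K) H) := by
  classical
  haveI := hh
  haveI : Mono h := Over.mono_of_mono_left h
  haveI := reductive_affine D
  haveI := reductive_smooth D
  haveI := isMonHom_i (D := D)
  haveI : ∀ c, IsMonHom (D.u c) := fun c => (D.rootHom c).1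
  haveI : IsMonHom t := Groth.L25.Bridge.isMonHom_of_mul _ fun Y a c => (cancel_mono h).1 (by
    rw [Category.assoc, ht, MonObj.mul_comp, MonObj.mul_comp, Category.assoc, Category.assoc, ht])
  let q := qK j K
  let HK := Red.bc q H
  let hK : HK ⟶ Red.bc q G := (Over.pullback q).map h
  haveI : IsMonHom hK := isMonHom_bcMap q h
  haveI : IsClosedImmersion hK.left := isClosedImmersion_bc_immersion hh q
  haveI : IsAffineHom (Red.bc q G).hom := MorphismProperty.pullback_snd _ _ ‹IsAffineHom G.hom›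
  haveI : IsAffine (Red.bc q G).left := isAffine_of_isAffineHom (Red.bc q G).hom
  haveI : IsAffine HK.left := isAffine_of_isAffineHom hK.left
  haveI : Smooth HK.hom := MorphismProperty.pullback_snd _ _ ‹Smooth H.hom›
  haveI : QuasiCompact HK.hom := MorphismProperty.pullback_snd _ _ ‹QuasiCompact H.hom›
  haveI : IrreducibleSpace HK.left := isConnected_irrFib hconn q
  haveI : IsReduced HK.left := Groth.L25.GenWords.isReduced_of_smooth_field HK.hom
  let tK : Red.bc q D.T ⟶ HK := (Over.pullback q).map t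
  haveI : IsMonHom tK := isMonHom_bcMap q t
  haveI := isClosedImmersion_i D
  haveI : IsClosedImmersion tK.left := by
    haveI : IsClosedImmersion t.left := by
      haveI : IsClosedImmersion (t.left ≫ h.left) := by rw [← Over.comp_left, ht]; infer_instance
      exact IsClosedImmersion.of_comp t.left h.left
    exact MorphismProperty.overPullbackMap (P := @IsClosedImmersion) q t inferInstance
  obtain ⟨-, hTsm, hTcon, hTsol, -⟩ :=
    Groth.L08.Borel.torus_props (Locus.isTorus_bc D.maximalTorus.2.2.1 q)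
  haveI := hTsm; haveI := hTcon
  obtain ⟨B, _, iB, hB, tB, htB⟩ := Groth.L08.Borel.exists_borel_ge tK hTsol
  haveI := hB.1; haveI := hB.2.1; haveI := hB.2.2.1
  haveI : Mono iB := Groth.L08.mono_of_closedImmersion iB
  haveI : Mono hK := Groth.L08.mono_of_closedImmersion hK
  obtain ⟨b⟩ := Groth.L14.AlmostSimple.exists_base D
  obtain ⟨n, eneg, hneg⟩ := exists_enum (D := D) (RedSub.negRoots D.P b)
  obtain ⟨m, epos, hpos⟩ := exists_enum (D := D) (RedSub.posRoots D.P b)
  haveI := isOpenImmersion_cellMap hneg hpos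
  let W : Set HK.left := (hK.left ≫ pullback.fst G.hom q) ⁻¹' Set.range (RedSub.cellMap D eneg epos).left
  let Y : Set HK.left := Set.range iB.left
  have hW : IsOpen W := (RedSub.cellMap D eneg epos).left.isOpenEmbedding.isOpen_range.preimage
    (Scheme.Hom.continuous _)
  have hY : IsClosed Y := iB.left.isClosedEmbedding.isClosed_range
  have hW1 : ptOf (1 : 𝟙_ (Over (Spec (CommRingCat.of K))) ⟶ HK) ∈ W := by
    refine ⟨(toUnit (Sp j K) ≫ cellOrigin D n m).left (IsLocalRing.closedPoint K), ?_⟩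
    show ((toUnit (Sp j K) ≫ cellOrigin D n m) ≫ RedSub.cellMap D eneg epos).left _ =
      (pullback.fst G.hom q) (ptOf ((1 : 𝟙_ (Over (Spec (CommRingCat.of K))) ⟶ HK) ≫ hK))
    rw [Category.assoc, cellOrigin_cellMap, MonObj.comp_one, ← ptBC_closedPoint, MonObj.one_comp]
    exact congrArg (fun s : Sp j K ⟶ G => s.left (IsLocalRing.closedPoint K)) (map_one (ptHom j K G)).symm
  have hWY : ∀ w : 𝟙_ (Over (Spec (CommRingCat.of K))) ⟶ HK, ptOf w ∈ W → ptOf w ∈ Y := by
    intro w hw
    obtain ⟨tc, htc⟩ := exists_cell_of_range hneg hpos (ptBC j K (w ≫ hK)) (by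
      rw [ptBC_closedPoint]; exact hw)
    obtain ⟨d, hd⟩ := (toCell_bijective hneg hpos (j := j)).2 tc
    rw [← hd, toCell_cellMap] at htc
    have hmem : chart j D.u (cellList eneg epos) d ∈ HP j K h := by
      rw [htc]
      exact mem_HP.2 ⟨ptBC j K w, by rw [← ptBC_comp]⟩
    have h0 : ∀ d' , d' ∉ R' → d.co d' = 0 := fun d' hd' => cell_roots hneg hpos hh hconn t ht d hmem d' fun hc'' =>
      hd' ((hR' d').1 ((mem_tanRoots_iff hneg hpos hh t ht d').2 hc''))
    have hin : chart j D.u (cellList eneg epos) d ∈ ptRange (iB ≫ hK) := by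
      refine mul_mem ?_ (Subgroup.list_prod_mem _ fun x hx => ?_)
      · refine (mem_ptRange _).2 ⟨(ptBC j K).symm (tpt D j d.tor) ≫ tB, ?_⟩
        rw [Category.assoc, reassoc_of% htB, ← Functor.map_comp, ht]
        exact (ptBC_comp j K _ _).trans (by rw [Equiv.apply_symm_apply])
      · obtain ⟨d', -, rfl⟩ := List.mem_map.1 hx
        by_cases hd' : d' ∈ R'
        · exact (mem_ptRange _).2 (root_le_borel hh hconn t ht hR' hd' (hasym d' hd') hB tB htB _)
        · rw [h0 d' hd', gp_zero, MonObj.one_comp]; exact one_mem _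
    obtain ⟨x, hx⟩ := (mem_ptRange _).1 hin
    refine ⟨ptOf x, ?_⟩
    show ptOf (x ≫ iB) = ptOf w
    congr 1
    exact (cancel_mono hK).1 ((ptBC j K).injective (by rw [Category.assoc, hx, htc]))
  have hYuniv : Y = Set.univ := by
    by_contra hne
    obtain ⟨p₀, hp₀⟩ := (Set.ne_univ_iff_exists_notMem _).1 hne
    obtain ⟨p, hpW, hpY⟩ := nonempty_preirreducible_inter hW hY.isOpen_compl ⟨_, hW1⟩ ⟨p₀, hp₀⟩
    obtain ⟨w, hw1, hw2⟩ := exists_pt_mem (X := HK) (hW.inter hY.isOpen_compl).isLocallyClosed ⟨p, hpW, hpY⟩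
    exact hw2 (hWY w hw1)
  obtain ⟨s, hs⟩ := Groth.L14.Luna.exists_lift_of_points iB (𝟙 HK) fun x => by
    rw [Category.comp_id]
    exact exists_pt_lift iB x (show ptOf x ∈ Y by rw [hYuniv]; trivial)
  haveI : IsMonHom s := Groth.L25.Bridge.isMonHom_of_mul _ fun Y a c => (cancel_mono iB).1 (by
    rw [MonObj.mul_comp (a ≫ s), Category.assoc, Category.assoc, Category.assoc, hs]; simp)
  haveI : Mono s := by
    haveI : Mono (s ≫ iB) := hs ▸ inferInstance
    exact mono_of_mono s iB
  exact Groth.L08.Borel.isSolvableGrp_of_mono s hB.2.2.2.2.1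

end Groth.L14.TypeR
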