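import Groth.Agent.L20.SchDesc.Cov
import Groth.Agent.L02.SchDom.MonoLocus
import Groth.Agent.L14.Chev.Cell.ConnFibre
import Groth.Agent.L14.Chev.Cell.Space
import Groth.Agent.L25.Bridge.TorsionLift
import Groth.Agent.L14.TypeR.AsymSolv

/-!
Homomorphisms out of a group with irreducible fibres from an open subscheme containing the unit section.
-/

set_option autoImplicit false
universe u

open CategoryTheory CategoryTheory.Limits AlgebraicGeometry MonoidalCategory CartesianMonoidalCategory MonObj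
open Groth.L20.SchDesc

set_option backward.isDefEq.respectTransparency.types false
set_option linter.style.haveILetI false
set_option linter.unusedSectionVars false
set_option maxHeartbeats 1000000

noncomputable section

namespace Groth.L14.CellHom

variable {S : Scheme.{u}} {G Ω : Over S} [GrpObj G] [Smooth G.hom] (c : Ω ⟶ G) [IsOpenImmersion c.left]
  (o : 𝟙_ (Over S) ⟶ Ω) (ho : o ≫ c = 1) (hirr : Groth.L02.SchDom.IrrFib G.hom)

omit [GrpObj G] [Smooth G.hom] in
theorem exists_lift_of_mem {X : Over S} (g : X ⟶ G) (h : Set.range g.left ⊆ Set.range c.left) :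
    ∃ w : X ⟶ Ω, w ≫ c = g :=
  ⟨Over.homMk (IsOpenImmersion.lift c.left g.left h) (by rw [← Over.w c, IsOpenImmersion.lift_fac_assoc, Over.w]),
    Over.OverMorphism.ext (IsOpenImmersion.lift_fac _ _ _)⟩

omit [GrpObj G] [Smooth G.hom] [IsOpenImmersion c.left] in
theorem epi_of_cov {X' X : Over S} (k : X' ⟶ X) [Cov k.left] : Epi k := by
  haveI : Epi k.left := Cov.epi (p := k.left)
  exact Over.epi_of_epi_left k

include ho hirr in
/-- Finitely many conditions to land in the open subscheme can be met after a covering. -/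
theorem exists_cover {X : Over S} (l : List (G ⊗ X ⟶ G))
    (hl : ∀ m ∈ l, ∃ s : X ⟶ G ⊗ X, s ≫ snd G X = 𝟙 X ∧ s ≫ m = 1) :
    ∃ (X' : Over S) (k : X' ⟶ X) (_ : Cov k.left) (y : X' ⟶ G ⊗ X), y ≫ snd G X = k ∧
      ∀ m ∈ l, ∃ w : X' ⟶ Ω, w ≫ c = y ≫ m := by
  let p : (G ⊗ X).left ⟶ X.left := (snd G X).left
  have hp : Groth.L02.SchDom.IrrFib p := hirr.baseChange X.hom
  have hne : ∀ m ∈ l, ∀ x : X.left, ∃ z ∈ m.left ⁻¹ᵁ c.left.opensRange, p z = x := by
    intro m hm x
    obtain ⟨s, hs, hs1⟩ := hl m hm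
    refine ⟨s.left x, ?_, ?_⟩
    · show m.left (s.left x) ∈ Set.range c.left
      rw [← Scheme.Hom.comp_apply, ← Over.comp_left, hs1,
        show (1 : X ⟶ G) = toUnit X ≫ o ≫ c by rw [ho, MonObj.comp_one]]
      exact ⟨(toUnit X ≫ o).left x, by rw [← Scheme.Hom.comp_apply, ← Over.comp_left, Category.assoc]⟩
    · show (snd G X).left (s.left x) = x
      rw [← Scheme.Hom.comp_apply, ← Over.comp_left, hs]
      rfl
  obtain ⟨V, hV, hVs⟩ : ∃ V : (G ⊗ X).left.Opens, (∀ m ∈ l, ∀ z ∈ V, m.left z ∈ Set.range c.left) ∧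
      ∀ x : X.left, ∃ z ∈ V, p z = x := by
    clear hl
    induction l with
    | nil =>
      refine ⟨⊤, fun m hm => absurd hm List.not_mem_nil, fun x => ⟨(lift (1 : X ⟶ G) (𝟙 X)).left x, trivial, ?_⟩⟩
      show (snd G X).left _ = x
      rw [← Scheme.Hom.comp_apply, ← Over.comp_left, lift_snd]
      rfl
    | cons m l ih =>
      obtain ⟨V, hV, hVs⟩ := ih fun m' hm' => hne m' (List.mem_cons_of_mem _ hm')
      refine ⟨(m.left ⁻¹ᵁ c.left.opensRange) ⊓ V, fun m' hm' z hz => ?_, fun x => ?_⟩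
      · rcases List.mem_cons.1 hm' with rfl | h
        · exact hz.1
        · exact hV m' h z hz.2
      · obtain ⟨z, h1, h2, h3⟩ := hp.exists_mem_inter (hne m List.mem_cons_self x) (hVs x)
        exact ⟨z, ⟨h1, h2⟩, h3⟩
  let X' : Over S := Over.mk (V.ι ≫ (G ⊗ X).hom)
  let y : X' ⟶ G ⊗ X := Over.homMk V.ι
  haveI : Surjective (y ≫ snd G X).left := ⟨fun x => by
    obtain ⟨z, hz, hzx⟩ := hVs x
    exact ⟨⟨z, hz⟩, hzx⟩⟩
  haveI : Smooth (snd G X).left := MorphismProperty.pullback_snd _ _ ‹Smooth G.hom›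
  haveI : Smooth (y ≫ snd G X).left := by
    rw [Over.comp_left]
    exact inferInstanceAs (Smooth (V.ι ≫ (snd G X).left))
  haveI : Cov (y ≫ snd G X).left := ⟨inferInstance, inferInstance, X'.left, X'.left, 𝟙 _, 𝟙 _, (y ≫ snd G X).left,
    rfl, inferInstance, inferInstance, inferInstance, inferInstance, inferInstance, inferInstance⟩
  refine ⟨X', y ≫ snd G X, ‹_›, y, rfl, fun m hm => exists_lift_of_mem c _ ?_⟩
  rintro _ ⟨z, rfl⟩
  rw [Over.comp_left, Scheme.Hom.comp_apply]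
  exact hV m hm _ z.2

include ho hirr in
/-- After a covering a translate moves given points into the open subscheme. -/
theorem exists_shift {X : Over S} (l : List (X ⟶ G)) :
    ∃ (X' : Over S) (k : X' ⟶ X) (_ : Cov k.left) (z : X' ⟶ Ω),
      ∀ g ∈ l, ∃ w : X' ⟶ Ω, w ≫ c = (k ≫ g) * (z ≫ c) := by
  obtain ⟨X', k, hk, y, hy, h⟩ := exists_cover c o ho hirr (fst G X :: l.map fun g => (snd G X ≫ g) * fst G X) (by
    intro m hm
    rcases List.mem_cons.1 hm with rfl | hm
    · exact ⟨lift 1 (𝟙 X), lift_snd _ _, lift_fst _ _⟩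
    · obtain ⟨g, -, rfl⟩ := List.mem_map.1 hm
      exact ⟨lift g⁻¹ (𝟙 X), lift_snd _ _, by rw [MonObj.comp_mul, lift_snd_assoc, lift_fst, Category.id_comp,
        mul_inv_cancel]⟩)
  obtain ⟨z, hz⟩ := h _ List.mem_cons_self
  refine ⟨X', k, hk, z, fun g hg => ?_⟩
  obtain ⟨w, hw⟩ := h _ (List.mem_cons_of_mem _ (List.mem_map.2 ⟨g, hg, rfl⟩))
  exact ⟨w, by rw [hw, MonObj.comp_mul, ← Category.assoc, hy, hz]⟩

variable [IsAffineHom G.hom] [QuasiCompact Ω.hom]

/-- The product of two points of the open subscheme. -/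
def prod2 : Ω ⊗ Ω ⟶ G := (fst Ω Ω ≫ c) * (snd Ω Ω ≫ c)

theorem comp_prod2 {X : Over S} (a : X ⟶ Ω ⊗ Ω) :
    a ≫ prod2 c = (a ≫ fst _ _ ≫ c) * (a ≫ snd _ _ ≫ c) := MonObj.comp_mul _ _ _

include ho hirr in
theorem cov_prod2 : Cov (prod2 c).left := by
  haveI : Surjective (prod2 c).left := by
    obtain ⟨X', k, hk, y, hy, h⟩ := exists_cover c o ho hirr (X := G) [fst G G, (fst G G)⁻¹ * snd G G] (by
      intro m hm
      rcases List.mem_cons.1 hm with rfl | hm
      · exact ⟨lift 1 (𝟙 G), lift_snd _ _, lift_fst _ _⟩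
      · rw [List.mem_singleton] at hm
        subst hm
        exact ⟨lift (𝟙 G) (𝟙 G), lift_snd _ _, by rw [MonObj.comp_mul, GrpObj.comp_inv, lift_fst, lift_snd,
          inv_mul_cancel]⟩)
    obtain ⟨a, ha⟩ := h _ List.mem_cons_self
    obtain ⟨b, hb⟩ := h _ (List.mem_cons_of_mem _ List.mem_cons_self)
    have hab : lift a b ≫ prod2 c = k := by
      rw [comp_prod2, lift_fst_assoc, lift_snd_assoc, ha, hb, MonObj.comp_mul, GrpObj.comp_inv, hy,
        mul_inv_cancel_left]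
    haveI := Cov.surjective (p := k.left)
    exact ⟨fun g => by
      obtain ⟨v, hv⟩ := k.left.surjective g
      exact ⟨(lift a b).left v, by rw [← Scheme.Hom.comp_apply, ← Over.comp_left, hab, hv]⟩⟩
  haveI : Flat (prod2 c).left := by
    let sh : Ω ⊗ Ω ⟶ Ω ⊗ G := lift (fst _ _) (prod2 c)
    let unsh : Ω ⊗ G ⟶ Ω ⊗ G := lift (fst _ _) ((fst _ _ ≫ c) * snd _ _)
    let unsh' : Ω ⊗ G ⟶ Ω ⊗ G := lift (fst _ _) ((fst _ _ ≫ c)⁻¹ * snd _ _)
    have h1 : unsh ≫ unsh' = 𝟙 _ := by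
      apply CartesianMonoidalCategory.hom_ext <;>
        simp [unsh, unsh', MonObj.comp_mul, GrpObj.comp_inv]
    have h2 : unsh' ≫ unsh = 𝟙 _ := by
      apply CartesianMonoidalCategory.hom_ext <;>
        simp [unsh, unsh', MonObj.comp_mul, GrpObj.comp_inv]
    haveI : IsIso unsh := ⟨unsh', h1, h2⟩
    haveI : IsIso unsh.left := inferInstanceAs (IsIso ((Over.forget _).map unsh))
    have hsh : sh = (Ω ◁ c) ≫ unsh := by
      apply CartesianMonoidalCategory.hom_ext <;> simp [sh, unsh, prod2, MonObj.comp_mul]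
    haveI : IsOpenImmersion (Ω ◁ c).left := MorphismProperty.of_isPullback (P := @IsOpenImmersion)
      (Groth.L25.HomScheme.isPullback_whiskerLeft Ω c).flip ‹_›
    haveI : Smooth Ω.hom := by rw [← Over.w c]; infer_instance
    haveI : Flat (snd Ω G).left := MorphismProperty.pullback_snd _ _ (inferInstance : Flat Ω.hom)
    rw [show prod2 c = sh ≫ snd _ _ from (lift_snd _ _).symm, hsh]
    simp only [Over.comp_left]
    infer_instance
  haveI : QuasiCompact (prod2 c).left := by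
    haveI : QuasiCompact (Ω ⊗ Ω).hom := by
      show QuasiCompact (pullback.fst Ω.hom Ω.hom ≫ Ω.hom)
      infer_instance
    haveI : QuasiCompact ((prod2 c).left ≫ G.hom) := by rw [Over.w]; infer_instance
    exact QuasiCompact.of_comp (prod2 c).left G.hom
  infer_instance

variable {H : Over S} [GrpObj H] (f : Ω ⟶ H)
  (hf : ∀ (X : Over S) (x y z : X ⟶ Ω), z ≫ c = (x ≫ c) * (y ≫ c) → z ≫ f = (x ≫ f) * (y ≫ f))

include ho hirr in
/-- Two homomorphisms agreeing on the open subscheme are equal. -/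
theorem hom_ext {g₁ g₂ : G ⟶ H} [IsMonHom g₁] [IsMonHom g₂] (h : c ≫ g₁ = c ≫ g₂) : g₁ = g₂ := by
  haveI := cov_prod2 c o ho hirr
  haveI := epi_of_cov (prod2 c)
  refine (cancel_epi (prod2 c)).1 ?_
  simp only [prod2, MonObj.mul_comp, Category.assoc, h]

include ho hirr hf in
/-- A partially multiplicative morphism extends uniquely to a homomorphism. -/
theorem existsUnique_hom : ∃! g : G ⟶ H, IsMonHom g ∧ c ≫ g = f := by
  have hof : o ≫ f = 1 :=
    mul_left_cancel (a := o ≫ f) ((hf _ o o o (by rw [ho, _root_.mul_one])).symm.trans (_root_.mul_one _).symm)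
  haveI := cov_prod2 c o ho hirr
  haveI := epi_of_cov (prod2 c)
  let φ : Ω ⊗ Ω ⟶ H := (fst Ω Ω ≫ f) * (snd Ω Ω ≫ f)
  have hφ : ∀ {X : Over S} (a b : X ⟶ Ω ⊗ Ω), a ≫ prod2 c = b ≫ prod2 c → a ≫ φ = b ≫ φ := by
    intro X a b hab
    simp only [φ, comp_prod2, MonObj.comp_mul] at hab ⊢
    obtain ⟨X', k, hk, z, hz⟩ := exists_shift c o ho hirr
      [a ≫ snd _ _ ≫ c, b ≫ snd _ _ ≫ c, (a ≫ fst _ _ ≫ c) * (a ≫ snd _ _ ≫ c)]
    haveI := epi_of_cov k
    obtain ⟨w1, h1⟩ := hz (a ≫ snd _ _ ≫ c) (by simp)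
    obtain ⟨w2, h2⟩ := hz (b ≫ snd _ _ ≫ c) (by simp)
    obtain ⟨v, h3⟩ := hz ((a ≫ fst _ _ ≫ c) * (a ≫ snd _ _ ≫ c)) (by simp)
    refine (cancel_epi k).1 ?_
    have e1 := hf _ (k ≫ a ≫ snd _ _) z w1 (by simp only [Category.assoc]; exact h1)
    have e2 := hf _ (k ≫ b ≫ snd _ _) z w2 (by simp only [Category.assoc]; exact h2)
    have e3 := hf _ (k ≫ a ≫ fst _ _) w1 v (by
      rw [h3, h1, MonObj.comp_mul]; simp only [Category.assoc, _root_.mul_assoc])
    have e4 := hf _ (k ≫ b ≫ fst _ _) w2 v (by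
      rw [h3, h2, hab, MonObj.comp_mul]; simp only [Category.assoc, _root_.mul_assoc])
    rw [e1] at e3
    rw [e2, e3] at e4
    simp only [Category.assoc, ← _root_.mul_assoc] at e4
    simp only [MonObj.comp_mul]
    exact mul_right_cancel e4
  obtain ⟨m, hm⟩ := Cov.exists_desc (p := (prod2 c).left) φ.left fun {T} g₁ g₂ hg => by
    let X : Over S := Over.mk (g₁ ≫ (Ω ⊗ Ω).hom)
    let a' : X ⟶ Ω ⊗ Ω := Over.homMk g₁ rfl
    let b' : X ⟶ Ω ⊗ Ω := Over.homMk g₂ (by
      show g₂ ≫ _ = g₁ ≫ _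
      rw [← Over.w (prod2 c), reassoc_of% hg])
    exact congrArg CommaMorphism.left (hφ a' b' (Over.OverMorphism.ext hg))
  let F : G ⟶ H := Over.homMk m (by
    haveI : Epi (prod2 c).left := Cov.epi (p := (prod2 c).left)
    rw [← cancel_epi (prod2 c).left, reassoc_of% hm, Over.w, Over.w])
  have hF : prod2 c ≫ F = φ := Over.OverMorphism.ext hm
  have hFp : ∀ {X : Over S} (x y : X ⟶ Ω), ((x ≫ c) * (y ≫ c)) ≫ F = (x ≫ f) * (y ≫ f) := fun x y => by
    have h := congrArg (lift x y ≫ ·) hF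
    simp only [← Category.assoc, comp_prod2, φ, MonObj.comp_mul, lift_fst, lift_snd] at h
    exact h
  have hFc : c ≫ F = f := by
    have h := hFp (𝟙 Ω) (toUnit Ω ≫ o)
    simpa only [Category.assoc, ho, hof, MonObj.comp_one, _root_.mul_one, Category.id_comp] using h
  have hmix : ∀ {X : Over S} (g : X ⟶ G) (z w : X ⟶ Ω), w ≫ c = g * (z ≫ c) → w ≫ f = (g ≫ F) * (z ≫ f) := by
    intro X g z w hw
    let P : Over S := Over.mk (pullback.fst g.left (prod2 c).left ≫ X.hom)
    let pr : P ⟶ X := Over.homMk (pullback.fst g.left (prod2 c).left) rfl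
    let q : P ⟶ Ω ⊗ Ω := Over.homMk (pullback.snd g.left (prod2 c).left) (by
      show _ = pullback.fst g.left (prod2 c).left ≫ X.hom
      rw [← Over.w (prod2 c), ← pullback.condition_assoc, Over.w g])
    haveI : Cov pr.left := Cov.of_isPullback (p := (prod2 c).left) (IsPullback.of_hasPullback g.left (prod2 c).left).flip
    haveI := epi_of_cov pr
    have hq : q ≫ prod2 c = pr ≫ g := Over.OverMorphism.ext pullback.condition.symm
    refine (cancel_epi pr).1 ?_
    rw [comp_prod2] at hq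
    have hg : pr ≫ g ≫ F = (q ≫ fst _ _ ≫ f) * (q ≫ snd _ _ ≫ f) := by
      have := hFp (q ≫ fst _ _) (q ≫ snd _ _)
      simp only [Category.assoc] at this
      rw [← Category.assoc, ← hq, this]
    obtain ⟨X', k, hk, r, hr⟩ := exists_shift c o ho hirr
      [pr ≫ z ≫ c, (q ≫ snd _ _ ≫ c) * (pr ≫ z ≫ c), pr ≫ w ≫ c]
    haveI := epi_of_cov k
    obtain ⟨z', h1⟩ := hr (pr ≫ z ≫ c) (by simp)
    obtain ⟨y', h2⟩ := hr ((q ≫ snd _ _ ≫ c) * (pr ≫ z ≫ c)) (by simp)
    obtain ⟨w', h3⟩ := hr (pr ≫ w ≫ c) (by simp)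
    have e1 := hf _ (k ≫ pr ≫ z) r z' (by simp only [Category.assoc]; exact h1)
    have e2 := hf _ (k ≫ q ≫ snd _ _) z' y' (by
      rw [h2, h1]; simp only [MonObj.comp_mul, Category.assoc, _root_.mul_assoc])
    have e3 := hf _ (k ≫ pr ≫ w) r w' (by simp only [Category.assoc]; exact h3)
    have e4 := hf _ (k ≫ q ≫ fst _ _) y' w' (by
      rw [h3, hw, h2]
      simp only [MonObj.comp_mul, Category.assoc, ← _root_.mul_assoc]
      rw [← hq]
      simp only [MonObj.comp_mul, Category.assoc, ← _root_.mul_assoc])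
    rw [e2, e1, e3] at e4
    simp only [Category.assoc, ← _root_.mul_assoc] at e4
    refine (cancel_epi k).1 ?_
    rw [MonObj.comp_mul, hg]
    simp only [MonObj.comp_mul, ← _root_.mul_assoc]
    exact mul_right_cancel e4
  have hmul : ∀ {X : Over S} (g h : X ⟶ G), (g * h) ≫ F = (g ≫ F) * (h ≫ F) := by
    intro X g h
    obtain ⟨X', k, hk, z, hz⟩ := exists_shift c o ho hirr [h, g * h]
    haveI := epi_of_cov k
    obtain ⟨h', h1⟩ := hz h (by simp)
    obtain ⟨v, h2⟩ := hz (g * h) (by simp)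
    have e1 := hmix _ z h' h1
    have e2 := hmix _ z v h2
    have e3 := hmix (k ≫ g) h' v (by rw [h2, h1, MonObj.comp_mul, _root_.mul_assoc])
    rw [e1, e2, ← _root_.mul_assoc, Category.assoc, Category.assoc, Category.assoc] at e3
    refine (cancel_epi k).1 ?_
    rw [mul_right_cancel e3, MonObj.comp_mul]
  refine ⟨F, ⟨Groth.L25.Bridge.isMonHom_of_mul F fun _ a b => hmul a b, hFc⟩, fun g' ⟨hg', hg'c⟩ => ?_⟩
  haveI := hg'
  haveI : IsMonHom F := Groth.L25.Bridge.isMonHom_of_mul F fun _ a b => hmul a b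
  exact hom_ext c o ho hirr (hg'c.trans hFc.symm)

end Groth.L14.CellHom

namespace Groth.L14.TypeR

open Groth.L14.RankOne Groth.L25 Groth.L14.Chart Groth.L14.Chev.Cell

/-- The geometric fibres of a split reductive group are irreducible. -/
theorem irrFib_splitRed {S : Scheme.{u}} {G : Over S} [GrpObj G] (D : Red.SplitRed G) :
    Groth.L02.SchDom.IrrFib G.hom := fun K _ _ q => by
  haveI := reductive_smooth D
  haveI := connectedSpace_fibre D q
  haveI : Smooth (Red.bc q G).hom := MorphismProperty.pullback_snd _ _ ‹Smooth G.hom›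
  exact ConnIrred.irreducibleSpace (Red.bc q G)

end Groth.L14.TypeR
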