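import Groth.Agent.L14.TypeR.AsymSolv

/-!
The roots of a subgroup containing the torus with a solvable geometric fibre lie in a system of positive roots.
-/

set_option autoImplicit false
universe u

open CategoryTheory CategoryTheory.Limits AlgebraicGeometry MonoidalCategory CartesianMonoidalCategory MonObj
open Groth.L14.RankOne Groth.L25 Groth.L14.Chart Groth.L14.Chev.Cell
open Groth.L08.Borel (ptOf exists_pt_mem exists_pt_lift)

set_option backward.isDefEq.respectTransparency.types false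
set_option linter.style.haveILetI false
set_option linter.unusedSectionVars false
set_option maxHeartbeats 1000000

noncomputable section

namespace Groth.L14.TypeR

variable {S : Scheme.{u}} [PreconnectedSpace S] [Nonempty S] {G H : Over S} [GrpObj G] [GrpObj H]
  {D : Red.SplitRed G}

theorem root_wordPerm (l : List D.idx) :
    ∃ W : D.M →+ D.M, ∀ c, D.P.root (RedSub.wordPerm D.P l c) = W (D.P.root c) := by
  induction l with
  | nil => exact ⟨AddMonoidHom.id _, fun c => by simp [RedSub.wordPerm]⟩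
  | cons a l ih =>
    obtain ⟨W, hW⟩ := ih
    refine ⟨(D.P.reflection a).toLinearMap.toAddMonoidHom.comp W, fun c => ?_⟩
    rw [wordPerm_cons, D.P.root_reflectionPerm, hW]
    rfl

/-- The translate of a system of positive roots by a word is contained in a system of positive roots. -/
theorem exists_base_word (b : D.P.Base) (l : List D.idx) :
    ∃ b' : D.P.Base, {c | (RedSub.wordPerm D.P l).symm c ∈ RedSub.posRoots D.P b} ⊆ RedSub.posRoots D.P b' := by
  obtain ⟨W, hW⟩ := root_wordPerm (D := D) l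
  have hr : ∀ c, D.P.root c = W (D.P.root ((RedSub.wordPerm D.P l).symm c)) := fun c => by
    rw [← hW, Equiv.apply_symm_apply]
  obtain ⟨W', hW'⟩ := root_wordPerm (D := D) l.reverse
  have hinv : ∀ c, (RedSub.wordPerm D.P l).symm c = RedSub.wordPerm D.P l.reverse c := fun c => by
    rw [Equiv.symm_apply_eq]
    have h := congrArg (fun σ : Equiv.Perm D.idx => σ c) (wordPerm_reverse_mul (D := D) l.reverse)
    rw [List.reverse_reverse] at h
    exact h.symm
  refine exists_base_of_noOpp ⟨fun a c d ha hc h => ?_, fun a c ha h hc => ?_⟩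
  · show (RedSub.wordPerm D.P l).symm d ∈ RedSub.posRoots D.P b
    refine closed_posRoots b _ _ _ ha hc ?_
    simp only [hinv, hW', ← map_add, h]
  · obtain ⟨lam, hl⟩ := hasLam b
    have h1 := (hl _).1 ha
    have h2 := (hl _).1 hc
    simp only [hinv, hW', h, map_neg] at h1 h2
    omega

variable {h : H ⟶ G} [IsMonHom h] {R' : Set D.idx}
  (hh : IsImmersion h.left) [Smooth H.hom] [QuasiCompact H.hom] (hconn : RedSub.HasConnectedFibres H)
  (t : D.T ⟶ H) (ht : t ≫ h = D.i)
  (hR' : ∀ a : D.idx, (∃ v : Red.Ga S ⟶ H, v ≫ h = D.u a) ↔ a ∈ R')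

include hh hconn ht hR' in
/-- The roots of a subgroup with a solvable geometric fibre lie in a system of positive roots. -/
theorem exists_base_of_solvable (s : S) (hsolv : Red.IsSolvableGrp (Red.geomFibre s H)) :
    ∃ b : D.P.Base, R' ⊆ RedSub.posRoots D.P b := by
  classical
  haveI := hh
  haveI : Mono h := Over.mono_of_mono_left h
  haveI := reductive_affine D
  haveI := reductive_smooth D
  haveI := isMonHom_i (D := D)
  haveI : ∀ c, IsMonHom (D.u c) := fun c => (D.rootHom c).1
  haveI := D.maximalTorus.2.1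
  obtain ⟨R, _, j, _, p, rfl⟩ := exists_open_chart s
  obtain ⟨algK, hq, -⟩ := exists_algebra_geomPt (j := j) p
  letI := algK
  let K := AlgebraicClosure (S.residueField (j p))
  let q := qK j K
  have hT : AGF.IsMaxTorus ((Over.pullback q).map D.i) := by
    show AGF.IsMaxTorus ((Over.pullback (qK j K)).map D.i)
    rw [hq]
    exact ⟨isMonHom_bcMap (Red.geomPt (j p)) D.i, inferInstance,
      Groth.L25.Locus.isTorus_bc D.maximalTorus.2.2.1 _, D.maximalTorus.2.2.2 (j p)⟩
  have hsolv' : Red.IsSolvableGrp (Red.bc q H) := by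
    show Red.IsSolvableGrp (Red.bc (qK j K) H)
    rw [hq]; exact hsolv
  haveI : ConnectedSpace (Red.bc q G).left := connectedSpace_fibre D q
  let HK := Red.bc q H
  let hK : HK ⟶ Red.bc q G := (Over.pullback q).map h
  haveI : IsMonHom hK := isMonHom_bcMap q h
  haveI : IsClosedImmersion hK.left := isClosedImmersion_bc_immersion hh q
  haveI : IsAffineHom (Red.bc q G).hom := MorphismProperty.pullback_snd _ _ ‹IsAffineHom G.hom›
  haveI : IsAffine (Red.bc q G).left := isAffine_of_isAffineHom (Red.bc q G).hom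
  haveI : Smooth (Red.bc q G).hom := MorphismProperty.pullback_snd _ _ ‹Smooth G.hom›
  haveI : QuasiCompact (Red.bc q G).hom := quasiCompact_of_compactSpace _
  haveI : Smooth HK.hom := MorphismProperty.pullback_snd _ _ ‹Smooth H.hom›
  haveI : IrreducibleSpace HK.left := isConnected_irrFib hconn q
  haveI : ConnectedSpace HK.left := inferInstance
  obtain ⟨B', _, iB', hB', f, hf⟩ := Groth.L08.Borel.exists_borel_ge hK hsolv'
  -- a standard Borel subgroup
  obtain ⟨b⟩ := Groth.L14.AlmostSimple.exists_base D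
  obtain ⟨n, eneg, hneg⟩ := exists_enum (D := D) (RedSub.negRoots D.P b)
  obtain ⟨m, epos, hpos⟩ := exists_enum (D := D) (RedSub.posRoots D.P b)
  obtain ⟨gP, hgP⟩ := exists_grpObj_borel hpos
  letI := gP
  letI : MonObj (D.T ⊗ RedSub.pow (Red.Ga S) m) := gP.toMonObj
  haveI := hgP
  let iB := (Over.pullback q).map (RedSub.borelMap D epos)
  have hB : Red.IsBorelOver K iB := isBorelOver_borelMap (j := j) (K := K) hpos rfl hT
  let iT := (Over.pullback q).map D.i
  let tB : Red.bc q D.T ⟶ Red.bc q (D.T ⊗ RedSub.pow (Red.Ga S) m) :=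
    (Over.pullback q).map (lift (𝟙 D.T) (toUnit _ ≫ tup m fun _ => (1 : 𝟙_ (Over S) ⟶ Red.Ga S)))
  have htB : tB ≫ iB = iT := by
    show (Over.pullback q).map _ ≫ (Over.pullback q).map _ = _
    rw [← Functor.map_comp, comp_borelMap]
    simp only [lift_fst, lift_snd, Category.id_comp, Category.assoc, tup_proj]
    rw [List.prod_eq_one fun x hx => by
      obtain ⟨i, rfl⟩ := List.mem_ofFn.1 hx
      simp only [MonObj.one_comp, MonObj.comp_one]]
    rw [_root_.mul_one]
  obtain ⟨ν, τ, σ, hτ, hσ⟩ := Groth.L08.Borel.exists_normalizing hT hB hB' tB htB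
    ((Over.pullback q).map t ≫ f) (by
      rw [Category.assoc, hf, ← Functor.map_comp, ht])
  let P : Sp j K ⟶ G := ptBC j K ν
  have hν : ∀ {Y : Over (Spec (CommRingCat.of K))}, toUnit Y ≫ ν = toUnit Y ≫ (ptBC j K).symm P := fun {Y} => by
    rw [Equiv.symm_apply_apply]
  have hnorm : Normalises D j P := by
    intro C _ _ φ ψ
    let Z : Over (Spec (CommRingCat.of K)) := Over.mk (Spec.map (CommRingCat.ofHom φ.toRingHom))
    have hφ : Spec.map (CommRingCat.ofHom φ.toRingHom) ≫ q = Spec.map (CommRingCat.ofHom (algebraMap R C)) ≫ j := by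
      show _ ≫ qK j K = _
      rw [qK, ← Category.assoc, ← Spec.map_comp, ← CommRingCat.ofHom_comp]
      exact congrArg (fun g => Spec.map (CommRingCat.ofHom g) ≫ j) φ.comp_algebraMap
    let e₁ : Over.mk (Z.hom ≫ q) ⟶ Sp j C := Over.homMk (𝟙 _) ((Category.id_comp _).trans hφ.symm)
    let e₂ : Sp j C ⟶ Over.mk (Z.hom ≫ q) := Over.homMk (𝟙 _) ((Category.id_comp _).trans hφ)
    have he : e₂ ≫ e₁ = 𝟙 _ := Over.OverMorphism.ext (Category.id_comp _)
    let x : Z ⟶ Red.bc q D.T := NilAction.ofBase q (e₁ ≫ tpt D j ψ)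
    obtain ⟨χ, hχ⟩ := exists_tpt j (e₂ ≫ NilAction.toBase q (x ≫ τ.hom))
    refine ⟨χ, ?_⟩
    have key := congrArg (fun y => e₂ ≫ NilAction.toBase q (x ≫ y)) hτ
    simp only [AGF.conjBy, MonObj.comp_mul, GrpObj.comp_inv, NilAction.toBase_mul] at key
    rw [← Category.assoc x, toBase_comp_map, toBase_comp_map, ← Category.assoc, ← hχ,
      NilAction.toBase_ofBase, Category.assoc e₁, ← Category.assoc e₂, he, Category.id_comp] at key
    have hPe : e₂ ≫ NilAction.toBase q (x ≫ toUnit _ ≫ ν) = mor j φ ≫ P := by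
      have h0 : x ≫ toUnit (Red.bc q D.T) = toUnit Z := toUnit_unique _ _
      rw [reassoc_of% h0]
      have : (toUnit Z).left = Z.hom := by simp
      apply Over.OverMorphism.ext
      show (𝟙 _ ≫ ((toUnit Z ≫ ν).left ≫ pullback.fst G.hom q)) = _ ≫ (toUnitK j K ≫ NilAction.toBase q ν).left
      simp only [Over.comp_left, Category.id_comp, this, Category.assoc]
      rfl
    have hPi : e₂ ≫ NilAction.toBase q (x ≫ toUnit _ ≫ ν)⁻¹ = (mor j φ ≫ P)⁻¹ := by
      rw [← hPe, ← GrpObj.comp_inv]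
      refine congrArg (e₂ ≫ ·) ((eq_inv_iff_mul_eq_one (G := Over.mk (Z.hom ≫ q) ⟶ G)).2 ?_)
      rw [← NilAction.toBase_mul, ← MonObj.comp_mul, inv_mul_cancel, MonObj.comp_one, NilAction.toBase_one]
    rw [hPe, hPi] at key
    exact key.symm
  choose nr hnr using D.refl
  have hn : ∀ a, Groth.L14.Chev.ActsBy (nr a) a := fun a => actsBy_of_refl (hnr a)
  obtain ⟨l, hl⟩ := exists_translate hneg hpos (nr := nr) hnr (P.left (IsLocalRing.closedPoint K))
  let Tl : cellSpace D n m ⟶ G := (toUnit _ ≫ (l.map nr).prod) * RedSub.cellMap D eneg epos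
  haveI : IsOpenImmersion Tl.left := isOpenImmersion_translate hneg hpos _
  have hr : Set.range P.left ⊆ Set.range Tl.left := by
    rintro _ ⟨z, rfl⟩
    rw [sp_point_eq z]
    exact hl
  let c₀ : Sp j K ⟶ cellSpace D n m := Over.homMk (IsOpenImmersion.lift Tl.left P.left hr) (by
    rw [← Over.w Tl, IsOpenImmersion.lift_fac_assoc, Over.w])
  have hc₀ : c₀ ≫ Tl = P := Over.OverMorphism.ext (IsOpenImmersion.lift_fac _ _ _)
  obtain ⟨χP, hχP⟩ := exists_torus_of_translate hneg hpos hn l hnorm c₀ (by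
    rw [← hc₀, MonObj.comp_mul, ← Category.assoc c₀ (toUnit _), toUnit_unique (c₀ ≫ toUnit _) (toUnit _)])
  obtain ⟨b', hb'⟩ := exists_base_word b l
  refine ⟨b', fun c hc => hb' ?_⟩
  obtain ⟨v, hv⟩ := (hR' c).2 hc
  let x₀ : 𝟙_ (Over (Spec (CommRingCat.of K))) ⟶ Red.bc q (D.T ⊗ RedSub.pow (Red.Ga S) m) :=
    ((ptBC j K).symm (gp j (1 : K) ≫ v) ≫ f) ≫ σ.inv
  have hx₀ : x₀ ≫ AGF.conjBy ν iB = (ptBC j K).symm (gp j (1 : K) ≫ D.u c) := by
    rw [← hσ]
    simp only [x₀, Category.assoc, Iso.inv_hom_id_assoc, hf]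
    rw [ptBC_symm_comp, Category.assoc, hv]
  have h2 := congrArg (ptHom j K G) hx₀
  simp only [AGF.conjBy, MonObj.comp_mul, GrpObj.comp_inv, map_mul, map_inv, ← Category.assoc,
    toUnit_unique (x₀ ≫ toUnit _) (toUnit _), toUnit_unique (toUnit (𝟙_ (Over (Spec (CommRingCat.of K))))) (𝟙 _),
    Category.id_comp] at h2
  change P * ptBC j K (x₀ ≫ iB) * P⁻¹ = ptBC j K ((ptBC j K).symm (gp j (1 : K) ≫ D.u c)) at h2
  rw [Equiv.apply_symm_apply, ptBC_comp, hχP] at h2
  obtain ⟨χb, z, hz, -⟩ := exists_borel_coords (ptBC j K x₀) hpos.1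
  rw [hz] at h2
  let d := (RedSub.wordPerm D.P l).symm c
  show d ∈ RedSub.posRoots D.P b
  obtain ⟨w, hw⟩ := wpt_root (j := j) (C := K) b hn l d
  rw [Equiv.apply_symm_apply] at hw
  have hw0 : algebraMap R K (w : R) ≠ 0 := ((Units.isUnit w).map (algebraMap R K)).ne_zero
  have hk := hw (algebraMap R K (w : R))⁻¹
  rw [mul_inv_cancel₀ hw0] at hk
  let k : K := χP.comp invMonoidHom (Multiplicative.ofAdd (D.P.root d)) * (algebraMap R K (w : R))⁻¹
  have e : (tpt D j χb ≫ D.i) * rootProd j D.u (List.ofFn epos) z = gp j k ≫ D.u d := by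
    rw [show gp j k ≫ D.u d = conjT D j (χP.comp invMonoidHom) (gp j (algebraMap R K (w : R))⁻¹ ≫ D.u d) from
      (conj_root j D.rootHom _ d _).symm, conjT, tpt_inv, inv_inv]
    refine (mul_right_inj (wpt j K nr l * (tpt D j χP ≫ D.i))).1 (mul_right_cancel (b := (wpt j K nr l * (tpt D j χP ≫ D.i))⁻¹) ?_)
    rw [h2]
    symm
    calc wpt j K nr l * (tpt D j χP ≫ D.i) * ((tpt D j χP ≫ D.i)⁻¹ *
          (gp j (algebraMap R K (w : R))⁻¹ ≫ D.u d) * (tpt D j χP ≫ D.i)) * (wpt j K nr l * (tpt D j χP ≫ D.i))⁻¹ =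
        wpt j K nr l * (gp j (algebraMap R K (w : R))⁻¹ ≫ D.u d) * (wpt j K nr l)⁻¹ := by group
      _ = _ := by rw [hk]; group
  by_contra hd
  have hdn : d ∈ RedSub.negRoots D.P b := (pos_or_neg D.P b d).resolve_left hd
  obtain ⟨lam, hlam⟩ := hasLam b
  haveI := isMonHom_i (D := D)
  obtain ⟨-, hy, -⟩ := cell_injective D.rootHom (mu := lam) (nodup_list hneg) (nodup_list hpos)
    (fun a ha => (hlam a).2 ((mem_list_iff hneg a).1 ha)) (fun a ha => (hlam a).1 ((mem_list_iff hpos a).1 ha))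
    (y := Pi.single d k) (y' := 0) (χ := 1) (χ' := χb) (x := 0) (x' := z) (by
      rw [rootProd_single j (x := Pi.single d k) (nodup_list hneg) ((mem_list_iff hneg d).2 hdn)
        fun a ha => Pi.single_eq_of_ne ha _, Pi.single_eq_same, tpt_one, MonObj.one_comp,
        rootProd_eq_one j (x := (0 : D.idx → K)) fun _ _ => rfl,
        rootProd_eq_one j (x := (0 : D.idx → K)) fun _ _ => rfl, _root_.mul_one, _root_.mul_one, _root_.one_mul, e])
  have := hy d ((mem_list_iff hneg d).2 hdn)
  rw [Pi.single_eq_same] at this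
  exact mul_ne_zero ((Group.isUnit _).map _).ne_zero (inv_ne_zero hw0) this

end Groth.L14.TypeR
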