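import Groth.Agent.L14.TypeR.Unip
import Groth.Agent.L14.TypeR.AsymBorel

/-!
Unipotent radicals of Borel subgroups containing the torus, over a field.
-/

set_option autoImplicit false
universe u

open CategoryTheory CategoryTheory.Limits AlgebraicGeometry MonoidalCategory CartesianMonoidalCategory MonObj
open Groth.L14.RankOne Groth.L25 Groth.L14.Chart Groth.L14.Chev.Cell

set_option backward.isDefEq.respectTransparency.types false
set_option linter.style.haveILetI false
set_option linter.unusedSectionVars false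
set_option maxHeartbeats 1000000

noncomputable section

namespace Groth.L14.TypeR

variable {k : Type u} [Field k]

instance subsingleton_specField : Subsingleton ↥(Spec (CommRingCat.of k)) :=
  inferInstanceAs (Subsingleton (PrimeSpectrum k))

theorem hasConnectedFibres_field (X : Over (Spec (CommRingCat.of k))) [ConnectedSpace X.left] :
    RedSub.HasConnectedFibres X := fun s => by
  rw [Set.eq_univ_of_forall (s := X.hom.base ⁻¹' {s}) fun x => Subsingleton.elim _ s]
  exact isConnected_univ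

variable {G B : Over (Spec (CommRingCat.of k))} [GrpObj G] [GrpObj B] (D : Red.SplitRed G) {iB : B ⟶ G}

theorem connectedSpace_borel (hB : Red.IsBorel iB) : ConnectedSpace B.left := by
  obtain ⟨s⟩ : Nonempty ↥(Spec (CommRingCat.of k)) := inferInstanceAs (Nonempty (PrimeSpectrum k))
  haveI : ConnectedSpace ↥(pullback B.hom (Red.geomPt s)) := (hB.2.2.2 s).2.2.2.1
  haveI := Groth.L08.Borel.surjective_fst_bc (Red.geomPt s) B
  exact (Scheme.Hom.surjective (pullback.fst B.hom (Red.geomPt s))).connectedSpace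
    (pullback.fst B.hom (Red.geomPt s)).continuous

/-- The roots of a Borel subgroup containing the torus are positive for some system of simple roots. -/
theorem exists_base_borel (hB : Red.IsBorel iB) (tB : D.T ⟶ B) (htB : tB ≫ iB = D.i) :
    ∃ b : D.P.Base, {a | ∃ v : Red.Ga (Spec (CommRingCat.of k)) ⟶ B, v ≫ iB = D.u a} ⊆ RedSub.posRoots D.P b := by
  obtain ⟨s⟩ : Nonempty ↥(Spec (CommRingCat.of k)) := inferInstanceAs (Nonempty (PrimeSpectrum k))
  haveI := hB.1; haveI := hB.2.1; haveI := hB.2.2.1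
  haveI := connectedSpace_borel hB
  haveI : IsAffineHom G.hom := reductive_affine D
  haveI : QuasiCompact B.hom := by rw [← Over.w iB]; infer_instance
  exact exists_base_of_solvable (H := B) (h := iB) inferInstance (hasConnectedFibres_field B) tB htB
    (fun a => Iff.rfl) s (hB.2.2.2 s).2.2.2.2.1

/-- Root homomorphisms do not factor through the torus. -/
theorem rootHom_ne_torus {l : ℕ} {E' : Fin l → D.idx} {b' : D.P.Base}
    (hE : RedSub.Enumerates (RedSub.posRoots D.P b') E') (i : Fin l)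
    (w : Red.Ga (Spec (CommRingCat.of k)) ⟶ D.T) : w ≫ D.i ≠ D.u (E' i) := by
  classical
  intro hw
  haveI : ∀ c, IsMonHom (D.u c) := fun c => (D.rootHom c).1
  haveI := isMonHom_i (D := D)
  haveI := mono_borelMap hE
  let one' : Red.Ga (Spec (CommRingCat.of k)) ⟶ RedSub.pow (Red.Ga (Spec (CommRingCat.of k))) l := tup l fun _ => 1
  have h1 : lift w one' = lift 1 (tup l (Pi.mulSingle i (𝟙 _))) := by
    refine (cancel_mono (RedSub.borelMap D E')).1 ?_
    have e1 : one' ≫ RedSub.prodMap (Red.Ga (Spec (CommRingCat.of k))) l (fun i => D.u (E' i)) = 1 := by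
      rw [comp_prodMap]
      exact List.prod_eq_one fun x hx => by
        obtain ⟨_, rfl⟩ := List.mem_ofFn.1 hx
        rw [tup_proj, MonObj.one_comp]
    rw [RedSub.borelMap, MonObj.comp_mul, MonObj.comp_mul, lift_fst_assoc, lift_fst_assoc, lift_snd_assoc,
      lift_snd_assoc, MonObj.one_comp, _root_.one_mul, e1, hw, _root_.mul_one, comp_prodMap, List.ofFn_eq_map,
      List.prod_map_eq_pow_single i _ fun k' hk _ => by
        rw [tup_proj, Pi.mulSingle_eq_of_ne hk, MonObj.one_comp]]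
    rw [List.count_eq_one_of_mem (List.nodup_finRange _) (List.mem_finRange i), pow_one, tup_proj,
      Pi.mulSingle_eq_same, Category.id_comp]
  have h2 := congrArg (fun f => gp (𝟙 (Spec (CommRingCat.of k))) (1 : k) ≫ f ≫ snd _ _ ≫ proj _ l i) h1
  simp only [one', lift_snd_assoc, tup_proj, Pi.mulSingle_eq_same, Category.comp_id, MonObj.comp_one] at h2
  have h3 := congrArg gv h2
  rw [← gp_zero, gv_gp, gv_gp] at h3
  exact zero_ne_one h3

/-- The unipotent radical of a Borel subgroup containing the torus is the product of its root groups. -/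
theorem exists_unip_param (hB : Red.IsBorel iB) (tB : D.T ⟶ B) (htB : tB ≫ iB = D.i)
    {U : Over (Spec (CommRingCat.of k))} [GrpObj U] {uB : U ⟶ B} (hU : Par.IsUnipotentRadical uB)
    {m : ℕ} (e : Fin m → D.idx)
    (he : RedSub.Enumerates {a | ∃ v : Red.Ga (Spec (CommRingCat.of k)) ⟶ B, v ≫ iB = D.u a} e) :
    ∃ ψ : RedSub.pow (Red.Ga (Spec (CommRingCat.of k))) m ≅ U,
      ψ.hom ≫ uB ≫ iB = RedSub.prodMap (Red.Ga (Spec (CommRingCat.of k))) m (fun i => D.u (e i)) := by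
  obtain ⟨b, hb⟩ := exists_base_borel D hB tB htB
  haveI := hB.1; haveI := hB.2.1; haveI := hB.2.2.1
  haveI := connectedSpace_borel hB
  obtain ⟨U₀, _, u₀, -, -, -, hU₀, -, hψ⟩ :=
    exists_unip (H := B) (h := iB) inferInstance (hasConnectedFibres_field B) tB htB (fun a => Iff.rfl) hb
  haveI := hU.1; haveI := hU.2.1; haveI := hU₀.1; haveI := hU₀.2.1
  obtain ⟨f, hf⟩ := hU.2.2.2.2.2.2 U₀ u₀ hU₀.2.1 hU₀.2.2.1 hU₀.2.2.2.1 hU₀.2.2.2.2.1 hU₀.2.2.2.2.2.1
  obtain ⟨g, hg⟩ := hU₀.2.2.2.2.2.2 U uB hU.2.1 hU.2.2.1 hU.2.2.2.1 hU.2.2.2.2.1 hU.2.2.2.2.2.1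
  haveI : Mono u₀ := Over.mono_of_mono_left u₀
  haveI : Mono uB := Over.mono_of_mono_left uB
  obtain ⟨ψ, hψ⟩ := hψ e he
  refine ⟨ψ ≪≫ ⟨f, g, (cancel_mono u₀).1 (by simp [hg, hf]), (cancel_mono uB).1 (by simp [hg, hf])⟩, ?_⟩
  rw [Iso.trans_hom, Category.assoc, reassoc_of% hf, hψ]

/-- The points of a closed intersection of the radicals of two Borel subgroups containing the torus. -/
theorem mem_radicals {B' : Over (Spec (CommRingCat.of k))} [GrpObj B'] {iB' : B' ⟶ G} [IsMonHom iB] [IsMonHom iB']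
    [IsClosedImmersion iB.left] [Smooth B.hom] [IsClosedImmersion iB'.left] [Smooth B'.hom] [ConnectedSpace B.left]
    [ConnectedSpace B'.left] (tB : D.T ⟶ B) (htB : tB ≫ iB = D.i) (tB' : D.T ⟶ B') (htB' : tB' ≫ iB' = D.i)
    {b : D.P.Base} (hb : {a | ∃ v : Red.Ga (Spec (CommRingCat.of k)) ⟶ B, v ≫ iB = D.u a} ⊆ RedSub.posRoots D.P b)
    {lv : D.idx → ℕ} (hF : Filt D (RedSub.posRoots D.P b) lv) {n : ℕ} {e : Fin n → D.idx}
    (he : RedSub.Enumerates ({a | ∃ v : Red.Ga (Spec (CommRingCat.of k)) ⟶ B, v ≫ iB = D.u a} ∩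
      {a | ∃ v : Red.Ga (Spec (CommRingCat.of k)) ⟶ B', v ≫ iB' = D.u a}) e)
    {R : Type u} [CommRing R] {j : Spec (CommRingCat.of R) ⟶ Spec (CommRingCat.of k)} [IsOpenImmersion j]
    {C : Type u} [CommRing C] [Algebra R C] {g : Sp j C ⟶ G} (h1 : g ∈ HP j C iB)
    (h2 : g ∈ gen j C D.u (RedSub.posRoots D.P b) lv 0) (h3 : g ∈ HP j C iB') :
    ∃ τ : Sp j C ⟶ RedSub.pow (Red.Ga (Spec (CommRingCat.of k))) n, τ ≫ spanMap D e = g := by
  classical
  haveI : ∀ c, IsMonHom (D.u c) := fun c => (D.rootHom c).1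
  haveI := isMonHom_i (D := D)
  let RB := {a | ∃ v : Red.Ga (Spec (CommRingCat.of k)) ⟶ B, v ≫ iB = D.u a}
  let RB' := {a | ∃ v : Red.Ga (Spec (CommRingCat.of k)) ⟶ B', v ≫ iB' = D.u a}
  obtain ⟨l, ep, hep⟩ := exists_enum (D := D) ((RB' ∩ RedSub.posRoots D.P b) \ RB)
  have he₁ : RedSub.Enumerates (RB' ∩ RedSub.posRoots D.P b) (Fin.append e ep) :=
    enum_append he hep (fun a ha hb' => hb'.2 ha.1) (by
      ext a
      exact ⟨fun h => h.elim (fun h => ⟨h.2, hb h.1⟩) (fun h => h.1),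
        fun h => (em (a ∈ RB)).imp (fun ha => ⟨ha, h.1⟩) fun ha => ⟨h, ha⟩⟩)
  have hmb : g ∈ borelPts D b j C lv := mem_borelPts_of_gen h2
  obtain ⟨τ, hτ⟩ := (mem_borelInter_iff (H' := B') (h' := iB') inferInstance (hasConnectedFibres_field B') tB' htB'
    (fun a => Iff.rfl) he₁ hF).1 ⟨h3, hmb⟩
  obtain ⟨χ, z, hz, -⟩ := exists_borel_coords τ he₁.1
  rw [hτ] at hz
  have hgen : rootProd j D.u (List.ofFn (Fin.append e ep)) z ∈ gen j C D.u (RedSub.posRoots D.P b) lv 0 :=
    rootProd_mem_gen D.rootHom fun c hc _ => ⟨((mem_list_iff he₁ c).1 hc).2, Nat.zero_le _⟩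
  have hχ : χ = 1 := tor_eq_one_of_mem_gen (lv := lv) (b := b) hF (by
    have := mul_mem h2 (inv_mem hgen)
    rwa [hz, mul_inv_cancel_right] at this)
  subst hχ
  obtain ⟨l₂, ep₂, hep₂⟩ := exists_enum (D := D) (RedSub.posRoots D.P b \ (RB' ∩ RedSub.posRoots D.P b))
  have hE : RedSub.Enumerates (RedSub.posRoots D.P b) (Fin.append (Fin.append e ep) ep₂) :=
    enum_append he₁ hep₂ (fun a ha hb' => hb'.2 ha) (Set.union_sdiff_cancel Set.inter_subset_right)
  let z' : D.idx → C := fun c => if c ∈ RB' ∩ RedSub.posRoots D.P b then z c else 0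
  have hz' : rootProd j D.u (List.ofFn (Fin.append (Fin.append e ep) ep₂)) z' =
      rootProd j D.u (List.ofFn (Fin.append e ep)) z := by
    rw [rootProd_ofFn, ofFn_prod_append, rootProd_ofFn]
    simp only [Fin.append_left, Fin.append_right]
    have e2 : (List.ofFn fun i => gp j (z' (ep₂ i)) ≫ D.u (ep₂ i)).prod = 1 := List.prod_eq_one fun x hx => by
      obtain ⟨i, rfl⟩ := List.mem_ofFn.1 hx
      have hi : ep₂ i ∈ RedSub.posRoots D.P b \ (RB' ∩ RedSub.posRoots D.P b) := hep₂.2 ▸ Set.mem_range_self i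
      rw [show z' (ep₂ i) = 0 from if_neg hi.2, gp_zero, MonObj.one_comp]
    rw [e2, _root_.mul_one]
    refine congrArg List.prod (congrArg List.ofFn (funext fun i => ?_))
    rw [show z' (Fin.append e ep i) = z (Fin.append e ep i) from if_pos (he₁.2 ▸ Set.mem_range_self i)]
  have h0 := coords_zero (H := B) (h := iB) (R' := RB) (b := b) inferInstance (hasConnectedFibres_field B) tB htB
    (fun a => Iff.rfl) hb (exists_enum (D := D) RB).choose_spec.choose_spec hE (1 : Multiplicative D.M →* C) z' (by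
      rw [hz', ← hz]; exact h1)
  refine ⟨tup n fun i => gp j (z (e i)), ?_⟩
  rw [comp_prodMap, hz, tpt_one, MonObj.one_comp, _root_.one_mul, rootProd_ofFn, ofFn_prod_append]
  simp only [tup_proj, Fin.append_left, Fin.append_right]
  have e1 : (List.ofFn fun i => gp j (z (ep i)) ≫ D.u (ep i)).prod = 1 := List.prod_eq_one fun x hx => by
    obtain ⟨i, rfl⟩ := List.mem_ofFn.1 hx
    have hi : ep i ∈ (RB' ∩ RedSub.posRoots D.P b) \ RB := hep.2 ▸ Set.mem_range_self i
    have := h0 _ hi.1.2 hi.2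
    rw [show z' (ep i) = z (ep i) from if_pos hi.1] at this
    rw [this, gp_zero, MonObj.one_comp]
  rw [e1, _root_.mul_one]

/-- The intersection of the radicals of two Borel subgroups containing the torus is a product of root groups. -/
theorem exists_inter_param {U U' V B' : Over (Spec (CommRingCat.of k))} [GrpObj U] [GrpObj U'] [GrpObj B']
    {iB' : B' ⟶ G} (hB : Red.IsBorel iB) (tB : D.T ⟶ B) (htB : tB ≫ iB = D.i) {uB : U ⟶ B}
    (hU : Par.IsUnipotentRadical uB) (hB' : Red.IsBorel iB') (tB' : D.T ⟶ B') (htB' : tB' ≫ iB' = D.i)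
    {uB' : U' ⟶ B'} (hU' : Par.IsUnipotentRadical uB') {p : V ⟶ U} {p' : V ⟶ U'}
    (hV : IsPullback p p' (uB ≫ iB) (uB' ≫ iB')) {n : ℕ} {e : Fin n → D.idx}
    (he : RedSub.Enumerates ({a | ∃ v : Red.Ga (Spec (CommRingCat.of k)) ⟶ B, v ≫ iB = D.u a} ∩
      {a | ∃ v : Red.Ga (Spec (CommRingCat.of k)) ⟶ B', v ≫ iB' = D.u a}) e) :
    ∃ ψ : RedSub.pow (Red.Ga (Spec (CommRingCat.of k))) n ≅ V,
      ψ.hom ≫ p ≫ uB ≫ iB = RedSub.prodMap (Red.Ga (Spec (CommRingCat.of k))) n (fun i => D.u (e i)) := by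
  classical
  obtain ⟨b, hb⟩ := exists_base_borel D hB tB htB
  haveI := hB.1; haveI := hB.2.1; haveI := hB.2.2.1; haveI := connectedSpace_borel hB
  haveI := hB'.1; haveI := hB'.2.1; haveI := hB'.2.2.1; haveI := connectedSpace_borel hB'
  haveI := hU.1; haveI := hU.2.1; haveI := hU'.1; haveI := hU'.2.1
  haveI : ∀ c, IsMonHom (D.u c) := fun c => (D.rootHom c).1
  haveI := isMonHom_i (D := D)
  obtain ⟨lv, hF⟩ := exists_filt_pos (D := D) b
  obtain ⟨l, eB, heB⟩ := exists_enum (D := D) {a | ∃ v : Red.Ga (Spec (CommRingCat.of k)) ⟶ B, v ≫ iB = D.u a}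
  obtain ⟨l', eB', heB'⟩ := exists_enum (D := D) {a | ∃ v : Red.Ga (Spec (CommRingCat.of k)) ⟶ B', v ≫ iB' = D.u a}
  obtain ⟨φ, hφ⟩ := exists_unip_param D hB tB htB hU eB heB
  obtain ⟨φ', hφ'⟩ := exists_unip_param D hB' tB' htB' hU' eB' heB'
  -- root groups of the radicals
  have hroot : ∀ {A : Over (Spec (CommRingCat.of k))} {q : A ⟶ G} {l₀ : ℕ} {e₀ : Fin l₀ → D.idx}
      (φ₀ : RedSub.pow (Red.Ga (Spec (CommRingCat.of k))) l₀ ≅ A)
      (_ : φ₀.hom ≫ q = RedSub.prodMap (Red.Ga (Spec (CommRingCat.of k))) l₀ (fun i => D.u (e₀ i))) (a : D.idx)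
      (_ : a ∈ Set.range e₀), ∃ v : Red.Ga (Spec (CommRingCat.of k)) ⟶ A, v ≫ q = D.u a := by
    rintro A q l₀ e₀ φ₀ h₀ _ ⟨i, rfl⟩
    refine ⟨tup l₀ (Pi.mulSingle i (𝟙 _)) ≫ φ₀.hom, ?_⟩
    rw [Category.assoc, h₀, comp_prodMap, List.ofFn_eq_map, List.prod_map_eq_pow_single i _ fun k' hk _ => by
      rw [tup_proj, Pi.mulSingle_eq_of_ne hk, MonObj.one_comp]]
    rw [List.count_eq_one_of_mem (List.nodup_finRange _) (List.mem_finRange i), pow_one, tup_proj,
      Pi.mulSingle_eq_same, Category.id_comp]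
  have hei : ∀ i, e i ∈ {a | ∃ v : Red.Ga (Spec (CommRingCat.of k)) ⟶ B, v ≫ iB = D.u a} ∧
      e i ∈ {a | ∃ v : Red.Ga (Spec (CommRingCat.of k)) ⟶ B', v ≫ iB' = D.u a} := fun i =>
    (he.2 ▸ Set.mem_range_self i : e i ∈ {a | ∃ v : Red.Ga (Spec (CommRingCat.of k)) ⟶ B, v ≫ iB = D.u a} ∩
      {a | ∃ v : Red.Ga (Spec (CommRingCat.of k)) ⟶ B', v ≫ iB' = D.u a})
  choose w hw using fun i => hroot φ hφ (e i) (heB.2 ▸ (hei i).1)
  choose w' hw' using fun i => hroot φ' hφ' (e i) (heB'.2 ▸ (hei i).2)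
  let W := RedSub.prodMap (Red.Ga (Spec (CommRingCat.of k))) n w
  let W' := RedSub.prodMap (Red.Ga (Spec (CommRingCat.of k))) n w'
  have hW : W ≫ uB ≫ iB = spanMap D e := (prodMap_comp _).trans (congrArg _ (funext hw))
  have hW' : W' ≫ uB' ≫ iB' = spanMap D e := (prodMap_comp _).trans (congrArg _ (funext hw'))
  obtain ⟨f, hf, -⟩ := hV.exists_lift W W' (hW.trans hW'.symm)
  haveI := isClosedImmersion_spanMap_of_base b (Set.inter_subset_left.trans hb) he
  haveI : Mono (spanMap D e) := by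
    haveI : Mono (spanMap D e).left := inferInstance
    exact Over.mono_of_mono_left _
  haveI : IsAffineHom G.hom := reductive_affine D
  haveI : IsClosedImmersion (p ≫ uB ≫ iB).left := by
    haveI : IsClosedImmersion (uB' ≫ iB').left := by rw [Over.comp_left]; infer_instance
    haveI : IsClosedImmersion p.left :=
      MorphismProperty.of_isPullback (P := @IsClosedImmersion) (hV.map (Over.forget _)).flip
        (inferInstanceAs (IsClosedImmersion (uB' ≫ iB').left))
    simp only [Over.comp_left]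
    infer_instance
  haveI : IsAffineHom V.hom := by rw [← Over.w (p ≫ uB ≫ iB)]; infer_instance
  haveI : Mono (p ≫ uB ≫ iB) := by
    haveI : Mono (p ≫ uB ≫ iB).left := inferInstance
    exact Over.mono_of_mono_left _
  obtain ⟨g, hg⟩ := exists_lift_of_univ (spanMap D e) (p ≫ uB ≫ iB) fun R _ j _ => by
    refine mem_radicals D tB htB tB' htB' hb hF he (mem_HP.2 ⟨univ j V ≫ p ≫ uB, by simp only [Category.assoc]⟩) ?_
      (mem_HP.2 ⟨univ j V ≫ p' ≫ uB', by rw [Category.assoc, Category.assoc, ← hV.w]⟩)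
    obtain ⟨t, ht⟩ : ∃ t, univ j V ≫ p = t ≫ φ.hom := ⟨univ j V ≫ p ≫ φ.inv, by simp⟩
    rw [← Category.assoc, ht, Category.assoc, hφ, comp_prodMap, ofFn_prod_eq_rootProd j heB.1]
    exact rootProd_mem_gen D.rootHom fun c hc _ => ⟨hb ((mem_list_iff heB c).1 hc), Nat.zero_le _⟩
  have hfs : f ≫ p ≫ uB ≫ iB = spanMap D e := by rw [reassoc_of% hf, hW]
  exact ⟨⟨f, g, (cancel_mono (spanMap D e)).1 (by rw [Category.assoc, hg, hfs, Category.id_comp]),
    (cancel_mono (p ≫ uB ≫ iB)).1 (by rw [Category.assoc, hfs, hg, Category.id_comp])⟩, hfs⟩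

end Groth.L14.TypeR
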