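import Groth.Agent.L14.TypeR.Core

/-!
The cell of the roots of a subgroup containing the torus, with connected fibres, is open in the subgroup.
-/

set_option autoImplicit false
universe u

open CategoryTheory CategoryTheory.Limits AlgebraicGeometry MonoidalCategory CartesianMonoidalCategory MonObj
open Groth.L14.RankOne Groth.L25 Groth.L14.Chart Groth.L14.Chev.Cell

set_option backward.isDefEq.respectTransparency.types false
set_option linter.style.haveILetI false
set_option linter.unusedSectionVars false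
set_option maxHeartbeats 1000000

noncomputable section

namespace Groth.L14.TypeR

theorem enum_append {ι' : Type} {A B C : Set ι'} {m k : ℕ} {e : Fin m → ι'} {e' : Fin k → ι'}
    (he : RedSub.Enumerates A e) (he' : RedSub.Enumerates B e') (hd : ∀ a ∈ A, a ∉ B) (hC : A ∪ B = C) :
    RedSub.Enumerates C (Fin.append e e') := by
  refine ⟨Fin.append_injective_iff.2 ⟨he.1, he'.1, fun i l h => ?_⟩, ?_⟩
  · exact hd _ (he.2 ▸ Set.mem_range_self i) (h ▸ (he'.2 ▸ Set.mem_range_self l))
  · rw [← hC, ← he.2, ← he'.2]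
    ext a
    refine ⟨?_, ?_⟩
    · rintro ⟨i, rfl⟩
      induction i using Fin.addCases with
      | left i => exact Or.inl ⟨i, (Fin.append_left e e' i).symm⟩
      | right i => exact Or.inr ⟨i, (Fin.append_right e e' i).symm⟩
    · rintro (⟨i, rfl⟩ | ⟨i, rfl⟩)
      · exact ⟨_, Fin.append_left e e' i⟩
      · exact ⟨_, Fin.append_right e e' i⟩

variable {S : Scheme.{u}}

/-- Extension of a tuple by trivial entries. -/
def pad (m k : ℕ) : RedSub.pow (Red.Ga S) m ⟶ RedSub.pow (Red.Ga S) (m + k) :=
  tup (m + k) (Fin.append (proj (Red.Ga S) m) fun _ => 1)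

/-- The first entries of a tuple. -/
def unpad (m k : ℕ) : RedSub.pow (Red.Ga S) (m + k) ⟶ RedSub.pow (Red.Ga S) m :=
  tup m fun i => proj (Red.Ga S) (m + k) (Fin.castAdd k i)

theorem pad_unpad (m k : ℕ) : pad m k ≫ unpad m k = 𝟙 (RedSub.pow (Red.Ga S) m) := pow_ext fun i => by
  simp only [pad, unpad, Category.assoc, tup_proj, Fin.append_left, Category.id_comp]

variable {G H : Over S} [GrpObj G] [GrpObj H] {D : Red.SplitRed G} {h : H ⟶ G} [IsMonHom h]

theorem comp_pad_prod {m k : ℕ} (e : Fin (m + k) → D.idx) {T : Over S} (x : T ⟶ RedSub.pow (Red.Ga S) m) :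
    (List.ofFn fun i => ((x ≫ pad m k) ≫ proj _ (m + k) i) ≫ D.u (e i)).prod =
      (List.ofFn fun i => (x ≫ proj _ m i) ≫ D.u (e (Fin.castAdd k i))).prod := by
  haveI : ∀ c, IsMonHom (D.u c) := fun c => (D.rootHom c).1
  rw [ofFn_prod_append]
  simp only [pad, Category.assoc, tup_proj, Fin.append_left, Fin.append_right, MonObj.one_comp, MonObj.comp_one,
    List.ofFn_const, List.prod_replicate, one_pow, _root_.mul_one]

theorem prodMap_comp {X : Over S} : ∀ {n : ℕ} (f : Fin n → (X ⟶ H)),
    RedSub.prodMap X n f ≫ h = RedSub.prodMap X n fun i => f i ≫ h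
  | 0, _ => MonObj.one_comp h
  | n + 1, f => by
    show ((fst _ _ ≫ f 0) * (snd _ _ ≫ RedSub.prodMap X n fun i => f i.succ)) ≫ h = _
    exact (MonObj.mul_comp _ _ h).trans (congrArg₂ (· * ·) (Category.assoc _ _ _)
      ((Category.assoc _ _ _).trans (congrArg (snd _ _ ≫ ·) (prodMap_comp _))))

variable {b : D.P.Base} {n m k l : ℕ} {eneg : Fin n → D.idx} {epos : Fin m → D.idx}
  {eneg' : Fin k → D.idx} {epos' : Fin l → D.idx}

variable (D) in
/-- The inclusion of the cell of some roots into the cell of more roots. -/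
def cellIncl (n m k l : ℕ) : cellSpace D n m ⟶ cellSpace D (n + k) (m + l) :=
  lift (fst _ _ ≫ pad n k) (lift (snd _ _ ≫ fst _ _) (snd _ _ ≫ snd _ _ ≫ pad m l))

variable (D) in
/-- The projection of a cell onto the cell of the first roots. -/
def cellProj (n m k l : ℕ) : cellSpace D (n + k) (m + l) ⟶ cellSpace D n m :=
  lift (fst _ _ ≫ unpad n k) (lift (snd _ _ ≫ fst _ _) (snd _ _ ≫ snd _ _ ≫ unpad m l))

theorem cellIncl_proj : cellIncl D n m k l ≫ cellProj D n m k l = 𝟙 _ := by
  simp only [cellIncl, cellProj, comp_lift, lift_fst_assoc, lift_snd_assoc, lift_fst, Category.assoc,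
    pad_unpad, Category.comp_id]
  ext1
  · rw [lift_fst, Category.id_comp]
  · rw [lift_snd, Category.id_comp]
    ext1
    · rw [lift_fst]
    · rw [lift_snd]

theorem cellIncl_cellMap : cellIncl D n m k l ≫ RedSub.cellMap D (Fin.append eneg eneg') (Fin.append epos epos') =
    RedSub.cellMap D eneg epos := by
  refine (comp_cellMap D _ _ _).trans ((comp_cellMap D eneg epos (𝟙 _)).symm.trans (Category.id_comp _)|> fun e => ?_)
  rw [← e]
  simp only [cellIncl, lift_fst, lift_snd_assoc, lift_snd, comp_pad_prod, Fin.append_left, Category.id_comp]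
  simp only [← Category.assoc, comp_pad_prod, Fin.append_left]

variable (hh : IsImmersion h.left) [Smooth H.hom] (hconn : RedSub.HasConnectedFibres H)
  (t : D.T ⟶ H) (ht : t ≫ h = D.i) {R' : Set D.idx}
  (hR' : ∀ a : D.idx, (∃ v : Red.Ga S ⟶ H, v ≫ h = D.u a) ↔ a ∈ R')
  (hneg : RedSub.Enumerates (R' ∩ RedSub.negRoots D.P b) eneg)
  (hpos : RedSub.Enumerates (R' ∩ RedSub.posRoots D.P b) epos)

include ht hR' hneg hpos in
theorem exists_cell_hom : ∃ f : cellSpace D n m ⟶ H, f ≫ h = RedSub.cellMap D eneg epos := by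
  choose v hv using fun a (ha : a ∈ R') => (hR' a).2 ha
  have hn : ∀ i, eneg i ∈ R' := fun i => (hneg.2 ▸ Set.mem_range_self i : eneg i ∈ R' ∩ _).1
  have hm : ∀ i, epos i ∈ R' := fun i => (hpos.2 ▸ Set.mem_range_self i : epos i ∈ R' ∩ _).1
  refine ⟨(fst _ _ ≫ RedSub.prodMap _ n fun i => v _ (hn i)) *
    ((snd _ _ ≫ fst _ _ ≫ t) * (snd _ _ ≫ snd _ _ ≫ RedSub.prodMap _ m fun i => v _ (hm i))), ?_⟩
  simp only [MonObj.mul_comp, Category.assoc, prodMap_comp, hv, ht]
  rfl

include hh hconn ht hR' hneg hpos in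
/-- The cell of the roots of a subgroup is open in the subgroup. -/
theorem exists_cell [PreconnectedSpace S] [Nonempty S] :
    ∃ f : cellSpace D n m ⟶ H, f ≫ h = RedSub.cellMap D eneg epos ∧ IsOpenImmersion f.left := by
  classical
  haveI := hh
  haveI : Mono h := Over.mono_of_mono_left h
  obtain ⟨f, hf⟩ := exists_cell_hom t ht hR' hneg hpos
  obtain ⟨k, en', hen'⟩ := exists_enum (D := D) (RedSub.negRoots D.P b \ R')
  obtain ⟨l, ep', hep'⟩ := exists_enum (D := D) (RedSub.posRoots D.P b \ R')
  have hN : RedSub.Enumerates (RedSub.negRoots D.P b) (Fin.append eneg en') :=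
    enum_append hneg hen' (fun a ha hb => hb.2 ha.1) (by rw [Set.inter_comm, Set.inter_union_sdiff])
  have hP : RedSub.Enumerates (RedSub.posRoots D.P b) (Fin.append epos ep') :=
    enum_append hpos hep' (fun a ha hb => hb.2 ha.1) (by rw [Set.inter_comm, Set.inter_union_sdiff])
  haveI := isOpenImmersion_cellMap hN hP
  let cm := RedSub.cellMap D (Fin.append eneg en') (Fin.append epos ep')
  let U : H.left.Opens := h.left ⁻¹ᵁ cm.left.opensRange
  let oU : Over.mk (U.ι ≫ H.hom) ⟶ H := Over.homMk U.ι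
  have hr : Set.range (oU ≫ h).left ⊆ Set.range cm.left := by
    rintro _ ⟨x, rfl⟩
    exact x.2
  let q : Over.mk (U.ι ≫ H.hom) ⟶ cellSpace D (n + k) (m + l) :=
    Over.homMk (IsOpenImmersion.lift cm.left (oU ≫ h).left hr) (by
      rw [← Over.w cm, IsOpenImmersion.lift_fac_assoc, Over.w (oU ≫ h)])
  have hq : q ≫ cm = oU ≫ h := Over.OverMorphism.ext (IsOpenImmersion.lift_fac _ _ _)
  have hrq : q ≫ cellProj D n m k l ≫ cellIncl D n m k l = q := hom_ext_open fun R _ j _ C _ _ τ => by
    obtain ⟨d, hd⟩ := (toCell_bijective hN hP (j := j)).2 (τ ≫ q)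
    have hmem : chart j D.u (cellList (Fin.append eneg en') (Fin.append epos ep')) d ∈ HP j C h := by
      rw [← toCell_cellMap, hd, Category.assoc, hq]
      exact mem_HP.2 ⟨τ ≫ oU, Category.assoc _ _ _⟩
    have h0 : ∀ c, c ∉ R' → d.co c = 0 := fun c hc => cell_roots hN hP hh hconn t ht d hmem c fun hc' =>
      hc ((hR' c).1 ((mem_tanRoots_iff hN hP hh t ht c).2 hc'))
    rw [← Category.assoc, ← hd]
    simp only [toCell, cellProj, cellIncl, comp_lift, lift_fst_assoc, lift_snd_assoc, lift_fst]
    congr 1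
    · refine pow_ext fun i => ?_
      induction i using Fin.addCases with
      | left i =>
        simp only [pad, unpad, Category.assoc, tup_proj, Fin.append_left]
        erw [lift_fst_assoc, tup_proj, Fin.append_left]
      | right i =>
        simp only [pad, Category.assoc, tup_proj, Fin.append_right, MonObj.comp_one]
        rw [h0 _ ((hen'.2 ▸ Set.mem_range_self i : en' i ∈ _ \ R')).2, mul_zero, gp_zero]
    · congr 1
      refine pow_ext fun i => ?_
      induction i using Fin.addCases with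
      | left i =>
        simp only [pad, unpad, Category.assoc, tup_proj, Fin.append_left]
        erw [lift_snd_assoc, lift_snd_assoc, tup_proj, Fin.append_left]
      | right i =>
        simp only [pad, Category.assoc, tup_proj, Fin.append_right, MonObj.comp_one]
        rw [h0 _ ((hep'.2 ▸ Set.mem_range_self i : ep' i ∈ _ \ R')).2, gp_zero]
  refine ⟨f, hf, ?_⟩
  have hrf : Set.range f.left ⊆ Set.range U.ι := by
    rintro _ ⟨x, rfl⟩
    rw [Scheme.Opens.range_ι]
    refine ⟨(cellIncl D n m k l).left x, ?_⟩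
    show ((cellIncl D n m k l ≫ cm).left) x = (f ≫ h).left x
    rw [cellIncl_cellMap, hf]
  let f' : cellSpace D n m ⟶ Over.mk (U.ι ≫ H.hom) := Over.homMk (IsOpenImmersion.lift U.ι f.left hrf) (by
    show _ ≫ U.ι ≫ H.hom = _
    rw [IsOpenImmersion.lift_fac_assoc, Over.w f])
  have hf' : f' ≫ oU = f := Over.OverMorphism.ext (IsOpenImmersion.lift_fac _ _ _)
  haveI : Mono oU := Over.mono_of_mono_left oU
  haveI : Mono cm := Over.mono_of_mono_left cm
  have hinv : (q ≫ cellProj D n m k l) ≫ f = oU := (cancel_mono h).1 <| by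
    rw [Category.assoc, hf, ← cellIncl_cellMap (eneg' := en') (epos' := ep'), ← Category.assoc, Category.assoc q,
      hrq, hq]
  haveI : IsIso f' := ⟨q ≫ cellProj D n m k l, by
    have e : f' ≫ q = cellIncl D n m k l := (cancel_mono cm).1 (by
      rw [Category.assoc, hq, ← Category.assoc, hf', hf, cellIncl_cellMap])
    rw [← Category.assoc, e, cellIncl_proj], (cancel_mono oU).1 (by rw [Category.assoc, hf', Category.id_comp, hinv])⟩
  haveI : IsIso f'.left := inferInstanceAs (IsIso ((Over.forget S).map f'))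
  rw [← hf', Over.comp_left]
  exact inferInstanceAs (IsOpenImmersion (f'.left ≫ U.ι))

end Groth.L14.TypeR
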