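import Groth.Agent.L14.Chev.Cell.Closed
import Groth.Agent.L14.Chev.Cell.Open

/-!
The chart along the negative and then the positive roots is an open immersion.
-/

set_option autoImplicit false
universe u

open CategoryTheory CategoryTheory.Limits AlgebraicGeometry MonoidalCategory CartesianMonoidalCategory MonObj
open Groth.L14.RankOne Groth.L25 Groth.L14.Chart Groth.L14.Chev.Cell

set_option backward.isDefEq.respectTransparency.types false
set_option linter.style.haveILetI false
set_option linter.unusedSectionVars false

noncomputable section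

namespace Groth.L14.TypeR

variable {S : Scheme.{u}} {G : Over S} [GrpObj G] {D : Red.SplitRed G} {b : D.P.Base} {n m : ℕ}
  {eneg : Fin n → D.idx} {epos : Fin m → D.idx} (hneg : RedSub.Enumerates (RedSub.negRoots D.P b) eneg)
  (hpos : RedSub.Enumerates (RedSub.posRoots D.P b) epos) {R : Type u} [CommRing R]
  {j : Spec (CommRingCat.of R) ⟶ S} {C : Type u} [CommRing C] [Algebra R C]

/-- The negative roots followed by the positive roots. -/
abbrev cellList (eneg : Fin n → D.idx) (epos : Fin m → D.idx) : List D.idx := List.ofFn eneg ++ List.ofFn epos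

include hneg hpos in
theorem nodup_cellList : (cellList eneg epos).Nodup := by
  obtain ⟨lam, hl⟩ := hasLam b
  refine List.nodup_append.2 ⟨nodup_list hneg, nodup_list hpos, fun c hc c' hc' h => ?_⟩
  subst h
  have h1 := (hl c).2 ((mem_list_iff hneg c).1 hc)
  have h2 := (hl c).1 ((mem_list_iff hpos c).1 hc')
  omega

include hneg hpos in
theorem mem_cellList (c : D.idx) : c ∈ cellList eneg epos := by
  rw [List.mem_append, mem_list_iff hneg, mem_list_iff hpos]
  exact (pos_or_neg D.P b c).symm

variable (eneg epos) in
/-- The point of the cell space with given chart coordinates. -/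
def toCell (d : Coord D C) : Sp j C ⟶ cellSpace D n m :=
  lift (tup n fun k => gp j (d.tor (Multiplicative.ofAdd (D.P.root (eneg k))) * d.co (eneg k)))
    (lift (tpt D j d.tor) (tup m fun k => gp j (d.co (epos k))))

theorem tup_comp {X T T' : Over S} (u : T' ⟶ T) {k : ℕ} (x : Fin k → (T ⟶ X)) :
    u ≫ tup k x = tup k fun i => u ≫ x i :=
  pow_ext fun i => by rw [Category.assoc, tup_proj, tup_proj]

theorem mor_toCell {C' : Type u} [CommRing C'] [Algebra R C'] (φ : C →ₐ[R] C') (d : Coord D C) :
    mor j φ ≫ toCell eneg epos d = toCell eneg epos (d.map φ.toRingHom) := by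
  simp only [toCell, comp_lift, tup_comp, mor_gp, mor_tpt, map_mul]
  rfl

theorem toCell_cellMap (d : Coord D C) :
    toCell eneg epos d ≫ RedSub.cellMap D eneg epos = chart j D.u (cellList eneg epos) d := by
  refine (lift_cellMap (eneg := eneg) (epos := epos) d.tor
    (fun c => d.tor (Multiplicative.ofAdd (D.P.root c)) * d.co c) d.co).trans ?_
  rw [chart, ← conj_rootProd j D.rootHom, show rootProd j D.u (cellList eneg epos) d.co =
    rootProd j D.u (List.ofFn eneg) d.co * rootProd j D.u (List.ofFn epos) d.co by
      simp only [rootProd, List.map_append, List.prod_append]]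
  group

include hneg hpos in
theorem toCell_bijective : Function.Bijective (toCell eneg epos : Coord D C → (Sp j C ⟶ cellSpace D n m)) := by
  have hunit : ∀ (χ : Multiplicative D.M →* C) (k : Multiplicative D.M), χ k⁻¹ * χ k = 1 := fun χ k => by
    rw [← map_mul, inv_mul_cancel, map_one]
  refine ⟨fun d d' h => ?_, fun t => ?_⟩
  · have ht : d.tor = d'.tor := by
      have := congrArg (fun t => t ≫ snd _ _ ≫ fst _ _) h
      simp only [toCell, lift_snd_assoc, lift_fst] at this
      exact tpt_injective j this
    refine Coord.ext ht (funext fun c => ?_)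
    rcases pos_or_neg D.P b c with hc | hc
    · rw [← hpos.2] at hc
      obtain ⟨k, rfl⟩ := hc
      have := congrArg (fun t => gv ((t ≫ snd _ _ ≫ snd _ _) ≫ proj _ m k)) h
      simpa only [toCell, lift_snd_assoc, lift_snd, tup_proj, gv_gp] using this
    · rw [← hneg.2] at hc
      obtain ⟨k, rfl⟩ := hc
      have := congrArg (fun t => gv ((t ≫ fst _ _) ≫ proj _ n k)) h
      simp only [toCell, lift_fst, tup_proj, gv_gp, ht] at this
      have h' := congrArg (d'.tor (Multiplicative.ofAdd (D.P.root (eneg k)))⁻¹ * ·) this
      simpa only [← _root_.mul_assoc, hunit, _root_.one_mul] using h'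
  · classical
    obtain ⟨χ, y, x, -, et⟩ := exists_coords (eneg := eneg) (epos := epos) t hneg.1 hpos.1
    refine ⟨⟨χ, fun c => if c ∈ RedSub.posRoots D.P b then x c else
      χ (Multiplicative.ofAdd (D.P.root c))⁻¹ * y c⟩, ?_⟩
    have h1 : ∀ k, epos k ∈ RedSub.posRoots D.P b := fun k => hpos.2 ▸ Set.mem_range_self k
    have h2 : ∀ k, eneg k ∉ RedSub.posRoots D.P b := fun k hk => by
      obtain ⟨lam, hl⟩ := hasLam b
      have := (hl _).1 hk
      have := (hl _).2 (hneg.2 ▸ Set.mem_range_self k : eneg k ∈ RedSub.negRoots D.P b)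
      omega
    rw [et, toCell]
    simp only [h1, h2, if_true, if_false, ← _root_.mul_assoc, mul_comm (χ _) (χ _⁻¹), hunit, _root_.one_mul]

variable [IsOpenImmersion j]

include hneg hpos in
/-- The chart is an open immersion. -/
theorem isOpenImmersion_chart :
    IsOpenImmersion (chart j D.u (cellList eneg epos) (univCoord D R)).left := by
  haveI := (affSmooth_cell D n m).1
  obtain ⟨d, hd⟩ := (toCell_bijective hneg hpos (j := j)).2 (univ j (cellSpace D n m))
  let ψ : Crd j (cellSpace D n m) →ₐ[R] CoordRing D R := ptEquiv.symm (toCell eneg epos (univCoord D R))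
  have hψ : mor j ψ ≫ univ j (cellSpace D n m) = toCell eneg epos (univCoord D R) := by
    rw [← ptEquiv_apply, Equiv.apply_symm_apply]
  have e1 : ψ.comp (evalCoord (R := R) d) = AlgHom.id R (CoordRing D R) := by
    refine coordHom_ext ?_
    rw [show (ψ.comp (evalCoord (R := R) d)).toRingHom = ψ.toRingHom.comp (evalCoord (R := R) d).toRingHom from rfl,
      ← Coord.map_map, map_evalCoord]
    refine (toCell_bijective hneg hpos (j := j)).1 ?_
    rw [← mor_toCell, hd, hψ]
    rfl
  have e2 : (evalCoord (R := R) d).comp ψ = AlgHom.id R (Crd j (cellSpace D n m)) := by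
    refine ptEquiv.injective ?_
    rw [ptEquiv_comp, Equiv.apply_symm_apply, mor_toCell, map_evalCoord, hd, ptEquiv_apply, mor_id, Category.id_comp]
  haveI : IsIso (mor j ψ) :=
    ⟨mor j (evalCoord (R := R) d), by rw [← mor_comp, e1, mor_id], by rw [← mor_comp, e2, mor_id]⟩
  haveI : IsIso (mor j ψ).left := inferInstanceAs (IsIso ((Over.forget S).map (mor j ψ)))
  haveI : IsOpenImmersion (univ j (cellSpace D n m)).left :=
    inferInstanceAs (IsOpenImmersion ((pullback (cellSpace D n m).hom j).isoSpec.inv ≫ pullback.fst _ j))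
  haveI := isOpenImmersion_cellMap hneg hpos
  rw [← toCell_cellMap, ← hψ, Over.comp_left, Over.comp_left]
  infer_instance

end Groth.L14.TypeR
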