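import Groth.Agent.L14.TypeR.Cell

/-!
A smooth subgroup with connected fibres is contained in every subgroup containing an open neighbourhood of its
unit section; containment of subgroups containing the torus is read on the roots.
-/

set_option autoImplicit false
universe u

open CategoryTheory CategoryTheory.Limits AlgebraicGeometry MonoidalCategory CartesianMonoidalCategory MonObj
open Groth.L14.RankOne Groth.L25 Groth.L14.Chart Groth.L14.Chev.Cell

set_option backward.isDefEq.respectTransparency.types false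
set_option linter.style.haveILetI false
set_option linter.unusedSectionVars false
set_option maxHeartbeats 1000000

noncomputable section

namespace Groth.L14.TypeR

variable {S : Scheme.{u}} {G H H'' : Over S} [GrpObj G] [GrpObj H] [GrpObj H'']

/-- A smooth group with connected fibres lands in a subgroup as soon as a neighbourhood of its unit does. -/
theorem exists_hom_of_open (h : H ⟶ G) [IsMonHom h] (h'' : H'' ⟶ G) [IsMonHom h''] [Mono h''.left] [Smooth H.hom]
    (hconn : RedSub.HasConnectedFibres H) {Z : Over S} (f₀ : Z ⟶ H) [IsOpenImmersion f₀.left]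
    (e : 𝟙_ (Over S) ⟶ Z) (he : e ≫ f₀ = 1) (w : Z ⟶ H'') (hw : w ≫ h'' = f₀ ≫ h) :
    ∃ f : H ⟶ H'', f ≫ h'' = h := by
  have hIrr : Groth.L02.SchDom.IrrFib H.hom := Groth.L02.SchDom.irrFib_of_group H fun s =>
    Groth.L02.SchDom.connectedSpace_fiber_of_isConnected H.hom s (hconn s)
  let P : Over S := Over.mk (pullback.fst h.left h''.left ≫ H.hom)
  let pH : P ⟶ H := Over.homMk (pullback.fst h.left h''.left)
  let pK : P ⟶ H'' := Over.homMk (pullback.snd h.left h''.left) (by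
    show _ = pullback.fst h.left h''.left ≫ H.hom
    rw [← Over.w h'', ← pullback.condition_assoc, Over.w h])
  have hP : pH ≫ h = pK ≫ h'' := Over.OverMorphism.ext pullback.condition
  let y : P ⟶ 𝟙_ (Over S) ⊗ H := lift (toUnit P) pH
  have hy : y ≫ snd _ _ = pH := lift_snd _ _
  haveI : Mono y.left := by
    haveI : Mono (y.left ≫ (snd (𝟙_ (Over S)) H).left) := by
      rw [← Over.comp_left, hy]
      exact inferInstanceAs (Mono (pullback.fst h.left h''.left))
    exact mono_of_mono y.left (snd (𝟙_ (Over S)) H).left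
  have hchar : ∀ (T : Over S) (g : T ⟶ 𝟙_ (Over S)) (a : T ⟶ H),
      (∃ p, p ≫ y = lift g a) ↔ ∃ z : T ⟶ H'', z ≫ h'' = a ≫ h := by
    intro T g a
    refine ⟨fun ⟨p, hp⟩ => ⟨p ≫ pK, ?_⟩, fun ⟨z, hz⟩ => ?_⟩
    · have h2 : p ≫ pH = a := by rw [← hy, ← Category.assoc, hp, lift_snd]
      rw [Category.assoc, ← hP, ← Category.assoc, h2]
    · let p : T ⟶ P := Over.homMk (pullback.lift a.left z.left (congrArg CommaMorphism.left hz.symm)) (by
        show _ ≫ pullback.fst h.left h''.left ≫ H.hom = _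
        rw [pullback.lift_fst_assoc, Over.w a])
      have h2 : p ≫ pH = a := Over.OverMorphism.ext (pullback.lift_fst _ _ _)
      exact ⟨p, by
        apply CartesianMonoidalCategory.hom_ext
        · exact toUnit_unique _ _
        · rw [Category.assoc, hy, h2, lift_snd]⟩
  let V : (𝟙_ (Over S) ⊗ H).left.Opens := (snd (𝟙_ (Over S)) H).left ⁻¹ᵁ f₀.left.opensRange
  let oV : Over.mk (V.ι ≫ (𝟙_ (Over S) ⊗ H).hom) ⟶ 𝟙_ (Over S) ⊗ H := Over.homMk V.ι
  have hr : Set.range (oV ≫ snd _ _).left ⊆ Set.range f₀.left := by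
    rintro _ ⟨x, rfl⟩
    exact x.2
  let q : Over.mk (V.ι ≫ (𝟙_ (Over S) ⊗ H).hom) ⟶ Z :=
    Over.homMk (IsOpenImmersion.lift f₀.left (oV ≫ snd _ _).left hr) (by
      rw [← Over.w f₀, IsOpenImmersion.lift_fac_assoc, Over.w (oV ≫ snd _ _)])
  have hq : q ≫ f₀ = oV ≫ snd _ _ := Over.OverMorphism.ext (IsOpenImmersion.lift_fac _ _ _)
  obtain ⟨p, hp⟩ := (hchar _ (oV ≫ fst _ _) (oV ≫ snd _ _)).2
    ⟨q ≫ w, by rw [Category.assoc, hw, ← Category.assoc, hq]⟩
  have hp' : p ≫ y = oV := by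
    rw [hp]
    exact (comp_lift oV (fst _ _) (snd _ _)).symm.trans (by rw [lift_fst_snd, Category.comp_id])
  obtain ⟨l, hl⟩ := Groth.L02.SchDom.factors_of_open_subgroup hIrr y
    (fun T g a b ha hb => by
      obtain ⟨za, hza⟩ := (hchar T g a).1 ha
      obtain ⟨zb, hzb⟩ := (hchar T g b).1 hb
      exact (hchar T g _).2 ⟨za * zb, by rw [MonObj.mul_comp, MonObj.mul_comp, hza, hzb]⟩)
    (𝟙 (𝟙_ (Over S))) V (by
      rintro _ ⟨x, rfl⟩
      refine ⟨e.left x, ?_⟩
      show (e ≫ f₀).left x = (lift (𝟙 _) (1 : 𝟙_ (Over S) ⟶ H) ≫ snd _ _).left x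
      rw [he, lift_snd])
    ⟨p.left, by rw [id_whiskerRight, ← Over.comp_left, hp']; exact (Category.comp_id _).symm⟩
  rw [id_whiskerRight] at hl
  let P' : 𝟙_ (Over S) ⊗ H ⟶ P := Over.homMk l (by
    rw [← Over.w y, reassoc_of% hl]
    exact Category.id_comp _)
  have hP' : P' ≫ y = 𝟙 _ := Over.OverMorphism.ext hl
  refine ⟨lift (toUnit H) (𝟙 H) ≫ P' ≫ pK, ?_⟩
  rw [Category.assoc, Category.assoc, ← hP, ← hy, Category.assoc, reassoc_of% hP', lift_snd_assoc, Category.id_comp]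

variable {D : Red.SplitRed G} {h : H ⟶ G} [IsMonHom h] {n m : ℕ} {eneg : Fin n → D.idx} {epos : Fin m → D.idx}

/-- The origin of a cell. -/
def cellOrigin (D : Red.SplitRed G) (n m : ℕ) : 𝟙_ (Over S) ⟶ cellSpace D n m :=
  lift (tup n fun _ => 1) (lift 1 (tup m fun _ => 1))

theorem cellOrigin_cellMap : cellOrigin D n m ≫ RedSub.cellMap D eneg epos = 1 := by
  haveI := isMonHom_i (D := D)
  haveI : ∀ c, IsMonHom (D.u c) := fun c => (D.rootHom c).1
  rw [comp_cellMap]
  simp only [cellOrigin, lift_fst, lift_snd_assoc, lift_snd, tup_proj, MonObj.one_comp, List.ofFn_const,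
    List.prod_replicate, one_pow, _root_.mul_one]

/-- Containment of subgroups containing the torus is read on the roots. -/
theorem exists_hom_of_roots [PreconnectedSpace S] [Nonempty S] (hh : IsImmersion h.left) [Smooth H.hom]
    (hconn : RedSub.HasConnectedFibres H) (t : D.T ⟶ H) (ht : t ≫ h = D.i) (b : D.P.Base)
    (h'' : H'' ⟶ G) [IsMonHom h''] [Mono h''.left] (t'' : D.T ⟶ H'') (ht'' : t'' ≫ h'' = D.i)
    (hsub : ∀ a, (∃ v : Red.Ga S ⟶ H, v ≫ h = D.u a) → ∃ w : Red.Ga S ⟶ H'', w ≫ h'' = D.u a) :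
    ∃ f : H ⟶ H'', f ≫ h'' = h := by
  haveI := hh
  haveI : Mono h := Over.mono_of_mono_left h
  let R' : Set D.idx := {a | ∃ v : Red.Ga S ⟶ H, v ≫ h = D.u a}
  obtain ⟨n, en, hen⟩ := exists_enum (D := D) (R' ∩ RedSub.negRoots D.P b)
  obtain ⟨m, ep, hep⟩ := exists_enum (D := D) (R' ∩ RedSub.posRoots D.P b)
  obtain ⟨f₀, hf₀, hopen⟩ := exists_cell hh hconn t ht (R' := R') (fun _ => Iff.rfl) hen hep
  choose v hv using fun a (ha : a ∈ R') => hsub a ha
  have hn : ∀ i, en i ∈ R' := fun i => (hen.2 ▸ Set.mem_range_self i : en i ∈ R' ∩ _).1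
  have hm : ∀ i, ep i ∈ R' := fun i => (hep.2 ▸ Set.mem_range_self i : ep i ∈ R' ∩ _).1
  refine exists_hom_of_open h h'' hconn f₀ (cellOrigin D n m) ((cancel_mono h).1 ?_)
    ((fst _ _ ≫ RedSub.prodMap _ n fun i => v _ (hn i)) *
      ((snd _ _ ≫ fst _ _ ≫ t'') * (snd _ _ ≫ snd _ _ ≫ RedSub.prodMap _ m fun i => v _ (hm i)))) ?_
  · rw [Category.assoc, hf₀, cellOrigin_cellMap, MonObj.one_comp]
  · simp only [MonObj.mul_comp, Category.assoc, prodMap_comp, hv, ht'']
    exact hf₀.symm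

end Groth.L14.TypeR
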