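import Groth.Agent.L14.TypeR.Split
import Groth.Agent.L02.SchDom.WeilSmoothRing
import Groth.Agent.L02.SchDom.MonoLocus
import Mathlib.RingTheory.Nakayama

/-!
A smooth subgroup with connected fibres containing the torus meets the big cell in the cell of its roots.
-/

set_option autoImplicit false
universe u

open CategoryTheory CategoryTheory.Limits AlgebraicGeometry MonoidalCategory CartesianMonoidalCategory MonObj
open Groth.L14.RankOne Groth.L25 Groth.L14.Chart Groth.L14.Chev.Cell

set_option backward.isDefEq.respectTransparency.types false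
set_option linter.style.haveILetI false
set_option linter.unusedSectionVars false
set_option maxHeartbeats 1000000

noncomputable section

namespace Groth.L14.TypeR

variable {S : Scheme.{u}} {G H : Over S} [GrpObj G] [GrpObj H] {D : Red.SplitRed G} {h : H ⟶ G} [IsMonHom h]
  {b : D.P.Base} {n m : ℕ} {eneg : Fin n → D.idx} {epos : Fin m → D.idx}
  (hneg : RedSub.Enumerates (RedSub.negRoots D.P b) eneg) (hpos : RedSub.Enumerates (RedSub.posRoots D.P b) epos)
  {R : Type u} [CommRing R] {j : Spec (CommRingCat.of R) ⟶ S} [IsOpenImmersion j]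

theorem evalCoord_X {C : Type u} [CommRing C] [Algebra R C] (d : Coord D C) (c : D.idx) :
    evalCoord (R := R) d (MvPolynomial.X c) = d.co c :=
  congrFun (congrArg Coord.co (map_evalCoord (R := R) d)) c

include hneg hpos in
theorem rootProd_mem [Nonempty S] (hh : IsImmersion h.left) [Smooth H.hom] (t : D.T ⟶ H) (ht : t ≫ h = D.i)
    {C : Type u} [CommRing C] [Algebra R C] (x : D.idx → C) (hx : ∀ c, c ∉ tanRoots D h → x c = 0) :
    rootProd j D.u (cellList eneg epos) x ∈ HP j C h := by
  classical
  haveI : ∀ c, IsMonHom (D.u c) := fun c => (D.rootHom c).1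
  obtain ⟨Q⟩ := exists_eqns j h (cellList eneg epos) hh (isOpenImmersion_chart hneg hpos)
  refine Subgroup.list_prod_mem _ fun g hg => ?_
  obtain ⟨c, -, rfl⟩ := List.mem_map.1 hg
  by_cases hc : c ∈ tanRoots D h
  · exact root_mem_local hneg hpos hh t ht Q hc _
  · rw [hx c hc, gp_zero, MonObj.one_comp]
    exact one_mem _

include hneg hpos in
theorem chart_mem [Nonempty S] (hh : IsImmersion h.left) [Smooth H.hom] (t : D.T ⟶ H) (ht : t ≫ h = D.i)
    {C : Type u} [CommRing C] [Algebra R C] (d : Coord D C) (hd : ∀ c, c ∉ tanRoots D h → d.co c = 0) :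
    chart j D.u (cellList eneg epos) d ∈ HP j C h :=
  mul_mem (torus_mem t ht d.tor) (rootProd_mem hneg hpos hh t ht d.co hd)

include hneg hpos in
theorem exists_nhd_cell [PreconnectedSpace S] [Nonempty S] (hh : IsImmersion h.left) [Smooth H.hom]
    (t : D.T ⟶ H) (ht : t ≫ h = D.i) (Q : Eqns j h D (cellList eneg epos)) :
    ∃ g : CoordRing D R, originPt D R g = 1 ∧
      ∀ (C : Type u) [CommRing C] [Algebra R C] (d : Coord D C), chart j D.u (cellList eneg epos) d ∈ HP j C h →
        IsUnit (evalCoord (R := R) d g) → ∀ c, c ∉ tanRoots D h → d.co c = 0 := by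
  classical
  haveI := reductive_affine D
  obtain ⟨eB, heB⟩ := Q.fac R (originPt D R) (by rw [Q.one_f]; exact isUnit_one) fun a ha => one_mem_coord Q a ha
  have heπ : ∀ a, eB (Q.π a) = originPt D R a := fun a => DFunLike.congr_fun heB a
  let Y : D.idx → Q.B := fun c => Q.π (MvPolynomial.X c)
  let P : Ideal Q.B := Ideal.span (Y '' {c | c ∉ tanRoots D h})
  let Ie : Ideal Q.B := RingHom.ker eB
  have hPle : P ≤ Ie := Ideal.span_le.2 <| by
    rintro _ ⟨c, -, rfl⟩
    show eB (Q.π _) = 0
    rw [heπ, originPt_X]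
  -- the first order part outside the roots vanishes
  have hmain : P ≤ Ie * P := by
    let C := Q.B ⧸ Ie * P
    let q : Q.B →ₐ[R] C := Ideal.Quotient.mkₐ R (Ie * P)
    let e : C →ₐ[R] R := Ideal.Quotient.liftₐ _ eB fun z hz => (Ideal.mul_le_left : Ie * P ≤ Ie) hz
    have heq : ∀ z, e (q z) = eB z := fun z => rfl
    let I : Ideal C := P.map q
    have hI : ∀ i ∈ I, ∃ z ∈ P, q z = i := fun i hi =>
      (Ideal.mem_map_iff_of_surjective q Ideal.Quotient.mk_surjective).1 hi
    have hIe : ∀ i ∈ I, e i = 0 := fun i hi => by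
      obtain ⟨z, hz, rfl⟩ := hI i hi
      rw [heq]; exact hPle hz
    have hkI : ∀ z, e z = 0 → ∀ i ∈ I, z * i = 0 := fun z hz i hi => by
      obtain ⟨w, hw, rfl⟩ := hI i hi
      obtain ⟨z, rfl⟩ := Ideal.Quotient.mk_surjective z
      exact (map_mul (Ideal.Quotient.mk _) z w).symm.trans
        (Ideal.Quotient.eq_zero_iff_mem.2 (Ideal.mul_mem_mul (show z ∈ Ie from hz) hw))
    have hII : ∀ i ∈ I, ∀ i' ∈ I, i * i' = 0 := fun i hi => hkI i (hIe i hi)
    let d : Coord D C := (univCoord D R).map (q.comp Q.π).toRingHom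
    have hev : evalCoord (R := R) d = q.comp Q.π := coordHom_ext (map_evalCoord _)
    have hmem : chart j D.u (cellList eneg epos) d ∈ HP j C h :=
      (Q.mem C d (by rw [hev]; exact Q.unit_f.map q)).2 fun a ha => by rw [hev, AlgHom.comp_apply, ha, map_zero]
    let x : D.idx → C := fun c => if c ∈ tanRoots D h then d.co c else 0
    let δ : D.idx → C := fun c => if c ∈ tanRoots D h then 0 else d.co c
    have hδ : ∀ c, δ c ∈ I := fun c => by
      by_cases hc : c ∈ tanRoots D h
      · simp [δ, hc]
      · simp only [δ, hc, if_false]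
        exact Ideal.mem_map_of_mem q (Ideal.subset_span ⟨c, hc, rfl⟩)
    have hx : ∀ c, e (x c) = 0 := fun c => by
      by_cases hc : c ∈ tanRoots D h
      · simp only [x, hc, if_true]
        show eB (Q.π _) = 0
        rw [show (univCoord D R).co c = MvPolynomial.X c from rfl, heπ, originPt_X]
      · simp [x, hc]
    have hχ : ∀ k, e (d.tor k) = 1 := fun k => by
      show eB (Q.π _) = 1
      rw [heπ]
      exact DFunLike.congr_fun (congrArg Coord.tor (map_evalCoord (R := R) (Coord.zero D R))) k
    have hd : d = ⟨d.tor, x + δ⟩ := by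
      refine Coord.ext rfl (funext fun c => ?_)
      by_cases hc : c ∈ tanRoots D h <;> simp [x, δ, hc]
    rw [hd, chart_split e I hIe hII hkI d.tor x δ hχ hx hδ] at hmem
    have hδmem : chart j D.u (cellList eneg epos) (co1 δ) ∈ HP j C h :=
      (Subgroup.mul_mem_cancel_left _
        (chart_mem hneg hpos hh t ht ⟨d.tor, x⟩ fun c hc => by simp [x, hc])).1 hmem
    refine Ideal.span_le.2 ?_
    rintro _ ⟨c, hc, rfl⟩
    have hz : ∀ a, Q.π a = 0 → algebraMap R C (coeffL D R c a) * δ c = 0 := fun a ha =>
      decompose t ht Q δ (fun c c' => hII _ (hδ c) _ (hδ c')) hδmem a ha c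
    let J : Ideal R :=
      { carrier := {r | algebraMap R C r * δ c = 0}
        add_mem' := fun {p p'} (hp : _ = _) (hp' : _ = _) => by
          show algebraMap R C (p + p') * δ c = 0
          rw [map_add, add_mul, hp, hp', add_zero]
        zero_mem' := by show algebraMap R C 0 * δ c = 0; rw [map_zero, zero_mul]
        smul_mem' := fun p p' (hp' : _ = _) => by
          show algebraMap R C (p * p') * δ c = 0
          rw [map_mul, _root_.mul_assoc, hp', mul_zero] }
    have hJ : J = ⊤ := by
      by_contra hne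
      obtain ⟨M, hM, hle⟩ := Ideal.exists_le_maximal J hne
      obtain ⟨a, ha, haM⟩ := exists_ne_of_notMem hneg hpos hh t ht Q hc ⟨M, hM.isPrime⟩
      exact haM (hle (hz a ha))
    have h1 : algebraMap R C 1 * δ c = 0 := (Ideal.eq_top_iff_one J).1 hJ
    rw [map_one, _root_.one_mul] at h1
    simp only [δ, show c ∉ tanRoots D h from hc, if_false] at h1
    exact Ideal.Quotient.eq_zero_iff_mem.1 h1
  obtain ⟨r, hr, hrP⟩ := Submodule.exists_sub_one_mem_and_smul_eq_zero_of_fg_of_le_smul Ie P
    (Submodule.fg_span (Set.toFinite _)) (by rwa [smul_eq_mul])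
  obtain ⟨N, a, ha⟩ := Q.surj r
  refine ⟨Q.f * a, ?_, fun C _ _ d hd hu c hc => ?_⟩
  · rw [map_mul, Q.one_f, _root_.one_mul, ← heπ, ← ha, map_mul, map_pow, heπ, Q.one_f, one_pow, _root_.mul_one,
      ← sub_eq_zero, ← map_one eB, ← map_sub]
    exact hr
  · rw [map_mul] at hu
    have huf := isUnit_of_mul_isUnit_left hu
    obtain ⟨ψ, hψ⟩ := Q.fac C (evalCoord d) huf ((Q.mem C d huf).1 hd)
    have hψr : IsUnit (ψ r) := by
      have h1 := congrArg ψ ha
      rw [map_mul, map_pow] at h1
      have h2 : IsUnit (ψ r * ψ (Q.π Q.f) ^ N) := by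
        rw [h1, show ψ (Q.π a) = evalCoord (R := R) d a from DFunLike.congr_fun hψ a]
        exact isUnit_of_mul_isUnit_right hu
      exact isUnit_of_mul_isUnit_left h2
    have h3 := congrArg ψ (hrP (Y c) (Ideal.subset_span ⟨c, hc, rfl⟩))
    rw [smul_eq_mul, map_mul, map_zero] at h3
    have h4 := hψr.mul_right_eq_zero.1 h3
    rwa [show ψ (Y c) = evalCoord (R := R) d (MvPolynomial.X c) from DFunLike.congr_fun hψ _, evalCoord_X] at h4

include hneg hpos in
/-- The subgroup meets the big cell in the cell of its roots. -/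
theorem cell_roots [PreconnectedSpace S] [Nonempty S] (hh : IsImmersion h.left) [Smooth H.hom]
    (hconn : RedSub.HasConnectedFibres H) (t : D.T ⟶ H) (ht : t ≫ h = D.i)
    {C : Type u} [CommRing C] [Algebra R C] (d : Coord D C)
    (hd : chart j D.u (cellList eneg epos) d ∈ HP j C h) : ∀ c, c ∉ tanRoots D h → d.co c = 0 := by
  classical
  haveI := hh
  haveI := isOpenImmersion_chart hneg hpos (j := j)
  haveI : ∀ c, IsMonHom (D.u c) := fun c => (D.rootHom c).1
  obtain ⟨Q⟩ := exists_eqns j h (cellList eneg epos) hh (isOpenImmersion_chart hneg hpos)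
  obtain ⟨g, hg1, hg⟩ := exists_nhd_cell hneg hpos hh t ht Q
  let A := CoordRing D R
  let uA : Sp j A ⟶ G := chart j D.u (cellList eneg epos) (univCoord D R)
  haveI : IsOpenImmersion uA.left := isOpenImmersion_chart hneg hpos
  let X := pullback h.left uA.left
  let f : X ⟶ Spec (CommRingCat.of R) := pullback.snd h.left uA.left ≫ Spec.map (CommRingCat.ofHom (algebraMap R A))
  let a : X ⟶ Spec (CommRingCat.of A) := pullback.snd h.left uA.left
  have hfj : f ≫ j = pullback.fst h.left uA.left ≫ H.hom := by
    rw [← Over.w h, pullback.condition_assoc, Over.w uA, Category.assoc]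
    rfl
  haveI : Smooth f := by
    haveI : Smooth (f ≫ j) := by rw [hfj]; infer_instance
    exact MorphismProperty.of_isPullback (P := @Smooth)
      (IsPullback.of_horiz_isIso_mono (fst := 𝟙 _) (snd := f) (f := f ≫ j) (g := j) ⟨by rw [Category.id_comp]⟩) ‹_›
  have hHfib : Groth.L02.SchDom.IrrFib H.hom := Groth.L02.SchDom.irrFib_of_group H fun s =>
    Groth.L02.SchDom.connectedSpace_fiber_of_isConnected H.hom s (hconn s)
  let σ : Spec (CommRingCat.of R) ⟶ Spec (CommRingCat.of A) := Spec.map (CommRingCat.ofHom (originPt D R).toRingHom)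
  let e : Spec (CommRingCat.of R) ⟶ X := pullback.lift (1 : Sp j R ⟶ H).left σ (by
    show ((1 : Sp j R ⟶ H) ≫ h).left = (mor j (originPt D R) ≫ uA).left
    rw [mor_chart, show (univCoord D R).map (originPt D R).toRingHom = Coord.zero D R from map_evalCoord _,
      chart_zero, MonObj.one_comp])
  have hef : e ≫ f = 𝟙 _ := by
    rw [pullback.lift_snd_assoc, ← Spec.map_comp, ← CommRingCat.ofHom_comp, ← Spec.map_id]
    congr 2
    exact (originPt D R).comp_algebraMap
  have hX : Groth.L02.SchDom.IrrFib f := fun K _ _ q => by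
    haveI := hHfib K (q ≫ j)
    let ω : pullback f q ⟶ pullback H.hom (q ≫ j) := pullback.map f q H.hom (q ≫ j) (pullback.fst h.left uA.left)
      (𝟙 _) j hfj (Category.id_comp _).symm
    haveI : IsOpenImmersion ω := inferInstance
    haveI : Nonempty ↥(pullback f q) := ⟨pullback.lift (q ≫ e) (𝟙 _) (by
      rw [Category.assoc, hef, Category.comp_id, Category.id_comp]) (IsLocalRing.closedPoint K)⟩
    haveI : PreirreducibleSpace ↥(pullback f q) := ⟨by
      rw [← Set.preimage_image_eq Set.univ ω.isOpenEmbedding.injective, Set.image_univ]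
      exact (PreirreducibleSpace.isPreirreducible_univ.open_subset ω.isOpenEmbedding.isOpen_range
        (Set.subset_univ _)).preimage ω.isOpenEmbedding⟩
    exact ⟨inferInstance⟩
  let U : X.Opens := a ⁻¹ᵁ (PrimeSpectrum.basicOpen g : (Spec (CommRingCat.of A)).Opens)
  let J : Ideal A := Ideal.span ((fun c => (MvPolynomial.X c : A)) '' {c | c ∉ tanRoots D h})
  let y : Spec (CommRingCat.of (A ⧸ J)) ⟶ Spec (CommRingCat.of A) := Spec.map (CommRingCat.ofHom (Ideal.Quotient.mk J))
  haveI : IsClosedImmersion y := IsClosedImmersion.spec_of_surjective _ Ideal.Quotient.mk_surjective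
  have key : ∃ l, l ≫ y = pullback.fst f (Spec.map (CommRingCat.ofHom (algebraMap R R))) ≫ a := by
    refine Groth.L02.SchDom.factors_of_open f y a hX (U := U) (fun p => ⟨e p, ?_, ?_⟩) R ?_
    · show a (e p) ∈ (PrimeSpectrum.basicOpen g : (Spec (CommRingCat.of A)).Opens)
      rw [← Scheme.Hom.comp_apply, show e ≫ a = σ from pullback.lift_snd _ _ _]
      show originPt D R g ∉ p.asIdeal
      rw [hg1]
      exact fun h1 => p.isPrime.ne_top ((Ideal.eq_top_iff_one _).2 h1)
    · rw [← Scheme.Hom.comp_apply, hef]; rfl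
    · intro C' _ _ c hc hcU
      let φ : A →+* C' := (Spec.preimage (c ≫ a)).hom
      have hφc : Spec.map (CommRingCat.ofHom φ) = c ≫ a := Spec.map_preimage _
      have hφR : φ.comp (algebraMap R A) = algebraMap R C' := by
        have h1 : c ≫ f = Spec.map (CommRingCat.ofHom (φ.comp (algebraMap R A))) := by
          rw [CommRingCat.ofHom_comp, Spec.map_comp, hφc]; exact (Category.assoc _ _ _).symm
        exact congrArg CommRingCat.Hom.hom (Spec.map_injective (h1.symm.trans hc))
      let φA : A →ₐ[R] C' := { φ with commutes' := fun r => DFunLike.congr_fun hφR r }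
      have hu : IsUnit (φ g) := by
        by_contra hnu
        obtain ⟨M, hM, hgM⟩ := Ideal.exists_le_maximal (Ideal.span {φ g}) fun ht => hnu (Ideal.span_singleton_eq_top.1 ht)
        have := hcU ⟨⟨M, hM.isPrime⟩, rfl⟩
        change a (c _) ∈ (PrimeSpectrum.basicOpen g : (Spec (CommRingCat.of A)).Opens) at this
        rw [← Scheme.Hom.comp_apply, ← hφc] at this
        exact this (hgM (Ideal.mem_span_singleton_self _))
      have hmem : chart j D.u (cellList eneg epos) ((univCoord D R).map φA.toRingHom) ∈ HP j C' h := by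
        rw [← mor_chart]
        refine mem_HP.2 ⟨Over.homMk (c ≫ pullback.fst h.left uA.left) ?_, Over.OverMorphism.ext ?_⟩
        · show (c ≫ _) ≫ H.hom = Spec.map (CommRingCat.ofHom (algebraMap R C')) ≫ j
          rw [Category.assoc, ← hfj, reassoc_of% hc]
        · show (c ≫ pullback.fst h.left uA.left) ≫ h.left = Spec.map (CommRingCat.ofHom φA.toRingHom) ≫ uA.left
          rw [Category.assoc, pullback.condition, show Spec.map (CommRingCat.ofHom φA.toRingHom) = c ≫ a from hφc,
            Category.assoc]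
      have hco := hg C' ((univCoord D R).map φA.toRingHom) hmem (by
        rwa [show evalCoord (R := R) ((univCoord D R).map φA.toRingHom) = φA from coordHom_ext (map_evalCoord _)])
      let i : C' →+* TensorProduct R R C' :=
        (Algebra.TensorProduct.includeRight : C' →ₐ[R] TensorProduct R R C').toRingHom
      have hker : ∀ z ∈ J, (i.comp φ) z = 0 := by
        intro z hz
        refine (show J ≤ RingHom.ker (i.comp φ) from Ideal.span_le.2 ?_) hz
        rintro _ ⟨c', hc', rfl⟩
        show i (φ (MvPolynomial.X c')) = 0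
        rw [show φ (MvPolynomial.X c') = 0 from hco c' hc', map_zero]
      refine ⟨Spec.map (CommRingCat.ofHom (Ideal.Quotient.lift J (i.comp φ) hker)), ?_⟩
      rw [← hφc, ← Spec.map_comp, ← Spec.map_comp, ← CommRingCat.ofHom_comp, ← CommRingCat.ofHom_comp]
      congr 2
  obtain ⟨l, hl⟩ := key
  obtain ⟨yH, hyH⟩ := mem_HP.1 hd
  let φ := evalCoord (R := R) d
  let w : Spec (CommRingCat.of C) ⟶ X := pullback.lift yH.left (Spec.map (CommRingCat.ofHom φ.toRingHom)) (by
    rw [← Over.comp_left, hyH]
    show _ = (mor j φ ≫ uA).left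
    rw [mor_chart, map_evalCoord])
  have hwf : w ≫ f = Spec.map (CommRingCat.ofHom (algebraMap R C)) := by
    rw [pullback.lift_snd_assoc, ← Spec.map_comp, ← CommRingCat.ofHom_comp]
    exact congrArg (fun g => Spec.map (CommRingCat.ofHom g)) φ.comp_algebraMap
  let w' : Spec (CommRingCat.of C) ⟶ pullback f (Spec.map (CommRingCat.ofHom (algebraMap R R))) :=
    pullback.lift w (Spec.map (CommRingCat.ofHom (algebraMap R C))) (by
      rw [hwf, ← Spec.map_comp, ← CommRingCat.ofHom_comp])
  intro c hc
  have h1 : (w' ≫ l) ≫ y = Spec.map (CommRingCat.ofHom φ.toRingHom) := by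
    rw [Category.assoc, hl, pullback.lift_fst_assoc]
    exact pullback.lift_snd _ _ _
  have h2 : CommRingCat.ofHom φ.toRingHom = CommRingCat.ofHom (Ideal.Quotient.mk J) ≫ Spec.preimage (w' ≫ l) :=
    Spec.map_injective (by rw [Spec.map_comp, Spec.map_preimage]; exact h1.symm)
  have h3 := congrArg (fun q => q.hom (MvPolynomial.X c : A)) h2
  simp only [CommRingCat.hom_comp, CommRingCat.hom_ofHom, RingHom.comp_apply] at h3
  rw [show Ideal.Quotient.mk J (MvPolynomial.X c) = 0 from
    Ideal.Quotient.eq_zero_iff_mem.2 (Ideal.subset_span ⟨c, hc, rfl⟩), map_zero] at h3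
  exact (evalCoord_X d c).symm.trans h3

end Groth.L14.TypeR
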