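import Groth.Agent.L14.TypeR.ChartOpen
import Mathlib.AlgebraicGeometry.Morphisms.Immersion

/-!
Equations of a smooth subgroup near the unit section in chart coordinates.
-/

set_option autoImplicit false
universe u

open CategoryTheory CategoryTheory.Limits AlgebraicGeometry MonoidalCategory CartesianMonoidalCategory MonObj
open Groth.L14.RankOne Groth.L25 Groth.L14.Chart Groth.L14.Chev.Cell

set_option backward.isDefEq.respectTransparency.types false
set_option linter.style.haveILetI false
set_option linter.unusedSectionVars false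
set_option maxHeartbeats 1000000

noncomputable section

namespace Groth.L14.TypeR

variable {S : Scheme.{u}} {G H : Over S} [GrpObj G] [GrpObj H] {R : Type u} [CommRing R]
  (j : Spec (CommRingCat.of R) ⟶ S) (C : Type u) [CommRing C] [Algebra R C]

/-- The points of the ambient group coming from the subgroup. -/
def HP (h : H ⟶ G) [IsMonHom h] : Subgroup (Sp j C ⟶ G) :=
  (MonoidHom.mk' (· ≫ h) fun a c => MonObj.mul_comp a c h : (Sp j C ⟶ H) →* (Sp j C ⟶ G)).range

variable {j C} {h : H ⟶ G} [IsMonHom h]

theorem mem_HP {g : Sp j C ⟶ G} : g ∈ HP j C h ↔ ∃ y : Sp j C ⟶ H, y ≫ h = g := Iff.rfl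

theorem mor_mem_HP {C' : Type u} [CommRing C'] [Algebra R C'] (φ : C →ₐ[R] C') {g : Sp j C ⟶ G}
    (hg : g ∈ HP j C h) : mor j φ ≫ g ∈ HP j C' h := by
  obtain ⟨y, rfl⟩ := hg
  exact mem_HP.2 ⟨mor j φ ≫ y, Category.assoc _ _ _⟩

variable (D : Red.SplitRed G) (j) (h) (l : List D.idx)

/-- Equations of the subgroup on a neighbourhood of the unit section in the chart. -/
structure Eqns where
  /-- the function cutting out the neighbourhood -/
  f : CoordRing D R
  one_f : originPt D R f = 1
  /-- the coordinate ring of the subgroup on the neighbourhood -/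
  B : Type u
  [ringB : CommRing B]
  [algB : Algebra R B]
  [smoothB : Algebra.Smooth R B]
  /-- restriction of functions -/
  π : CoordRing D R →ₐ[R] B
  unit_f : IsUnit (π f)
  surj : ∀ x : B, ∃ (N : ℕ) (a : CoordRing D R), x * π f ^ N = π a
  ext : ∀ (C : Type u) [CommRing C] [Algebra R C] (ψ ψ' : B →ₐ[R] C), ψ.comp π = ψ'.comp π → ψ = ψ'
  fac : ∀ (C : Type u) [CommRing C] [Algebra R C] (φ : CoordRing D R →ₐ[R] C), IsUnit (φ f) →
    (∀ a, π a = 0 → φ a = 0) → ∃ ψ : B →ₐ[R] C, ψ.comp π = φ
  mem : ∀ (C : Type u) [CommRing C] [Algebra R C] (d : Coord D C), IsUnit (evalCoord (R := R) d f) →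
    (chart j D.u l d ∈ HP j C h ↔ ∀ a, π a = 0 → evalCoord (R := R) d a = 0)

variable {D}

attribute [instance] Eqns.ringB Eqns.algB Eqns.smoothB

theorem exists_eqns [IsOpenImmersion j] (hh : IsImmersion h.left) [Smooth H.hom]
    (hopen : IsOpenImmersion (chart j D.u l (univCoord D R)).left) : Nonempty (Eqns j h D l) := by
  haveI := hh
  haveI := hopen
  haveI : ∀ c, IsMonHom (D.u c) := fun c => (D.rootHom c).1
  let A := CoordRing D R
  let uA : Sp j A ⟶ G := chart j D.u l (univCoord D R)
  let im : pullback h.left uA.left ⟶ Spec (CommRingCat.of A) := pullback.snd h.left uA.left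
  haveI : IsImmersion im := MorphismProperty.pullback_snd _ _ hh
  let σ : Spec (CommRingCat.of R) ⟶ Spec (CommRingCat.of A) := Spec.map (CommRingCat.ofHom (originPt D R).toRingHom)
  have hσ : mor j (originPt D R) ≫ uA = 1 := by
    rw [mor_chart, show (univCoord D R).map (originPt D R).toRingHom = Coord.zero D R from map_evalCoord _, chart_zero]
  let e : Spec (CommRingCat.of R) ⟶ pullback h.left uA.left :=
    pullback.lift (1 : Sp j R ⟶ H).left σ (by
      show ((1 : Sp j R ⟶ H) ≫ h).left = (mor j (originPt D R) ≫ uA).left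
      rw [hσ, MonObj.one_comp])
  have he : e ≫ im = σ := pullback.lift_snd _ _ _
  -- a function on the chart invertible on the section, vanishing outside the closedness locus
  obtain ⟨I, hI⟩ := (PrimeSpectrum.isClosed_iff_zeroLocus_ideal _).1 im.coborderRange.isOpen.isClosed_compl
  obtain ⟨f, hfI, hf⟩ : ∃ f ∈ I, originPt D R f = 1 := by
    have hsur : Function.Surjective (originPt D R).toRingHom := fun r => ⟨algebraMap R A r, (originPt D R).commutes r⟩
    have htop : I.map (originPt D R).toRingHom = ⊤ := by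
      rw [← PrimeSpectrum.zeroLocus_empty_iff_eq_top]
      refine Set.eq_empty_of_forall_notMem fun p hp => ?_
      have h1 : σ p ∈ (im.coborderRange : Set (Spec (CommRingCat.of A)))ᶜ := by
        rw [hI]
        exact (PrimeSpectrum.mem_zeroLocus _ _).2 fun a ha =>
          (PrimeSpectrum.mem_zeroLocus _ _).1 hp (Ideal.mem_map_of_mem _ ha)
      refine h1 ?_
      rw [← he]
      show im (e p) ∈ im.coborderRange
      have h2 := im.liftCoborder_ι
      have h3 : im.coborderRange.ι (im.liftCoborder (e p)) = im (e p) :=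
        (Scheme.Hom.comp_apply _ _ _).symm.trans (congrArg (fun g : pullback h.left uA.left ⟶ Spec (CommRingCat.of A) => g (e p)) h2)
      rw [← h3]
      exact (im.liftCoborder (e p)).2
    obtain ⟨f, hf, hf1⟩ := (Ideal.mem_map_iff_of_surjective _ hsur).1 (htop ▸ Submodule.mem_top : (1 : R) ∈ _)
    exact ⟨f, hf, hf1⟩
  let Af := Localization.Away f
  let jf : Spec (CommRingCat.of Af) ⟶ Spec (CommRingCat.of A) := Spec.map (CommRingCat.ofHom (algebraMap A Af))
  haveI : IsOpenImmersion jf := IsOpenImmersion.of_isLocalization f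
  have hjf : Set.range jf ⊆ Set.range im.coborderRange.ι := by
    rw [Scheme.Opens.range_ι]
    rintro _ ⟨p, rfl⟩
    by_contra hp
    have h1 : jf p ∈ (PrimeSpectrum.zeroLocus (I : Set A)) := hI ▸ hp
    exact p.isPrime.ne_top (Ideal.eq_top_of_isUnit_mem _
      ((PrimeSpectrum.mem_zeroLocus _ _).1 h1 hfI : algebraMap A Af f ∈ p.asIdeal)
      (IsLocalization.Away.algebraMap_isUnit f))
  let jf' := IsOpenImmersion.lift im.coborderRange.ι jf hjf
  haveI : IsOpenImmersion jf' := by
    haveI : IsOpenImmersion (jf' ≫ im.coborderRange.ι) := by rw [IsOpenImmersion.lift_fac]; infer_instance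
    exact IsOpenImmersion.of_comp jf' im.coborderRange.ι
  let Y := pullback im.liftCoborder jf'
  let cl : Y ⟶ Spec (CommRingCat.of Af) := pullback.snd im.liftCoborder jf'
  haveI : IsClosedImmersion cl := MorphismProperty.pullback_snd _ _ inferInstance
  haveI : IsAffine Y := isAffine_of_isAffineHom cl
  let B := Γ(Y, ⊤)
  let π' : Af →+* B := (Scheme.ΓSpecIso (CommRingCat.of Af)).inv.hom |> cl.appTop.hom.comp
  have hπ' : Function.Surjective π' :=
    ((IsClosedImmersion.isAffine_surjective_of_isAffine (f := cl)).2).comp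
      (ConcreteCategory.bijective_of_isIso (Scheme.ΓSpecIso (CommRingCat.of Af)).inv).2
  have hY : Y.isoSpec.inv ≫ cl = Spec.map (CommRingCat.ofHom π') := by
    rw [show CommRingCat.ofHom π' = (Scheme.ΓSpecIso (CommRingCat.of Af)).inv ≫ cl.appTop from rfl, Spec.map_comp,
      Iso.inv_comp_eq, Scheme.isoSpec_hom, ← Category.assoc, ← Scheme.toSpecΓ_naturality, Category.assoc,
      toSpecΓ_SpecMap_ΓSpecIso_inv, Category.comp_id]
  letI : Algebra R B := (π'.comp ((algebraMap A Af).comp (algebraMap R A))).toAlgebra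
  let π : A →ₐ[R] B := { π'.comp (algebraMap A Af) with commutes' := fun r => rfl }
  let q : Spec (CommRingCat.of B) ⟶ H.left :=
    Y.isoSpec.inv ≫ pullback.fst im.liftCoborder jf' ≫ pullback.fst h.left uA.left
  haveI : IsOpenImmersion q := inferInstance
  have hq : q ≫ h.left = Spec.map (CommRingCat.ofHom π.toRingHom) ≫ uA.left := by
    have h1 : pullback.fst im.liftCoborder jf' ≫ im = cl ≫ jf := by
      conv_lhs => arg 2; rw [show im = im.liftCoborder ≫ im.coborderRange.ι from im.liftCoborder_ι.symm]
      rw [← Category.assoc, pullback.condition, Category.assoc, IsOpenImmersion.lift_fac]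
    simp only [q, Category.assoc, pullback.condition]
    rw [reassoc_of% h1, reassoc_of% hY, ← Category.assoc]
    congr 1
    rw [← Spec.map_comp]
    rfl
  have hπsmooth : Algebra.Smooth R B := by
    have h1 : q ≫ H.hom = Spec.map (CommRingCat.ofHom (algebraMap R B)) ≫ j := by
      rw [← Over.w h, ← Category.assoc, hq, Category.assoc, Over.w uA]
      show Spec.map _ ≫ Spec.map _ ≫ j = _
      rw [← Spec.map_comp_assoc, ← CommRingCat.ofHom_comp]
    have h2 : Smooth (Spec.map (CommRingCat.ofHom (algebraMap R B))) := by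
      haveI : Smooth (Spec.map (CommRingCat.ofHom (algebraMap R B)) ≫ j) := by rw [← h1]; infer_instance
      exact MorphismProperty.of_isPullback (P := @Smooth)
        (IsPullback.of_horiz_isIso_mono (fst := 𝟙 _) (snd := Spec.map (CommRingCat.ofHom (algebraMap R B)))
          (f := Spec.map (CommRingCat.ofHom (algebraMap R B)) ≫ j) (g := j) ⟨by rw [Category.id_comp]⟩) ‹_›
    rw [HasRingHomProperty.Spec_iff (P := @Smooth)] at h2
    exact RingHom.smooth_algebraMap.1 h2
  have hfac : ∀ (C : Type u) [CommRing C] [Algebra R C] (φ : A →ₐ[R] C), IsUnit (φ f) →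
      (∀ a, π a = 0 → φ a = 0) → ∃ ψ : B →ₐ[R] C, ψ.comp π = φ := by
    intro C _ _ φ hu hk
    let φf : Af →+* C := IsLocalization.Away.lift f (g := φ.toRingHom) hu
    have hker : RingHom.ker π' ≤ RingHom.ker φf := by
      intro z hz
      obtain ⟨N, a, ha⟩ := IsLocalization.Away.surj f z
      have h1 : π a = 0 := by
        show π' (algebraMap A Af a) = 0
        rw [← ha, map_mul, RingHom.mem_ker.1 hz, zero_mul]
      have h2 : φf z * φ f ^ N = 0 := by
        rw [← hk a h1]
        have := congrArg φf ha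
        simpa [φf, IsLocalization.Away.lift_eq] using this
      exact RingHom.mem_ker.2 ((IsUnit.mul_left_eq_zero (hu.pow N)).1 h2)
    refine ⟨{ RingHom.liftOfSurjective π' hπ' ⟨φf, hker⟩ with commutes' := fun r => ?_ }, AlgHom.ext fun a => ?_⟩
    · show RingHom.liftOfSurjective π' hπ' ⟨φf, hker⟩ (π' (algebraMap A Af (algebraMap R A r))) = _
      rw [RingHom.liftOfRightInverse_comp_apply]
      exact (IsLocalization.Away.lift_eq f hu _).trans (φ.commutes r)
    · show RingHom.liftOfSurjective π' hπ' ⟨φf, hker⟩ (π' (algebraMap A Af a)) = _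
      rw [RingHom.liftOfRightInverse_comp_apply]
      exact IsLocalization.Away.lift_eq f hu _
  refine ⟨⟨f, hf, B, π, (IsLocalization.Away.algebraMap_isUnit f).map π', fun x => ?_, fun C _ _ ψ ψ' hψ => ?_,
    hfac, fun C _ _ d hu => ⟨?_, fun hk => ?_⟩⟩⟩
  · obtain ⟨z, rfl⟩ := hπ' x
    obtain ⟨N, a, ha⟩ := IsLocalization.Away.surj f z
    refine ⟨N, a, ?_⟩
    show π' z * π' (algebraMap A Af f) ^ N = π' (algebraMap A Af a)
    rw [← map_pow, ← map_mul, ha]
  · refine AlgHom.coe_ringHom_injective ((RingHom.cancel_right hπ').1 ?_)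
    exact IsLocalization.ringHom_ext (Submonoid.powers f) (RingHom.ext fun a => DFunLike.congr_fun hψ a)
  · rintro ⟨y, hy⟩
    let φ := evalCoord (R := R) d
    have hd : mor j φ ≫ uA = chart j D.u l d := by rw [mor_chart, map_evalCoord]
    let φf : Af →+* C := IsLocalization.Away.lift f (g := φ.toRingHom) hu
    have h0 : Spec.map (CommRingCat.ofHom φf) ≫ jf = Spec.map (CommRingCat.ofHom φ.toRingHom) := by
      rw [← Spec.map_comp, ← CommRingCat.ofHom_comp]
      exact congrArg (fun g => Spec.map (CommRingCat.ofHom g)) (IsLocalization.Away.lift_comp f hu)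
    let w : Spec (CommRingCat.of C) ⟶ pullback h.left uA.left :=
      pullback.lift y.left (Spec.map (CommRingCat.ofHom φ.toRingHom))
        (congrArg CommaMorphism.left (hy.trans hd.symm))
    let w' : Spec (CommRingCat.of C) ⟶ Y := pullback.lift w (Spec.map (CommRingCat.ofHom φf)) (by
      rw [← cancel_mono im.coborderRange.ι, Category.assoc, Category.assoc, im.liftCoborder_ι,
        IsOpenImmersion.lift_fac, h0]
      exact pullback.lift_snd _ _ _)
    have hg : CommRingCat.ofHom φf = CommRingCat.ofHom π' ≫ Spec.preimage (w' ≫ Y.isoSpec.hom) := by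
      refine Spec.map_injective ?_
      rw [Spec.map_comp, Spec.map_preimage, ← hY, Category.assoc, Iso.hom_inv_id_assoc]
      exact (pullback.lift_snd _ _ _).symm
    intro a ha
    have h3 := congrArg (fun g => g.hom (algebraMap A Af a)) hg
    simp only [CommRingCat.hom_comp, CommRingCat.hom_ofHom, RingHom.comp_apply] at h3
    rw [show π' (algebraMap A Af a) = 0 from ha, map_zero] at h3
    exact (IsLocalization.Away.lift_eq f hu a).symm.trans h3
  · let φ := evalCoord (R := R) d
    have hd : mor j φ ≫ uA = chart j D.u l d := by rw [mor_chart, map_evalCoord]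
    obtain ⟨ψ, hψ⟩ := hfac C φ hu hk
    have h1 : (Spec.map (CommRingCat.ofHom ψ.toRingHom) ≫ q) ≫ h.left = (chart j D.u l d).left := by
      rw [Category.assoc, hq, ← Category.assoc, ← Spec.map_comp, ← CommRingCat.ofHom_comp, ← hd, ← hψ]
      rfl
    exact ⟨Over.homMk (Spec.map (CommRingCat.ofHom ψ.toRingHom) ≫ q) (by rw [← Over.w h, ← Category.assoc, h1]; exact Over.w _),
      Over.OverMorphism.ext h1⟩

end Groth.L14.TypeR
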