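import Mathlib.RingTheory.FiniteType
import Mathlib.RingTheory.LocalRing.Module
import Mathlib.LinearAlgebra.Basis.VectorSpace

/-!
An algebra of finite type with a retraction onto the base is the base as soon as all its fibres are.
-/

set_option autoImplicit false
universe u

open TensorProduct

set_option backward.isDefEq.respectTransparency.types false
set_option linter.style.haveILetI false

namespace Groth.L14.TypeR

theorem augmentation_fg {R A : Type u} [CommRing R] [CommRing A] [Algebra R A] [Algebra.FiniteType R A]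
    (ε : A →ₐ[R] R) : (RingHom.ker ε).FG := by
  classical
  obtain ⟨n, f, hf⟩ := Algebra.FiniteType.iff_quotient_mvPolynomial''.1 (inferInstance : Algebra.FiniteType R A)
  let g : Fin n → A := fun i => f (MvPolynomial.X i) - algebraMap R A (ε (f (MvPolynomial.X i)))
  refine ⟨Finset.univ.image g, le_antisymm (Ideal.span_le.2 ?_) fun a ha => ?_⟩
  · intro x hx
    obtain ⟨i, -, rfl⟩ := Finset.mem_image.1 hx
    show ε (g i) = 0
    simp only [g, map_sub, AlgHom.commutes, Algebra.algebraMap_self, RingHom.id_apply, sub_self]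
  · obtain ⟨p, rfl⟩ := hf a
    have key : (Ideal.Quotient.mkₐ R (Ideal.span ↑(Finset.univ.image g))).comp f =
        ((Algebra.ofId R _).comp ε).comp f := by
      refine MvPolynomial.algHom_ext fun i => ?_
      rw [AlgHom.comp_apply, AlgHom.comp_apply, AlgHom.comp_apply, Algebra.ofId_apply]
      exact Ideal.Quotient.eq.2 (Ideal.subset_span (Finset.mem_image.2 ⟨i, Finset.mem_univ _, rfl⟩))
    have h := DFunLike.congr_fun key p
    rw [AlgHom.comp_apply, AlgHom.comp_apply, AlgHom.comp_apply, show ε (f p) = 0 from ha, map_zero] at h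
    exact Ideal.Quotient.eq_zero_iff_mem.1 h

theorem eq_zero_of_fibres {R A : Type u} [CommRing R] [CommRing A] [Algebra R A] [Algebra.FiniteType R A]
    (ε : A →ₐ[R] R) (h : ∀ p : PrimeSpectrum R, ∃ (K : Type u) (_ : Field K) (_ : Algebra R K),
      RingHom.ker (algebraMap R K) = p.asIdeal ∧ ∀ a, ε a = 0 → a ⊗ₜ[R] (1 : K) = 0) :
    ∀ a, ε a = 0 → a = 0 := by
  let J : Ideal A := RingHom.ker ε
  haveI : Module.Finite A J := Module.Finite.iff_fg.2 (augmentation_fg ε)
  suffices Subsingleton J from fun a ha => congrArg Subtype.val (Subsingleton.elim (⟨a, ha⟩ : J) 0)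
  rw [← Module.support_eq_empty_iff (R := A), Set.eq_empty_iff_forall_notMem]
  intro q hq
  rw [Module.mem_support_iff_nontrivial_residueField_tensorProduct] at hq
  let p : PrimeSpectrum R := ⟨q.asIdeal.comap (algebraMap R A), inferInstance⟩
  obtain ⟨K, _, _, hker, hz⟩ := h p
  let L := q.asIdeal.ResidueField
  let ι₁ : p.asIdeal.ResidueField →+* K := Ideal.ResidueField.lift _ (algebraMap R K) hker.ge fun r hr =>
    isUnit_iff_ne_zero.2 fun h0 => hr (hker.le h0)
  letI := ι₁.toAlgebra
  haveI : IsScalarTower R p.asIdeal.ResidueField K :=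
    IsScalarTower.of_algebraMap_eq fun r => (Ideal.ResidueField.lift_algebraMap _ _ _ _ r).symm
  obtain ⟨ρ, hρ⟩ := (Algebra.linearMap p.asIdeal.ResidueField K).exists_leftInverse_of_injective
    (LinearMap.ker_eq_bot.2 ι₁.injective)
  let m : p.asIdeal.ResidueField →ₐ[R] L :=
    Ideal.ResidueField.mapₐ p.asIdeal q.asIdeal (Algebra.ofId R A) rfl
  let g : K →ₗ[R] L := m.toLinearMap ∘ₗ ρ.restrictScalars R
  have hg : g 1 = 1 := by
    show m (ρ 1) = 1
    rw [show ρ 1 = 1 from (congrArg ρ (map_one (algebraMap p.asIdeal.ResidueField K)).symm).trans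
      (LinearMap.congr_fun hρ 1), map_one]
  let π : A →ₗ[R] J :=
    { toFun := fun a => ⟨a - algebraMap R A (ε a), by simp [J, RingHom.mem_ker]⟩
      map_add' := fun a b => Subtype.ext (by simp; abel)
      map_smul' := fun r a => Subtype.ext (by simp [Algebra.smul_def, mul_sub]) }
  let Φ : A ⊗[R] K →ₗ[R] (L ⊗[A] J) := TensorProduct.lift <| LinearMap.mk₂ R (fun a c => g c ⊗ₜ[A] π a)
    (fun a a' c => by rw [map_add, TensorProduct.tmul_add]) (fun r a c => by rw [map_smul, TensorProduct.tmul_smul])
    (fun a c c' => by rw [map_add, TensorProduct.add_tmul]) (fun r a c => by rw [map_smul, TensorProduct.smul_tmul'])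
  have key : ∀ a : J, (1 : L) ⊗ₜ[A] a = 0 := fun a => by
    have h1 := congrArg Φ (hz a.1 a.2)
    rw [map_zero] at h1
    change g 1 ⊗ₜ[A] π a.1 = 0 at h1
    have h2 : π a.1 = a := Subtype.ext (by
      show a.1 - algebraMap R A (ε a.1) = a.1
      rw [show ε a.1 = 0 from a.2, map_zero, sub_zero])
    rwa [hg, h2] at h1
  refine not_subsingleton (L ⊗[A] J) ⟨fun x y => ?_⟩
  have h0 : ∀ z : L ⊗[A] J, z = 0 := fun z => by
    induction z using TensorProduct.induction_on with
    | zero => rfl
    | tmul c a => rw [← mul_one c, ← smul_eq_mul, ← TensorProduct.smul_tmul', key, smul_zero]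
    | add z z' hz hz' => rw [hz, hz', add_zero]
  rw [h0 x, h0 y]

end Groth.L14.TypeR
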