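import Groth.Agent.L14.TypeR.Borel
import Groth.Agent.L14.Chev.Cell.BruhatDisj
import Groth.Agent.L25.Bridge.TorsionLift

/-!
The points of the unipotent part of a subgroup with positive roots.
-/

set_option autoImplicit false
universe u

open CategoryTheory CategoryTheory.Limits AlgebraicGeometry MonoidalCategory CartesianMonoidalCategory MonObj
open Groth.L14.RankOne Groth.L25 Groth.L14.Chart Groth.L14.Chev.Cell

set_option backward.isDefEq.respectTransparency.types false
set_option linter.style.haveILetI false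
set_option linter.unusedSectionVars false
set_option maxHeartbeats 1000000

noncomputable section

namespace Groth.L14.TypeR

variable {S : Scheme.{u}} {G H : Over S} [GrpObj G] [GrpObj H] {D : Red.SplitRed G} {h : H ⟶ G} [IsMonHom h]
  {b : D.P.Base} {R' : Set D.idx} {m : ℕ} {e : Fin m → D.idx} {lv : D.idx → ℕ}
  (hh : IsImmersion h.left) [Smooth H.hom] (hconn : RedSub.HasConnectedFibres H)
  (t : D.T ⟶ H) (ht : t ≫ h = D.i) (hR' : ∀ a : D.idx, (∃ v : Red.Ga S ⟶ H, v ≫ h = D.u a) ↔ a ∈ R')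
  (hsub : R' ⊆ RedSub.posRoots D.P b) (he : RedSub.Enumerates R' e) (hF : Filt D (RedSub.posRoots D.P b) lv)
  {R : Type u} [CommRing R] {j : Spec (CommRingCat.of R) ⟶ S} [IsOpenImmersion j] {C : Type u} [CommRing C]
  [Algebra R C]

include hsub he in
theorem rootProd_mem_gen_pos (z : D.idx → C) :
    rootProd j D.u (List.ofFn e) z ∈ gen j C D.u (RedSub.posRoots D.P b) lv 0 :=
  rootProd_mem_gen D.rootHom fun _ hc _ => ⟨hsub ((mem_list_iff he _).1 hc), Nat.zero_le _⟩

include hF in
/-- A torus point lying in the positive unipotent group is trivial. -/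
theorem tor_eq_one_of_mem_gen {χ : Multiplicative D.M →* C}
    (hg : tpt D j χ ≫ D.i ∈ gen j C D.u (RedSub.posRoots D.P b) lv 0) : χ = 1 := by
  classical
  haveI : ∀ c, IsMonHom (D.u c) := fun c => (D.rootHom c).1
  haveI := isMonHom_i (D := D)
  obtain ⟨M, E, hE⟩ := exists_enum (D := D) (RedSub.posRoots D.P b)
  obtain ⟨z, hz⟩ := (mem_gen_iff D.rootHom hF (nodup_list hE) (mem_list_iff hE)).1 hg
  have h1 : lift (tpt D j χ) (tup M fun k => gp j ((0 : D.idx → C) (E k))) =
      lift (tpt D j (1 : Multiplicative D.M →* C)) (tup M fun k => gp j (z (E k))) := by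
    refine borelMap_injective hE ?_
    rw [lift_borelMap, lift_borelMap, tpt_one, MonObj.one_comp, _root_.one_mul, hz,
      rootProd_eq_one j (x := (0 : D.idx → C)) fun _ _ => rfl, _root_.mul_one]
  refine Chart.tpt_injective j ?_
  have h2 := congrArg (fun w => w ≫ fst _ _) h1
  simpa only [lift_fst] using h2

include hh hconn ht hR' hsub he hF in
/-- Points of the root groups are the points of the subgroup in the positive unipotent group. -/
theorem mem_span_iff [PreconnectedSpace S] [Nonempty S] {g : Sp j C ⟶ G} :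
    (g ∈ HP j C h ∧ g ∈ gen j C D.u (RedSub.posRoots D.P b) lv 0) ↔
      ∃ t' : Sp j C ⟶ RedSub.pow (Red.Ga S) m, t' ≫ spanMap D e = g := by
  classical
  haveI : ∀ c, IsMonHom (D.u c) := fun c => (D.rootHom c).1
  haveI := isMonHom_i (D := D)
  constructor
  · rintro ⟨hg, hgen⟩
    obtain ⟨l, ep', hep'⟩ := exists_enum (D := D) (RedSub.posRoots D.P b \ R')
    have hE : RedSub.Enumerates (RedSub.posRoots D.P b) (Fin.append e ep') :=
      enum_append he hep' (fun a ha hb => hb.2 ha) (Set.union_sdiff_cancel hsub)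
    obtain ⟨z, rfl⟩ := (mem_gen_iff D.rootHom hF (nodup_list hE) (mem_list_iff hE)).1 hgen
    have h0 := coords_zero (j := j) hh hconn t ht hR' hsub he hE (1 : Multiplicative D.M →* C) z (by
      rw [tpt_one, MonObj.one_comp, _root_.one_mul]; exact hg)
    refine ⟨tup m fun k => gp j (z (e k)), ?_⟩
    rw [comp_prodMap, rootProd_ofFn, ofFn_prod_append]
    simp only [tup_proj, Fin.append_left, Fin.append_right]
    rw [show (List.ofFn fun i => gp j (z (ep' i)) ≫ D.u (ep' i)).prod = 1 from List.prod_eq_one fun x hx => by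
      obtain ⟨i, rfl⟩ := List.mem_ofFn.1 hx
      have hi : ep' i ∈ RedSub.posRoots D.P b \ R' := hep'.2 ▸ Set.mem_range_self i
      rw [h0 _ hi.1 hi.2, gp_zero, MonObj.one_comp], _root_.mul_one]
  · rintro ⟨t', rfl⟩
    rw [comp_prodMap, ofFn_prod_eq_rootProd j he.1]
    refine ⟨Subgroup.list_prod_mem _ fun g hg => ?_, rootProd_mem_gen_pos hsub he _⟩
    obtain ⟨c, hc, rfl⟩ := List.mem_map.1 hg
    obtain ⟨v, hv⟩ := (hR' c).2 ((mem_list_iff he c).1 hc)
    exact mem_HP.2 ⟨gp j _ ≫ v, by rw [Category.assoc, hv]⟩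

variable (φ : D.T ⊗ RedSub.pow (Red.Ga S) m ≅ H) (hφ : φ.hom ≫ h = RedSub.borelMap D e)

/-- The projection of the subgroup onto the torus. -/
def torProj : H ⟶ D.T := φ.inv ≫ fst _ _

include hsub he hφ in
theorem exists_H_coords (y : Sp j C ⟶ H) : ∃ (χ : Multiplicative D.M →* C) (z : D.idx → C),
    y ≫ h = (tpt D j χ ≫ D.i) * rootProd j D.u (List.ofFn e) z ∧ y ≫ torProj φ = tpt D j χ := by
  obtain ⟨χ, z, h1, h2⟩ := exists_borel_coords (y ≫ φ.inv) he.1
  refine ⟨χ, z, by rw [← h1, ← hφ, Category.assoc, Iso.inv_hom_id_assoc], ?_⟩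
  rw [torProj, ← Category.assoc, h2, lift_fst]

include hsub he hφ hF in
theorem torProj_eq {y : Sp j C ⟶ H} {χ : Multiplicative D.M →* C} {g : Sp j C ⟶ G}
    (hg : g ∈ gen j C D.u (RedSub.posRoots D.P b) lv 0) (hy : y ≫ h = (tpt D j χ ≫ D.i) * g) :
    y ≫ torProj φ = tpt D j χ := by
  haveI := isMonHom_i (D := D)
  obtain ⟨χ', z, h1, h2⟩ := exists_H_coords hsub he φ hφ y
  rw [h2]
  have h3 : ((tpt D j χ ≫ D.i)⁻¹ * (tpt D j χ' ≫ D.i)) = g * (rootProd j D.u (List.ofFn e) z)⁻¹ := by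
    rw [eq_mul_inv_iff_mul_eq, _root_.mul_assoc, ← h1, hy, inv_mul_cancel_left]
  let χi : Multiplicative D.M →* C := χ.comp invMonoidHom
  have hi : tpt D j χi ≫ D.i = (tpt D j χ ≫ D.i)⁻¹ := by
    rw [eq_inv_iff_mul_eq_one, ← MonObj.mul_comp, ← tpt_mul, show χi * χ = 1 from MonoidHom.ext fun k => by
      show χ k⁻¹ * χ k = 1
      rw [← map_mul, inv_mul_cancel, map_one], tpt_one, MonObj.one_comp]
  have h4 : χi * χ' = 1 := by
    refine tor_eq_one_of_mem_gen (j := j) hF ?_
    rw [tpt_mul, MonObj.mul_comp, hi, h3]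
    exact mul_mem hg (inv_mem (rootProd_mem_gen_pos hsub he z))
  congr 1
  refine MonoidHom.ext fun k => ?_
  have h5 := congrArg (χ k * ·) (DFunLike.congr_fun h4 k)
  simp only [MonoidHom.mul_apply, MonoidHom.one_apply, _root_.mul_one] at h5
  rw [show χi k = χ k⁻¹ from rfl, ← _root_.mul_assoc, ← map_mul, mul_inv_cancel, map_one, _root_.one_mul] at h5
  exact h5

include hsub he hφ hF in
theorem torProj_mul (y y' : Sp j C ⟶ H) : (y * y') ≫ torProj φ = (y ≫ torProj φ) * (y' ≫ torProj φ) := by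
  haveI := isMonHom_i (D := D)
  obtain ⟨χ, z, h1, h2⟩ := exists_H_coords hsub he φ hφ y
  obtain ⟨χ', z', h1', h2'⟩ := exists_H_coords hsub he φ hφ y'
  let χi : Multiplicative D.M →* C := χ'.comp invMonoidHom
  have hi : tpt D j χi ≫ D.i = (tpt D j χ' ≫ D.i)⁻¹ := by
    rw [eq_inv_iff_mul_eq_one, ← MonObj.mul_comp, ← tpt_mul, show χi * χ' = 1 from MonoidHom.ext fun k => by
      show χ' k⁻¹ * χ' k = 1
      rw [← map_mul, inv_mul_cancel, map_one], tpt_one, MonObj.one_comp]
  have hc := conjT_mem_gen χi (rootProd_mem_gen_pos (lv := lv) hsub he (j := j) z)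
  rw [conjT, hi, inv_inv] at hc
  rw [h2, h2', ← tpt_mul]
  refine torProj_eq hsub he hF φ hφ (mul_mem hc (rootProd_mem_gen_pos hsub he z')) ?_
  rw [MonObj.mul_comp, h1, h1', tpt_mul, MonObj.mul_comp]
  group

omit [IsOpenImmersion j] in
include hsub he hφ hF in
theorem isMonHom_torProj : IsMonHom (torProj φ) :=
  Groth.L25.Bridge.isMonHom_of_mul _ fun T a a' => hom_ext_open fun R _ j _ C _ _ τ => by
    rw [MonObj.comp_mul, ← Category.assoc, MonObj.comp_mul, ← Category.assoc, ← Category.assoc]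
    exact torProj_mul hsub he hF φ hφ _ _

end Groth.L14.TypeR
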