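import Groth.Agent.L14.TypeR.LeviRoots
import Groth.Agent.L14.TypeR.Borel
import Groth.Agent.L14.TypeR.UnipPts

/-!
The intersection of a subgroup containing the torus with a standard Borel subgroup.
-/

set_option autoImplicit false
universe u

open CategoryTheory CategoryTheory.Limits AlgebraicGeometry MonoidalCategory CartesianMonoidalCategory MonObj
open Groth.L14.RankOne Groth.L25 Groth.L14.Chart Groth.L14.Chev.Cell

set_option backward.isDefEq.respectTransparency.types false
set_option linter.style.haveILetI false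
set_option linter.unusedSectionVars false
set_option maxHeartbeats 1000000

noncomputable section

namespace Groth.L14.TypeR

variable {S : Scheme.{u}} [PreconnectedSpace S] [Nonempty S] {G H' : Over S} [GrpObj G] [GrpObj H']
  {D : Red.SplitRed G} {h' : H' ⟶ G} [IsMonHom h'] {b : D.P.Base} {R' : Set D.idx} {m : ℕ} {e : Fin m → D.idx}
  (hh' : IsImmersion h'.left) [Smooth H'.hom] (hconn' : RedSub.HasConnectedFibres H')
  (t' : D.T ⟶ H') (ht' : t' ≫ h' = D.i)
  (hR' : ∀ a : D.idx, (∃ v : Red.Ga S ⟶ H', v ≫ h' = D.u a) ↔ a ∈ R')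
  (he : RedSub.Enumerates (R' ∩ RedSub.posRoots D.P b) e)

include ht' hR' he in
/-- The parametrised intersection lands in the subgroup. -/
theorem exists_borelInter : ∃ p : D.T ⊗ RedSub.pow (Red.Ga S) m ⟶ H', p ≫ h' = RedSub.borelMap D e := by
  choose v hv using fun i => (hR' (e i)).2 (he.2 ▸ Set.mem_range_self i : e i ∈ R' ∩ RedSub.posRoots D.P b).1
  refine ⟨(fst _ _ ≫ t') * (snd _ _ ≫ RedSub.prodMap _ m v), ?_⟩
  rw [MonObj.mul_comp, Category.assoc, Category.assoc, ht', prodMap_comp]
  simp only [hv]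
  rfl

include hh' hconn' ht' hR' he in
/-- The points of a subgroup in a standard Borel subgroup. -/
theorem mem_borelInter_iff {lv : D.idx → ℕ} (hF : Filt D (RedSub.posRoots D.P b) lv) {R : Type u} [CommRing R]
    {j : Spec (CommRingCat.of R) ⟶ S} [IsOpenImmersion j] {C : Type u} [CommRing C] [Algebra R C]
    {g : Sp j C ⟶ G} :
    (g ∈ HP j C h' ∧ g ∈ borelPts D b j C lv) ↔
      ∃ τ : Sp j C ⟶ D.T ⊗ RedSub.pow (Red.Ga S) m, τ ≫ RedSub.borelMap D e = g := by
  classical
  haveI : ∀ c, IsMonHom (D.u c) := fun c => (D.rootHom c).1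
  haveI := isMonHom_i (D := D)
  constructor
  · rintro ⟨hg, χ, w, hw, rfl⟩
    obtain ⟨l, ep', hep'⟩ := exists_enum (D := D) (RedSub.posRoots D.P b \ R')
    have hE : RedSub.Enumerates (RedSub.posRoots D.P b) (Fin.append e ep') :=
      enum_append he hep' (fun a ha hb => hb.2 ha.1) (by rw [Set.inter_comm, Set.inter_union_sdiff])
    obtain ⟨z, rfl⟩ := (mem_gen_iff D.rootHom hF (nodup_list hE) (mem_list_iff hE)).1 hw
    obtain ⟨n, en, hen⟩ := exists_enum (D := D) (RedSub.negRoots D.P b)
    obtain ⟨lam, hl⟩ := hasLam b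
    let x : D.idx → C := fun a => if a ∈ RedSub.posRoots D.P b then z a else 0
    have hx : chart j D.u (cellList en (Fin.append e ep')) (⟨χ, x⟩ : Coord D C) =
        (tpt D j χ ≫ D.i) * rootProd j D.u (List.ofFn (Fin.append e ep')) z := by
      rw [chart, show rootProd j D.u (cellList en (Fin.append e ep')) x =
          rootProd j D.u (List.ofFn en) x * rootProd j D.u (List.ofFn (Fin.append e ep')) x by
        simp only [rootProd, List.map_append, List.prod_append],
        rootProd_eq_one j fun a ha => if_neg fun hp => by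
          have := (hl a).1 hp
          have := (hl a).2 ((mem_list_iff hen a).1 ha)
          omega,
        _root_.one_mul]
      congr 1
      exact congrArg List.prod (List.map_congr_left fun a ha => by
        show gp j (x a) ≫ D.u a = _
        rw [show x a = z a from if_pos ((mem_list_iff hE a).1 ha)])
    have h0 : ∀ c ∈ RedSub.posRoots D.P b, c ∉ R' → z c = 0 := fun c hc hcR => by
      have := cell_roots hen hE hh' hconn' t' ht' ⟨χ, x⟩ (hx ▸ hg) c fun hm =>
        hcR ((hR' c).1 ((mem_tanRoots_iff hen hE hh' t' ht' c).2 hm))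
      simpa [x, hc] using this
    refine ⟨lift (tpt D j χ) (tup m fun k => gp j (z (e k))), ?_⟩
    rw [lift_borelMap, rootProd_ofFn, rootProd_ofFn, ofFn_prod_append]
    congr 1
    simp only [Fin.append_left, Fin.append_right]
    rw [show (List.ofFn fun i => gp j (z (ep' i)) ≫ D.u (ep' i)).prod = 1 from List.prod_eq_one fun x hx => by
      obtain ⟨i, rfl⟩ := List.mem_ofFn.1 hx
      have hi : ep' i ∈ RedSub.posRoots D.P b \ R' := hep'.2 ▸ Set.mem_range_self i
      rw [h0 _ hi.1 hi.2, gp_zero, MonObj.one_comp], _root_.mul_one]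
  · rintro ⟨τ, rfl⟩
    obtain ⟨p, hp⟩ := exists_borelInter t' ht' hR' he
    obtain ⟨χ, z, ez, -⟩ := exists_borel_coords τ he.1
    refine ⟨mem_HP.2 ⟨τ ≫ p, by rw [Category.assoc, hp]⟩, χ, _, ?_, ez⟩
    exact rootProd_mem_gen D.rootHom fun c hc _ => ⟨((mem_list_iff he c).1 hc).2, Nat.zero_le _⟩

include he in
theorem isClosedImmersion_borelInter : IsClosedImmersion (RedSub.borelMap D e).left := by
  obtain ⟨l, ep', hep'⟩ := exists_enum (D := D) (RedSub.posRoots D.P b \ R')
  have hE : RedSub.Enumerates (RedSub.posRoots D.P b) (Fin.append e ep') :=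
    enum_append he hep' (fun a ha hb => hb.2 ha.1) (by rw [Set.inter_comm, Set.inter_union_sdiff])
  haveI := isClosedImmersion_borelMap hE
  haveI : IsClosedImmersion (borelIncl D m l).left := by
    haveI := (affSmooth_borel D m).1
    haveI : IsSeparated (borelProj D m l).left := by
      haveI : IsSeparated ((borelProj D m l).left ≫ (D.T ⊗ RedSub.pow (Red.Ga S) m).hom) := by
        haveI := (affSmooth_borel D (m + l)).1
        rw [Over.w (borelProj D m l)]; infer_instance
      exact IsSeparated.of_comp _ (D.T ⊗ RedSub.pow (Red.Ga S) m).hom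
    haveI : IsClosedImmersion ((borelIncl D m l).left ≫ (borelProj D m l).left) := by
      rw [← Over.comp_left, borelIncl_proj]
      exact inferInstanceAs (IsClosedImmersion (𝟙 _))
    exact IsClosedImmersion.of_comp (borelIncl D m l).left (borelProj D m l).left
  rw [← borelIncl_borelMap (e' := ep'), Over.comp_left]
  infer_instance

include hh' hconn' ht' hR' he in
/-- The intersection is a subgroup scheme. -/
theorem exists_grpObj_borelInter :
    ∃ g : GrpObj (D.T ⊗ RedSub.pow (Red.Ga S) m),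
      @IsMonHom (Over S) _ _ _ G g.toMonObj _ (RedSub.borelMap D e) := by
  obtain ⟨lv, hF⟩ := exists_filt_pos (D := D) b
  haveI := isClosedImmersion_borelInter he
  haveI : Mono (RedSub.borelMap D e) := by
    haveI : Mono (RedSub.borelMap D e).left := inferInstance
    exact Over.mono_of_mono_left _
  have hB := affSmooth_borel D m
  refine Groth.L08.exists_grpObj_of_mono _ ?_ ?_ ?_
  · haveI := affSmooth_one (S := S) |>.1
    refine exists_lift_of_univ _ _ fun R _ j _ => (mem_borelInter_iff hh' hconn' t' ht' hR' he hF).1 ?_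
    rw [show η[G] = (1 : 𝟙_ (Over S) ⟶ G) by rw [Hom.one_def, toUnit_unique (toUnit _) (𝟙 _), Category.id_comp],
      MonObj.comp_one]
    exact ⟨one_mem _, borelPts_one⟩
  · haveI := (hB.tensor hB).1
    refine exists_lift_of_univ _ _ fun R _ j _ => (mem_borelInter_iff hh' hconn' t' ht' hR' he hF).1 ?_
    rw [MonObj.comp_mul, ← Category.assoc, ← Category.assoc]
    have h1 := (mem_borelInter_iff hh' hconn' t' ht' hR' he hF (j := j)
      (g := (univ j ((D.T ⊗ RedSub.pow (Red.Ga S) m) ⊗ (D.T ⊗ RedSub.pow (Red.Ga S) m)) ≫ fst _ _) ≫ RedSub.borelMap D e)).2 ⟨_, rfl⟩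
    have h2 := (mem_borelInter_iff hh' hconn' t' ht' hR' he hF (j := j)
      (g := (univ j ((D.T ⊗ RedSub.pow (Red.Ga S) m) ⊗ (D.T ⊗ RedSub.pow (Red.Ga S) m)) ≫ snd _ _) ≫ RedSub.borelMap D e)).2 ⟨_, rfl⟩
    exact ⟨mul_mem h1.1 h2.1, borelPts_mul h1.2 h2.2⟩
  · haveI := hB.1
    refine exists_lift_of_univ _ _ fun R _ j _ => (mem_borelInter_iff hh' hconn' t' ht' hR' he hF).1 ?_
    rw [GrpObj.comp_inv]
    have h1 := (mem_borelInter_iff hh' hconn' t' ht' hR' he hF (j := j)
      (g := univ j (D.T ⊗ RedSub.pow (Red.Ga S) m) ≫ RedSub.borelMap D e)).2 ⟨_, rfl⟩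
    exact ⟨inv_mem h1.1, borelPts_inv h1.2⟩

include he in
/-- The intersection is solvable. -/
theorem isSolvable_borelInter [GrpObj (D.T ⊗ RedSub.pow (Red.Ga S) m)] [IsMonHom (RedSub.borelMap D e)] :
    Red.IsSolvableGrp (D.T ⊗ RedSub.pow (Red.Ga S) m) := by
  obtain ⟨l, ep', hep'⟩ := exists_enum (D := D) (RedSub.posRoots D.P b \ R')
  have hE : RedSub.Enumerates (RedSub.posRoots D.P b) (Fin.append e ep') :=
    enum_append he hep' (fun a ha hb => hb.2 ha.1) (by rw [Set.inter_comm, Set.inter_union_sdiff])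
  haveI := isClosedImmersion_borelInter he
  haveI : Mono (RedSub.borelMap D e) := by
    haveI : Mono (RedSub.borelMap D e).left := inferInstance
    exact Over.mono_of_mono_left _
  obtain ⟨gB, hB⟩ := exists_grpObj_borel hE
  letI := gB
  letI : MonObj (D.T ⊗ RedSub.pow (Red.Ga S) (m + l)) := gB.toMonObj
  haveI := hB
  haveI := mono_borelMap hE
  obtain ⟨k, hk⟩ := isSolvable_borel hE
  haveI : IsMonHom (borelIncl D m l) := Groth.L25.Bridge.isMonHom_of_mul _ fun Y a c =>
    (cancel_mono (RedSub.borelMap D (Fin.append e ep'))).1 (by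
      rw [Category.assoc, borelIncl_borelMap, MonObj.mul_comp, MonObj.mul_comp, Category.assoc, Category.assoc,
        borelIncl_borelMap])
  refine ⟨k, fun Y => ?_⟩
  let Φ : (Y ⟶ D.T ⊗ RedSub.pow (Red.Ga S) m) →* (Y ⟶ D.T ⊗ RedSub.pow (Red.Ga S) (m + l)) :=
    MonoidHom.mk' (· ≫ borelIncl D m l) fun a c => MonObj.mul_comp a c _
  refine (Subgroup.eq_bot_iff_forall _).2 fun a ha => ?_
  have h1 : Φ a ∈ derivedSeries (Y ⟶ D.T ⊗ RedSub.pow (Red.Ga S) (m + l)) k :=
    map_derivedSeries_le_derivedSeries Φ k ⟨a, ha, rfl⟩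
  rw [hk, Subgroup.mem_bot] at h1
  refine (cancel_mono (RedSub.borelMap D e)).1 ?_
  rw [← borelIncl_borelMap (e' := ep'), ← Category.assoc, ← Category.assoc, show a ≫ borelIncl D m l = 1 from h1,
    MonObj.one_comp, show (1 : Y ⟶ D.T ⊗ RedSub.pow (Red.Ga S) m) ≫ borelIncl D m l = 1 from map_one Φ,
    MonObj.one_comp]

end Groth.L14.TypeR
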