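import Groth.Agent.L14.TypeR.LeviRoots
import Groth.Agent.L14.AlmostSimple.Points

/-!
A group of points with two opposite root groups and the torus is not solvable.
-/

set_option autoImplicit false
universe u

open CategoryTheory CategoryTheory.Limits AlgebraicGeometry MonoidalCategory CartesianMonoidalCategory MonObj
open Groth.L14.RankOne Groth.L25 Groth.L14.Chart Groth.L14.Chev.Cell

set_option backward.isDefEq.respectTransparency.types false
set_option linter.style.haveILetI false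
set_option linter.unusedSectionVars false
set_option maxHeartbeats 1000000

noncomputable section

namespace Groth.L14.TypeR

variable {S : Scheme.{u}} [PreconnectedSpace S] [Nonempty S] {G : Over S} [GrpObj G] {D : Red.SplitRed G}
  {R : Type u} [CommRing R] {j : Spec (CommRingCat.of R) ⟶ S} [IsOpenImmersion j]
  {K : Type u} [Field K] [IsAlgClosed K] [Algebra R K]

/-- The commutator of a torus-stable group with two opposite root groups contains both of them. -/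
theorem opp_mem_commutator (b : D.P.Base) {c : D.idx} {Δ : Subgroup (Sp j K ⟶ G)}
    (hT : ∀ (χ : Multiplicative D.M →* K), ∀ g ∈ Δ, (tpt D j χ ≫ D.i) * g * (tpt D j χ ≫ D.i)⁻¹ ∈ Δ)
    (hc : ∀ x : K, gp j x ≫ D.u c ∈ Δ) (hc' : ∀ x : K, gp j x ≫ D.u (opp D c) ∈ Δ) (y : K) :
    gp j y ≫ D.u (opp D c) ∈ ⁅Δ, Δ⁆ := by
  classical
  haveI : ∀ c, IsMonHom (D.u c) := fun c => (D.rootHom c).1
  haveI := isMonHom_i (D := D)
  obtain ⟨b₀, hb₀⟩ : ∃ b₀ : D.P.Base, c ∈ RedSub.posRoots D.P b₀ := by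
    rcases pos_or_neg D.P b c with h | h
    · exact ⟨b, h⟩
    · exact ⟨negBase D.P b, by rw [posRoots_negBase]; exact h⟩
  obtain ⟨ν, hν⟩ := D.refl c
  have hn := actsBy_of_refl hν
  obtain ⟨x₁, y₁, z₁, χ₀, e⟩ := exists_refl_decomp (j := j) b₀ hb₀ hn
  have e' := congrArg (fun p => mor j (Algebra.ofId R K) ≫ p) e
  simp only [MonObj.comp_mul, ← Category.assoc, mor_gp, mor_tpt,
    toUnit_unique (mor j (Algebra.ofId R K) ≫ toUnit _) (toUnit _)] at e'
  generalize hU : gp j ((Algebra.ofId R K) x₁) ≫ D.u c = U at e'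
  generalize hV : gp j ((Algebra.ofId R K) y₁) ≫ D.u (D.P.reflectionPerm c c) = V at e'
  generalize hW : gp j ((Algebra.ofId R K) z₁) ≫ D.u c = W at e'
  generalize hχ : ((Algebra.ofId R K : R →ₐ[R] K) : R →* K).comp χ₀ = χK at e'
  have hν' : (tpt D j χK ≫ D.i)⁻¹ * (toUnit (Sp j K) ≫ ν) ∈ Δ := by
    rw [e', show (tpt D j χK ≫ D.i)⁻¹ * (U * (tpt D j χK ≫ D.i) * V * W) =
      ((tpt D j χK ≫ D.i)⁻¹ * U * (tpt D j χK ≫ D.i)) * V * W by group]
    refine mul_mem (mul_mem ?_ (hV ▸ hc' _)) (hW ▸ hc _)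
    have := hT (χK.comp invMonoidHom) U (hU ▸ hc _)
    rwa [tpt_inv, inv_inv] at this
  obtain ⟨w, hw⟩ := exists_conj_scale (j := j) b hn c
  let k : K := χK.comp invMonoidHom (Multiplicative.ofAdd (D.P.root (opp D c))) * algebraMap R K (w : R)
  have hk : k ≠ 0 := mul_ne_zero (((Group.isUnit _).map (χK.comp invMonoidHom)).ne_zero)
    ((Units.isUnit w).map (algebraMap R K)).ne_zero
  have h1 : ∀ a : K, (gp j (k * a) ≫ D.u (opp D c)) * (gp j a ≫ D.u c)⁻¹ ∈ ⁅Δ, Δ⁆ := fun a => by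
    have h := Subgroup.commutator_mem_commutator hν' (hc a)
    rw [commutatorElement_def] at h
    convert h using 2
    rw [show (tpt D j χK ≫ D.i)⁻¹ * (toUnit (Sp j K) ≫ ν) * (gp j a ≫ D.u c) *
        ((tpt D j χK ≫ D.i)⁻¹ * (toUnit (Sp j K) ≫ ν))⁻¹ =
      (tpt D j χK ≫ D.i)⁻¹ * ((toUnit (Sp j K) ≫ ν) * (gp j a ≫ D.u c) * (toUnit (Sp j K) ≫ ν)⁻¹) *
        (tpt D j χK ≫ D.i)⁻¹⁻¹ by group, hw K a, ← tpt_inv, conj_root j D.rootHom]
    simp only [k, opp, _root_.mul_assoc]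
  have h2 : ∀ (χ : Multiplicative D.M →* K), ∀ g ∈ ⁅Δ, Δ⁆, (tpt D j χ ≫ D.i) * g * (tpt D j χ ≫ D.i)⁻¹ ∈ ⁅Δ, Δ⁆ := by
    intro χ g hg
    let φ : (Sp j K ⟶ G) →* (Sp j K ⟶ G) := (MulAut.conj (tpt D j χ ≫ D.i)).toMonoidHom
    have hle : Subgroup.map φ ⁅Δ, Δ⁆ ≤ ⁅Δ, Δ⁆ := by
      rw [Subgroup.map_commutator]
      exact Subgroup.commutator_mono (fun g hg => by obtain ⟨g, hg, rfl⟩ := hg; exact hT χ g hg)
        (fun g hg => by obtain ⟨g, hg, rfl⟩ := hg; exact hT χ g hg)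
    exact hle ⟨g, hg, rfl⟩
  obtain ⟨v, hv⟩ := exists_unit_zpow_ne_one (K := K) (k := (2 : ℤ)) two_ne_zero
  obtain ⟨χ, hχv⟩ := exists_char_eq (D := D) c v.ne_zero
  have hneg : χ (Multiplicative.ofAdd (D.P.root (opp D c))) = (v : K)⁻¹ := by
    refine eq_inv_of_mul_eq_one_left ?_
    rw [← hχv, ← map_mul, ← ofAdd_add, root_opp, neg_add_cancel, ofAdd_zero, map_one]
  have h3 : ∀ a : K, gp j (((v : K)⁻¹ - v) * k * a) ≫ D.u (opp D c) ∈ ⁅Δ, Δ⁆ := fun a => by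
    have hA := h2 χ _ (h1 a)
    rw [show (tpt D j χ ≫ D.i) * ((gp j (k * a) ≫ D.u (opp D c)) * (gp j a ≫ D.u c)⁻¹) * (tpt D j χ ≫ D.i)⁻¹ =
      ((tpt D j χ ≫ D.i) * (gp j (k * a) ≫ D.u (opp D c)) * (tpt D j χ ≫ D.i)⁻¹) *
        ((tpt D j χ ≫ D.i) * (gp j a ≫ D.u c) * (tpt D j χ ≫ D.i)⁻¹)⁻¹ by group,
      conj_root j D.rootHom, conj_root j D.rootHom, hχv, hneg] at hA
    have hB := mul_mem hA (inv_mem (h1 ((v : K) * a)))
    rw [mul_inv_rev, inv_inv, _root_.mul_assoc, inv_mul_cancel_left] at hB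
    rw [show ((v : K)⁻¹ - v) * k * a = (v : K)⁻¹ * (k * a) + -(k * ((v : K) * a)) by ring, gp_add, MonObj.mul_comp,
      gp_neg, GrpObj.inv_comp]
    exact hB
  have hne : ((v : K)⁻¹ - v) * k ≠ 0 := mul_ne_zero (sub_ne_zero.2 fun e1 => hv (by
    rw [zpow_two, Units.val_mul]
    nth_rewrite 1 [← e1]
    exact inv_mul_cancel₀ v.ne_zero)) hk
  have := h3 (((v : K)⁻¹ - v) * k)⁻¹ 
  have := h3 ((((v : K)⁻¹ - v) * k)⁻¹ * y)
  rwa [mul_inv_cancel_left₀ hne] at this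

theorem conj_mem_map_derived {M : Type*} [Group M] (Γ : Subgroup M) (n : ℕ) {t g : M} (ht : t ∈ Γ)
    (hg : g ∈ (derivedSeries Γ n).map Γ.subtype) : t * g * t⁻¹ ∈ (derivedSeries Γ n).map Γ.subtype := by
  obtain ⟨g', hg', rfl⟩ := Subgroup.mem_map.1 hg
  exact Subgroup.mem_map.2 ⟨⟨t, ht⟩ * g' * ⟨t, ht⟩⁻¹, (derivedSeries_normal _ n).conj_mem g' hg' _, rfl⟩

theorem map_derived_succ {M : Type*} [Group M] (Γ : Subgroup M) (n : ℕ) :
    (derivedSeries Γ (n + 1)).map Γ.subtype =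
      ⁅(derivedSeries Γ n).map Γ.subtype, (derivedSeries Γ n).map Γ.subtype⁆ := by
  rw [derivedSeries_succ, Subgroup.map_commutator]

/-- A subgroup of points with the torus and two opposite root groups has no trivial derived subgroup. -/
theorem derivedSeries_ne_bot (b : D.P.Base) {c : D.idx} {Γ : Subgroup (Sp j K ⟶ G)}
    (hT : ∀ χ : Multiplicative D.M →* K, tpt D j χ ≫ D.i ∈ Γ)
    (hc : ∀ x : K, gp j x ≫ D.u c ∈ Γ) (hc' : ∀ x : K, gp j x ≫ D.u (opp D c) ∈ Γ) (n : ℕ) :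
    derivedSeries Γ n ≠ ⊥ := by
  haveI : ∀ c, IsMonHom (D.u c) := fun c => (D.rootHom c).1
  have hTn : ∀ (n : ℕ) (χ : Multiplicative D.M →* K), ∀ g ∈ (derivedSeries Γ n).map Γ.subtype,
      (tpt D j χ ≫ D.i) * g * (tpt D j χ ≫ D.i)⁻¹ ∈ (derivedSeries Γ n).map Γ.subtype :=
    fun n χ g hg => conj_mem_map_derived Γ n (hT χ) hg
  have key : (∀ x : K, gp j x ≫ D.u c ∈ (derivedSeries Γ n).map Γ.subtype) ∧
      ∀ x : K, gp j x ≫ D.u (opp D c) ∈ (derivedSeries Γ n).map Γ.subtype := by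
    induction n with
    | zero =>
      rw [derivedSeries_zero, ← MonoidHom.range_eq_map, Subgroup.range_subtype]
      exact ⟨hc, hc'⟩
    | succ n ih =>
      rw [map_derived_succ]
      refine ⟨fun x => ?_, fun x => opp_mem_commutator b (hTn n) ih.1 ih.2 x⟩
      have := opp_mem_commutator b (c := opp D c) (hTn n) ih.2 (fun z => by rw [opp_opp]; exact ih.1 z) x
      rwa [opp_opp] at this
  intro h
  have h1 := key.1 1
  rw [h, Subgroup.map_bot, Subgroup.mem_bot] at h1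
  haveI := (D.rootHom c).2.1
  haveI : Mono (D.u c).left := inferInstance
  haveI : Mono (D.u c) := Over.mono_of_mono_left _
  have h2 : gp j (1 : K) = gp j (0 : K) := (cancel_mono (D.u c)).1 (by rw [h1, gp_zero, MonObj.one_comp])
  exact one_ne_zero (by simpa only [gv_gp] using congrArg gv h2)

end Groth.L14.TypeR
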