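import Groth.Agent.L14.TypeR.LeviBorel
import Groth.Agent.L14.TypeR.Solv
import Groth.Agent.L14.Chev.Cell.BorelFibre
import Groth.Agent.L14.Luna.Cor
import Groth.Agent.L25.GenWords.SpreadComm
import Groth.Agent.L25.GenWords.Generated

/-!
A normal subgroup without subtori meets the cell of a base containing the asymmetric roots in the Borel subgroup.
-/

set_option autoImplicit false
universe u

open CategoryTheory CategoryTheory.Limits AlgebraicGeometry MonoidalCategory CartesianMonoidalCategory MonObj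
open Groth.L14.RankOne Groth.L25 Groth.L14.Chart Groth.L14.Chev.Cell

set_option backward.isDefEq.respectTransparency.types false
set_option linter.style.haveILetI false
set_option linter.unusedSectionVars false
set_option maxHeartbeats 2000000

noncomputable section

namespace Groth.L14.TypeR

variable {S : Scheme.{u}} [PreconnectedSpace S] [Nonempty S] {G H' : Over S} [GrpObj G] [GrpObj H']
  {D : Red.SplitRed G} {h' : H' ⟶ G} [IsMonHom h'] {b : D.P.Base} {R' : Set D.idx}
  (hcl : ∀ a b c : D.idx, a ∈ R' → b ∈ R' → D.P.root a + D.P.root b = D.P.root c → c ∈ R')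
  (hh' : IsImmersion h'.left) [Smooth H'.hom] [QuasiCompact H'.hom] (hconn' : RedSub.HasConnectedFibres H')
  (t' : D.T ⟶ H') (ht' : t' ≫ h' = D.i)
  (hR' : ∀ a : D.idx, (∃ v : Red.Ga S ⟶ H', v ≫ h' = D.u a) ↔ a ∈ R')
  (hb : asymPart D R' ⊆ RedSub.posRoots D.P b)
  {n m : ℕ} {eneg : Fin n → D.idx} {epos : Fin m → D.idx}
  (hneg : RedSub.Enumerates (RedSub.negRoots D.P b) eneg) (hpos : RedSub.Enumerates (RedSub.posRoots D.P b) epos)
  {R : Type u} [CommRing R] {j : Spec (CommRingCat.of R) ⟶ S} [IsOpenImmersion j]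
  {K : Type u} [Field K] [IsAlgClosed K] [Algebra R K]

include hcl hh' hconn' ht' hR' hb hneg hpos in
/-- A point of a normal subgroup without subtori in the cell lies in the Borel subgroup. -/
theorem mem_borelPts_of_normal {lv : D.idx → ℕ} (hF : Filt D (RedSub.posRoots D.P b) lv) {U' : Over S} [GrpObj U']
    (u' : U' ⟶ H') [IsMonHom u'] [IsClosedImmersion u'.left] (hn : AlgGrp.IsNormalHom u') [Smooth U'.hom]
    (hc : ConnectedSpace (Red.bc (qK j K) U').left) (hns : Red.HasNoSubtorus K (Red.bc (qK j K) U'))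
    (g : Sp j K ⟶ U')
    (hg : (g ≫ u' ≫ h').left (IsLocalRing.closedPoint K) ∈ Set.range (RedSub.cellMap D eneg epos).left) :
    g ≫ u' ≫ h' ∈ borelPts D b j K lv := by
  classical
  haveI := hh'
  haveI := hc
  haveI : Mono h' := Over.mono_of_mono_left h'
  haveI := reductive_affine D
  haveI := reductive_smooth D
  haveI := isMonHom_i (D := D)
  haveI : ∀ c, IsMonHom (D.u c) := fun c => (D.rootHom c).1
  obtain ⟨k, e, he⟩ := exists_enum (D := D) (R' ∩ RedSub.posRoots D.P b)
  obtain ⟨gP, hgP⟩ := exists_grpObj_borelInter hh' hconn' t' ht' hR' he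
  letI := gP
  letI : MonObj (D.T ⊗ RedSub.pow (Red.Ga S) k) := gP.toMonObj
  haveI := hgP
  obtain ⟨p, hp⟩ := exists_borelInter t' ht' hR' he
  haveI : IsMonHom p := Groth.L25.Bridge.isMonHom_of_mul _ fun Y a c => (cancel_mono h').1 (by
    rw [Category.assoc, hp, MonObj.mul_comp, MonObj.mul_comp, Category.assoc, Category.assoc, hp])
  haveI := isClosedImmersion_borelInter he
  let q := qK j K
  let HK := Red.bc q H'
  let hK : HK ⟶ Red.bc q G := (Over.pullback q).map h'
  haveI : IsMonHom hK := isMonHom_bcMap q h'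
  haveI : IsImmersion hK.left :=
    MorphismProperty.overPullbackMap (P := @IsImmersion) q h' hh'
  haveI : IsClosedImmersion hK.left := GenWords.isClosedImmersion_of_isImmersion hK
  haveI : IsAffineHom (Red.bc q G).hom := MorphismProperty.pullback_snd _ _ ‹IsAffineHom G.hom›
  haveI : IsAffine (Red.bc q G).left := isAffine_of_isAffineHom (Red.bc q G).hom
  haveI : IsAffine HK.left := isAffine_of_isAffineHom hK.left
  haveI : Smooth HK.hom := MorphismProperty.pullback_snd _ _ ‹Smooth H'.hom›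
  haveI : QuasiCompact HK.hom := MorphismProperty.pullback_snd _ _ ‹QuasiCompact H'.hom›
  haveI : IrreducibleSpace HK.left :=
    Groth.L02.SchDom.irrFib_of_group H' (fun s =>
      Groth.L02.SchDom.connectedSpace_fiber_of_isConnected H'.hom s (hconn' s)) K q
  haveI : ConnectedSpace HK.left := inferInstance
  let pK : Red.bc q (D.T ⊗ RedSub.pow (Red.Ga S) k) ⟶ HK := (Over.pullback q).map p
  haveI : IsMonHom pK := isMonHom_bcMap q p
  haveI : IsClosedImmersion pK.left := by
    haveI : IsClosedImmersion ((Over.pullback q).map (RedSub.borelMap D e)).left :=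
      MorphismProperty.overPullbackMap (P := @IsClosedImmersion) q (RedSub.borelMap D e) inferInstance
    haveI : IsClosedImmersion (pK.left ≫ hK.left) := by
      rw [← Over.comp_left, ← Functor.map_comp, hp]; infer_instance
    exact IsClosedImmersion.of_comp pK.left hK.left
  haveI : Smooth (Red.bc q (D.T ⊗ RedSub.pow (Red.Ga S) k)).hom :=
    MorphismProperty.pullback_snd _ _ (affSmooth_borel D k).2
  -- connectedness: a retract of the fibre of the standard Borel subgroup
  obtain ⟨l, ep', hep'⟩ := exists_enum (D := D) (RedSub.posRoots D.P b \ R')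
  have hE : RedSub.Enumerates (RedSub.posRoots D.P b) (Fin.append e ep') :=
    enum_append he hep' (fun a ha hb => hb.2 ha.1) (by rw [Set.inter_comm, Set.inter_union_sdiff])
  haveI : ConnectedSpace (Red.bc q (D.T ⊗ RedSub.pow (Red.Ga S) k)).left := by
    haveI : IrreducibleSpace (Red.bc q G).left := by
      haveI := connectedSpace_fibre D q
      haveI : Smooth (Red.bc q G).hom := MorphismProperty.pullback_snd _ _ ‹Smooth G.hom›
      exact ConnIrred.irreducibleSpace _
    haveI := isOpenImmersion_cellMap hneg hE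
    let Ω := cellSpace D n (k + l)
    let cK : Red.bc q Ω ⟶ Red.bc q G := (Over.pullback q).map (RedSub.cellMap D eneg (Fin.append e ep'))
    haveI : IsOpenImmersion cK.left := MorphismProperty.overPullbackMap (P := @IsOpenImmersion) q
      (RedSub.cellMap D eneg (Fin.append e ep')) inferInstance
    let sec : D.T ⊗ RedSub.pow (Red.Ga S) k ⟶ Ω :=
      lift (toUnit _ ≫ tup n fun _ => (1 : 𝟙_ (Over S) ⟶ Red.Ga S)) (borelIncl D k l)
    let pr : Ω ⟶ D.T ⊗ RedSub.pow (Red.Ga S) k := snd _ _ ≫ borelProj D k l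
    have hsp : sec ≫ pr = 𝟙 _ := by rw [lift_snd_assoc, borelIncl_proj]
    have hsec : ((Over.pullback q).map sec).left ≫ ((Over.pullback q).map pr).left = 𝟙 _ := by
      rw [← Over.comp_left, ← Functor.map_comp, hsp, CategoryTheory.Functor.map_id]
      rfl
    have hsur : Function.Surjective ((Over.pullback q).map pr).left := fun y =>
      ⟨((Over.pullback q).map sec).left y, by rw [← Scheme.Hom.comp_apply, hsec]; rfl⟩
    haveI : Nonempty (Red.bc q (D.T ⊗ RedSub.pow (Red.Ga S) k)).left :=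
      ⟨(η[Red.bc q (D.T ⊗ RedSub.pow (Red.Ga S) k)]).left (IsLocalRing.closedPoint K)⟩
    haveI : Nonempty (Red.bc q Ω).left := hsur.nonempty
    haveI : PreirreducibleSpace (Red.bc q Ω).left := ⟨by
      rw [← Set.preimage_image_eq Set.univ cK.left.isOpenEmbedding.injective, Set.image_univ]
      exact (PreirreducibleSpace.isPreirreducible_univ.open_subset cK.left.isOpenEmbedding.isOpen_range
        (Set.subset_univ _)).preimage cK.left.isOpenEmbedding⟩
    haveI : IrreducibleSpace (Red.bc q Ω).left := ⟨inferInstance⟩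
    exact hsur.connectedSpace ((Over.pullback q).map pr).left.continuous
  obtain ⟨B, _, iB, hB, f, hf⟩ := Groth.L08.Borel.exists_borel_ge pK
    (isSolvableGrp_bc q (isSolvable_borelInter he))
  haveI := hB.1
  haveI : IsClosedImmersion ((Over.pullback q).map u').left :=
    MorphismProperty.overPullbackMap (P := @IsClosedImmersion) q u' inferInstance
  haveI : Smooth (Red.bc q U').hom := MorphismProperty.pullback_snd _ _ ‹Smooth U'.hom›
  haveI : IsMonHom ((Over.pullback q).map u') := isMonHom_bcMap q u'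
  obtain ⟨w, hw⟩ := Groth.L14.Luna.normal_le_borel ((Over.pullback q).map u')
    (GenWords.isNormalHom_bc q u' hn) hns hB
  let Γ : Subgroup (Sp j K ⟶ G) := ptRange (iB ≫ hK)
  have hΓ : (∀ n, derivedSeries (Γ : Subgroup (Sp j K ⟶ G)) n ≠ ⊥) → False := by
    obtain ⟨N, hN⟩ := hB.2.2.2.2.1
    intro hne
    let Φ : (𝟙_ (Over (Spec (CommRingCat.of K))) ⟶ B) →* (Sp j K ⟶ G) :=
      (ptHom j K G).comp (MonoidHom.mk' (· ≫ iB ≫ hK) fun a c => MonObj.mul_comp a c (iB ≫ hK))
    refine hne N (?_ : derivedSeries Φ.range N = ⊥)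
    rw [← map_derivedSeries_eq Φ.rangeRestrict_surjective N, hN, Subgroup.map_bot]
  have hP : ∀ τ : Sp j K ⟶ D.T ⊗ RedSub.pow (Red.Ga S) k, τ ≫ RedSub.borelMap D e ∈ Γ := fun τ =>
    (mem_ptRange (iB ≫ hK)).2 ⟨(ptBC j K).symm τ ≫ f, by
      rw [Category.assoc, reassoc_of% hf, ← Functor.map_comp, hp]
      exact (ptBC_comp j K _ _).trans (by rw [Equiv.apply_symm_apply])⟩
  have hBP : ∀ x : Sp j K ⟶ G, x ∈ HP j K h' ∧ x ∈ borelPts D b j K lv → x ∈ Γ := fun x hx => by
    obtain ⟨τ, rfl⟩ := (mem_borelInter_iff hh' hconn' t' ht' hR' he hF).1 hx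
    exact hP τ
  have hgΓ : g ≫ u' ≫ h' ∈ Γ := (mem_ptRange (iB ≫ hK)).2 ⟨(ptBC j K).symm g ≫ w, by
    rw [Category.assoc, reassoc_of% hw, ← Functor.map_comp]
    exact (ptBC_comp j K _ _).trans (by rw [Equiv.apply_symm_apply])⟩
  have hgH : g ≫ u' ≫ h' ∈ HP j K h' := mem_HP.2 ⟨g ≫ u', Category.assoc _ _ _⟩
  obtain ⟨t, ht⟩ := exists_cell_of_range hneg hpos (g ≫ u' ≫ h') hg
  obtain ⟨d, hd⟩ := (toCell_bijective hneg hpos (j := j)).2 t
  rw [← hd, toCell_cellMap] at ht
  rw [← ht] at hgΓ hgH ⊢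
  have h0 : ∀ c, c ∉ R' → d.co c = 0 := fun c hc => cell_roots hneg hpos hh' hconn' t' ht' d hgH c fun hc' =>
    hc ((hR' c).1 ((mem_tanRoots_iff hneg hpos hh' t' ht' c).2 hc'))
  have hsplit : chart j D.u (cellList eneg epos) d =
      (tpt D j d.tor ≫ D.i) * (rootProd j D.u (List.ofFn eneg) d.co * rootProd j D.u (List.ofFn epos) d.co) := by
    rw [chart]
    congr 1
    simp only [rootProd, List.map_append, List.prod_append]
  rw [hsplit] at hgΓ hgH ⊢
  have hTH : ∀ χ : Multiplicative D.M →* K, tpt D j χ ≫ D.i ∈ HP j K h' := fun χ => torus_mem t' ht' χ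
  have hT : ∀ χ : Multiplicative D.M →* K, tpt D j χ ≫ D.i ∈ Γ := fun χ =>
    hBP _ ⟨hTH χ, χ, 1, one_mem _, (_root_.mul_one _).symm⟩
  have hroot : ∀ c ∈ R', ∀ y : K, gp j y ≫ D.u c ∈ HP j K h' := fun c hc y => by
    obtain ⟨v, hv⟩ := (hR' c).2 hc
    exact mem_HP.2 ⟨gp j y ≫ v, by rw [Category.assoc, hv]⟩
  have hposH : rootProd j D.u (List.ofFn epos) d.co ∈ HP j K h' :=
    Subgroup.list_prod_mem _ fun x hx => by
      obtain ⟨c, -, rfl⟩ := List.mem_map.1 hx
      by_cases hc : c ∈ R'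
      · exact hroot c hc _
      · rw [h0 c hc, gp_zero, MonObj.one_comp]; exact one_mem _
  have hposB : rootProd j D.u (List.ofFn epos) d.co ∈ gen j K D.u (RedSub.posRoots D.P b) lv 0 :=
    rootProd_mem_gen D.rootHom fun c hc _ => ⟨(mem_list_iff hpos c).1 hc, Nat.zero_le _⟩
  have hposΓ : rootProd j D.u (List.ofFn epos) d.co ∈ Γ :=
    hBP _ ⟨hposH, 1, _, hposB, by rw [tpt_one, MonObj.one_comp, _root_.one_mul]⟩
  suffices h1 : rootProd j D.u (List.ofFn eneg) d.co = 1 by
    rw [h1, _root_.one_mul]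
    exact ⟨_, _, hposB, rfl⟩
  by_contra hne
  have hnegΓ : rootProd j D.u (List.ofFn eneg) d.co ∈ Γ := by
    have := mul_mem (inv_mem (hT d.tor)) hgΓ
    rw [inv_mul_cancel_left] at this
    simpa using mul_mem this (inv_mem hposΓ)
  obtain ⟨lam, hl⟩ := hasLam b
  let Ψ : Set D.idx := R' ∩ RedSub.negRoots D.P b
  have hmu : ∀ c ∈ Ψ, 0 < (-lam) (D.P.root c) := fun c hc => by
    have := (hl c).2 hc.2
    simp only [AddMonoidHom.neg_apply]
    omega
  have hΨ : ∀ a c d, a ∈ Ψ → c ∈ Ψ → D.P.root a + D.P.root c = D.P.root d → d ∈ Ψ := fun a c d ha hc h => by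
    refine ⟨hcl a c d ha.1 hc.1 h, ?_⟩
    rcases pos_or_neg D.P b d with hp | hp
    · have := (hl d).1 hp
      rw [← h, map_add] at this
      have := (hl a).2 ha.2
      have := (hl c).2 hc.2
      omega
    · exact hp
  have hFn := filt_of_closed hΨ (-lam) hmu
  obtain ⟨k', e', he'⟩ := exists_enum (D := D) Ψ
  obtain ⟨c, hc, hcU⟩ := exists_root_mem b hFn (nodup_list he') (mem_list_iff he') hT hnegΓ hmu
    (Subgroup.list_prod_mem _ fun x hx => by
      obtain ⟨c, hc, rfl⟩ := List.mem_map.1 hx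
      by_cases hcR : c ∈ R'
      · exact gp_mem_gen (⟨hcR, (mem_list_iff hneg c).1 hc⟩ : c ∈ Ψ) (Nat.zero_le _) _
      · rw [h0 c hcR, gp_zero, MonObj.one_comp]; exact one_mem _) hne
  have hlc := (hl c).2 hc.2
  have hoR : opp D c ∈ R' := by
    by_contra ho
    have := (hl c).1 (hb ⟨hc.1, ho⟩)
    omega
  have hoP : opp D c ∈ RedSub.posRoots D.P b := by
    rcases pos_or_neg D.P b (opp D c) with hp | hp
    · exact hp
    · have := (hl _).2 hp
      rw [root_opp, map_neg] at this
      omega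
  refine hΓ (derivedSeries_ne_bot b (c := c) hT hcU (fun y => hBP _ ⟨hroot _ hoR y, 1, _,
    gp_mem_gen hoP (Nat.zero_le _) y, by rw [tpt_one, MonObj.one_comp, _root_.one_mul]⟩))

end Groth.L14.TypeR
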