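import Groth.Agent.L14.TypeR.UnipDesc
import Groth.Agent.L14.TypeR.FibTriv
import Groth.Agent.L14.Luna.Radical
import Groth.Agent.L14.Luna.Cor
import Groth.Agent.L25.Locus.FixedConn

/-!
Normal subgroups without subtori have trivial torus parts.
-/

set_option autoImplicit false
universe u

open CategoryTheory CategoryTheory.Limits AlgebraicGeometry MonoidalCategory CartesianMonoidalCategory MonObj
open Groth.L14.RankOne Groth.L25 Groth.L14.Chart Groth.L14.Chev.Cell
open scoped TensorProduct

set_option backward.isDefEq.respectTransparency.types false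
set_option linter.style.haveILetI false
set_option linter.unusedSectionVars false
set_option maxHeartbeats 1000000

noncomputable section

namespace Groth.L14.TypeR

/-- A homomorphism to a torus from a group without subtori is trivial on points over an algebraically closed field. -/
theorem comp_eq_one_of_fibre {S : Scheme.{u}} {U' T : Over S} [GrpObj U'] [GrpObj T] [IsAffineHom U'.hom]
    [Smooth U'.hom] (q : U' ⟶ T) [IsMonHom q] {R : Type u} [CommRing R] {j : Spec (CommRingCat.of R) ⟶ S}
    {K : Type u} [Field K] [IsAlgClosed K] [Algebra R K] (hc : ConnectedSpace (Red.bc (qK j K) U').left)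
    (hn : Red.HasNoSubtorus K (Red.bc (qK j K) U')) (hT : Red.IsTorus T) {B : Type u} [CommRing B] [Algebra R B]
    (f : K →ₐ[R] B) (x : Sp j B ⟶ U') : x ≫ q = 1 := by
  haveI : IsAffineHom (Red.bc (qK j K) U').hom := MorphismProperty.pullback_snd U'.hom (qK j K) ‹_›
  haveI : IsAffine (Red.bc (qK j K) U').left := isAffine_of_isAffineHom (Red.bc (qK j K) U').hom
  haveI : Smooth (Red.bc (qK j K) U').hom := MorphismProperty.pullback_snd U'.hom (qK j K) ‹_›
  haveI := hc
  haveI := isMonHom_bcMap (qK j K) q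
  have h1 := Groth.L14.Luna.hom_torus_eq_one (Groth.L14.Luna.isSolvableGrp_of_noSubtorus _ hn) hn
    (Groth.L25.Locus.isTorus_bc hT (qK j K)) ((Over.pullback (qK j K)).map q)
  let Y : Over (Spec (CommRingCat.of K)) := Over.mk (Spec.map (CommRingCat.ofHom f.toRingHom))
  have hf : Spec.map (CommRingCat.ofHom f.toRingHom) ≫ qK j K = Spec.map (CommRingCat.ofHom (algebraMap R B)) ≫ j := by
    rw [qK, ← Category.assoc, ← Spec.map_comp, ← CommRingCat.ofHom_comp]
    exact congrArg (fun g => Spec.map (CommRingCat.ofHom g) ≫ j) f.comp_algebraMap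
  let e₁ : Over.mk (Y.hom ≫ qK j K) ⟶ Sp j B :=
    Over.homMk (𝟙 _) ((Category.id_comp _).trans hf.symm)
  let e₂ : Sp j B ⟶ Over.mk (Y.hom ≫ qK j K) :=
    Over.homMk (𝟙 _) ((Category.id_comp _).trans hf)
  have he : e₂ ≫ e₁ = 𝟙 _ := Over.OverMorphism.ext (Category.id_comp _)
  have h2 : e₁ ≫ x ≫ q = 1 := by
    have h3 : NilAction.ofBase (qK j K) (e₁ ≫ x) ≫ (Over.pullback (qK j K)).map q = 1 := by
      rw [h1, MonObj.comp_one]
    have h4 := congrArg (NilAction.toBase (qK j K)) h3
    rw [toBase_comp_map, NilAction.toBase_ofBase, NilAction.toBase_one, Category.assoc] at h4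
    exact h4
  rw [← Category.id_comp (x ≫ q), ← he, Category.assoc, h2, MonObj.comp_one]

variable {S : Scheme.{u}} {G H : Over S} [GrpObj G] [GrpObj H] {D : Red.SplitRed G} {h : H ⟶ G} [IsMonHom h]
  [Smooth H.hom] {b : D.P.Base} {R' : Set D.idx} {m : ℕ} {e : Fin m → D.idx} {lv : D.idx → ℕ}
  (t : D.T ⟶ H) (ht : t ≫ h = D.i) (hsub : R' ⊆ RedSub.posRoots D.P b) (he : RedSub.Enumerates R' e)
  (hF : Filt D (RedSub.posRoots D.P b) lv) (φ : D.T ⊗ RedSub.pow (Red.Ga S) m ≅ H)
  (hφ : φ.hom ≫ h = RedSub.borelMap D e) {U' : Over S} [GrpObj U'] (u' : U' ⟶ H) [IsMonHom u']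
  [IsClosedImmersion (u' ≫ h).left] [Smooth U'.hom]
  (hfib : ∀ s : S, ConnectedSpace (Red.geomFibre s U').left ∧
    Red.HasNoSubtorus (AlgebraicClosure (S.residueField s)) (Red.geomFibre s U'))
  {R : Type u} [CommRing R] {j : Spec (CommRingCat.of R) ⟶ S} [IsOpenImmersion j]

include hsub he hF hφ hfib in
/-- A torus point in the subgroup is trivial. -/
theorem tor_mem_eq_one {C : Type u} [CommRing C] [Algebra R C] {χ : Multiplicative D.M →* C}
    (hχ : tpt D j χ ≫ D.i ∈ HP j C (u' ≫ h)) : χ = 1 := by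
  haveI : IsAffineHom G.hom := reductive_affine D
  haveI : IsAffineHom U'.hom := by
    rw [← Over.w (u' ≫ h)]
    exact inferInstanceAs (IsAffineHom ((u' ≫ h).left ≫ G.hom))
  haveI := isMonHom_i (D := D)
  haveI := isMonHom_torProj hsub he hF φ hφ
  haveI : IsMonHom (u' ≫ torProj φ) := inferInstance
  haveI := (affSmooth_torus D).1
  haveI := (affSmooth_torus D).2
  let P : Over S := Over.mk (pullback.snd (u' ≫ h).left D.i.left ≫ D.T.hom)
  let pT : P ⟶ D.T := Over.homMk (pullback.snd (u' ≫ h).left D.i.left)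
  let pU : P ⟶ U' := Over.homMk (pullback.fst (u' ≫ h).left D.i.left) (by
    show _ = pullback.snd (u' ≫ h).left D.i.left ≫ D.T.hom
    rw [← Over.w D.i, ← pullback.condition_assoc, Over.w (u' ≫ h)])
  have hP : pU ≫ u' ≫ h = pT ≫ D.i := Over.OverMorphism.ext pullback.condition
  haveI : IsClosedImmersion (pullback.snd (u' ≫ h).left D.i.left) := MorphismProperty.pullback_snd _ _ ‹_›
  haveI : IsAffineHom P.hom :=
    inferInstanceAs (IsAffineHom (pullback.snd (u' ≫ h).left D.i.left ≫ D.T.hom))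
  haveI : LocallyOfFiniteType P.hom :=
    inferInstanceAs (LocallyOfFiniteType (pullback.snd (u' ≫ h).left D.i.left ≫ D.T.hom))
  haveI : Mono pT := by
    haveI : Mono pT.left := inferInstanceAs (Mono (pullback.snd (u' ≫ h).left D.i.left))
    exact Over.mono_of_mono_left pT
  let A : Type u := Crd j P
  haveI : Algebra.FiniteType R A := by
    haveI : LocallyOfFiniteType (pullback.snd P.hom j) := MorphismProperty.pullback_snd _ _ ‹_›
    have h1 : LocallyOfFiniteType (Spec.map (CommRingCat.ofHom (algebraMap R A))) := by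
      rw [show Spec.map (CommRingCat.ofHom (algebraMap R A)) =
          (pullback P.hom j).isoSpec.inv ≫ pullback.snd P.hom j by rw [Iso.eq_inv_comp, specMap_algebraMap_crd]]
      infer_instance
    exact RingHom.finiteType_algebraMap.1 ((HasRingHomProperty.Spec_iff (P := @LocallyOfFiniteType)).1 h1)
  have mkP : ∀ {B : Type u} [CommRing B] [Algebra R B] (y : Sp j B ⟶ U') (τ : Sp j B ⟶ D.T),
      y ≫ u' ≫ h = τ ≫ D.i → ∃ p : Sp j B ⟶ P, p ≫ pT = τ := fun y τ hy =>
    ⟨Over.homMk (pullback.lift y.left τ.left (congrArg CommaMorphism.left hy)) (by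
      show _ ≫ pullback.snd _ _ ≫ D.T.hom = _
      rw [pullback.lift_snd_assoc, Over.w τ]), Over.OverMorphism.ext (pullback.lift_snd _ _ _)⟩
  obtain ⟨p₁, hp₁⟩ := mkP (B := R) 1 1 (by rw [MonObj.one_comp, MonObj.one_comp])
  let ε : A →ₐ[R] R := ptEquiv.symm p₁
  have hε : mor j ε ≫ univ j P = p₁ := by rw [← ptEquiv_apply, Equiv.apply_symm_apply]
  have key : ∀ a, ε a = 0 → a = 0 := by
    refine eq_zero_of_fibres ε fun p => ?_
    obtain ⟨algK, hq, hker⟩ := exists_algebra_geomPt (j := j) p
    letI := algK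
    let K := AlgebraicClosure (S.residueField (j p))
    refine ⟨K, inferInstance, algK, hker, fun a ha => ?_⟩
    let B := A ⊗[R] K
    let i₁ : A →ₐ[R] B := Algebra.TensorProduct.includeLeft
    let i₂ : A →ₐ[R] B := (Algebra.ofId R B).comp ε
    suffices i₁ = i₂ by
      have h2 := DFunLike.congr_fun this a
      rw [AlgHom.comp_apply, ha, map_zero] at h2
      exact h2
    refine ptEquiv.injective ((cancel_mono pT).1 ?_)
    have h3 : ∀ (f : A →ₐ[R] B), mor j f ≫ univ j P ≫ pT = 1 := fun f => by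
      let y : Sp j B ⟶ U' := mor j f ≫ univ j P ≫ pU
      obtain ⟨χ', hχ'⟩ := exists_tpt j (mor j f ≫ univ j P ≫ pT)
      have hy : (y ≫ u') ≫ h = (tpt D j χ' ≫ D.i) * 1 := by
        rw [_root_.mul_one, hχ']
        simp only [y, Category.assoc, hP]
      have h4 := torProj_eq hsub he hF φ hφ (one_mem _) hy
      have h5 : y ≫ u' ≫ torProj φ = 1 :=
        comp_eq_one_of_fibre (u' ≫ torProj φ) (hq ▸ (hfib _).1) (by rw [hq]; exact (hfib _).2)
          D.maximalTorus.2.2.1 (Algebra.TensorProduct.includeRight : K →ₐ[R] B) y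
      rw [← Category.assoc, h4] at h5
      rw [← hχ', h5]
    rw [ptEquiv_apply, ptEquiv_apply, Category.assoc, Category.assoc, h3, h3]
  have hid : AlgHom.id R A = (Algebra.ofId R A).comp ε := by
    refine AlgHom.ext fun a => sub_eq_zero.1 (key _ ?_)
    rw [AlgHom.id_apply, map_sub, AlgHom.comp_apply, Algebra.ofId_apply, AlgHom.commutes, Algebra.algebraMap_self,
      RingHom.id_apply, sub_self]
  have huniv : univ j P ≫ pT = 1 := by
    rw [← Category.id_comp (univ j P), ← mor_id, hid, mor_comp, Category.assoc (mor j _), hε, Category.assoc, hp₁,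
      MonObj.comp_one]
  obtain ⟨y, hy⟩ := mem_HP.1 hχ
  obtain ⟨p, hp⟩ := mkP y (tpt D j χ) hy
  obtain ⟨ψ, rfl⟩ := ptEquiv.surjective p
  rw [ptEquiv_apply, Category.assoc, huniv, MonObj.comp_one, ← tpt_one] at hp
  exact (Chart.tpt_injective j hp).symm

include ht hsub he hF hφ hfib in
/-- The torus part of a point of a normal subgroup without subtori is trivial. -/
theorem tor_eq_one (hn : AlgGrp.IsNormalHom u') {C : Type u} [CommRing C] [Algebra R C] (x : Sp j C ⟶ U')
    (χ : Multiplicative D.M →* C) (z : D.idx → C)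
    (hx : x ≫ u' ≫ h = (tpt D j χ ≫ D.i) * rootProd j D.u (List.ofFn e) z) : χ = 1 := by
  refine tor_mem_eq_one (j := j) hsub he hF φ hφ u' hfib ?_
  have h1 := mul_mem (mem_HP.2 ⟨x, hx⟩) (rootProd_inv_mem t ht hsub he u' hn x χ z hx)
  rwa [_root_.mul_assoc, mul_inv_cancel, _root_.mul_one] at h1

end Groth.L14.TypeR
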