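import Groth.Agent.L14.TypeR.LeviTor
import Groth.Agent.L14.TypeR.LeviComm
import Groth.Agent.L14.TypeR.UnipMax

/-!
A normal subgroup without subtori has trivial Levi part.
-/

set_option autoImplicit false
universe u

open CategoryTheory CategoryTheory.Limits AlgebraicGeometry MonoidalCategory CartesianMonoidalCategory MonObj
open Groth.L14.RankOne Groth.L25 Groth.L14.Chart Groth.L14.Chev.Cell
open scoped TensorProduct

set_option backward.isDefEq.respectTransparency.types false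
set_option linter.style.haveILetI false
set_option linter.unusedSectionVars false
set_option maxHeartbeats 2000000

noncomputable section

namespace Groth.L14.TypeR

/-- A map trivial on a fibre is trivial on points of algebras over the field. -/
theorem comp_eq_one_of_bc {S : Scheme.{u}} {X Y : Over S} [GrpObj Y] (p : X ⟶ Y) {R : Type u} [CommRing R]
    {j : Spec (CommRingCat.of R) ⟶ S} {K : Type u} [Field K] [Algebra R K]
    (h1 : (Over.pullback (qK j K)).map p = 1) {B : Type u} [CommRing B] [Algebra R B]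
    (f : K →ₐ[R] B) (x : Sp j B ⟶ X) : x ≫ p = 1 := by
  let Z : Over (Spec (CommRingCat.of K)) := Over.mk (Spec.map (CommRingCat.ofHom f.toRingHom))
  have hf : Spec.map (CommRingCat.ofHom f.toRingHom) ≫ qK j K = Spec.map (CommRingCat.ofHom (algebraMap R B)) ≫ j := by
    rw [qK, ← Category.assoc, ← Spec.map_comp, ← CommRingCat.ofHom_comp]
    exact congrArg (fun g => Spec.map (CommRingCat.ofHom g) ≫ j) f.comp_algebraMap
  let e₁ : Over.mk (Z.hom ≫ qK j K) ⟶ Sp j B :=
    Over.homMk (𝟙 _) ((Category.id_comp _).trans hf.symm)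
  let e₂ : Sp j B ⟶ Over.mk (Z.hom ≫ qK j K) :=
    Over.homMk (𝟙 _) ((Category.id_comp _).trans hf)
  have he : e₂ ≫ e₁ = 𝟙 _ := Over.OverMorphism.ext (Category.id_comp _)
  have h2 : e₁ ≫ x ≫ p = 1 := by
    have h3 : NilAction.ofBase (qK j K) (e₁ ≫ x) ≫ (Over.pullback (qK j K)).map p = 1 := by
      rw [h1, MonObj.comp_one]
    have h4 := congrArg (NilAction.toBase (qK j K)) h3
    rw [toBase_comp_map, NilAction.toBase_ofBase, NilAction.toBase_one, Category.assoc] at h4
    exact h4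
  rw [← Category.id_comp (x ≫ p), ← he, Category.assoc, h2, MonObj.comp_one]

variable {S : Scheme.{u}} [PreconnectedSpace S] [Nonempty S] {G H' H₁ : Over S} [GrpObj G] [GrpObj H'] [GrpObj H₁]
  {D : Red.SplitRed G} {R' : Set D.idx}
  (hcl : ∀ a b c : D.idx, a ∈ R' → b ∈ R' → D.P.root a + D.P.root b = D.P.root c → c ∈ R')
  {h' : H' ⟶ G} [IsMonHom h'] (hh' : IsImmersion h'.left) [Smooth H'.hom] [QuasiCompact H'.hom]
  (hconn' : RedSub.HasConnectedFibres H') (t' : D.T ⟶ H') (ht' : t' ≫ h' = D.i)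
  (hR' : ∀ a : D.idx, (∃ v : Red.Ga S ⟶ H', v ≫ h' = D.u a) ↔ a ∈ R')
  {h₁ : H₁ ⟶ G} [IsMonHom h₁] (hh₁ : IsImmersion h₁.left) [Smooth H₁.hom]
  (hconn₁ : RedSub.HasConnectedFibres H₁) (t₁ : D.T ⟶ H₁) (ht₁ : t₁ ≫ h₁ = D.i)
  (hR₁ : ∀ a : D.idx, (∃ v : Red.Ga S ⟶ H₁, v ≫ h₁ = D.u a) ↔ a ∈ symPart D R')
  {m : ℕ} {e : Fin m → D.idx} (he : RedSub.Enumerates (asymPart D R') e)
  (f₁ : H₁ ⟶ H') (hf₁ : f₁ ≫ h' = h₁) (q : H' ⟶ H₁) [IsMonHom q] (hq : f₁ ≫ q = 𝟙 H₁)
  (u₂ : RedSub.pow (Red.Ga S) m ⟶ H') (hu₂ : u₂ ≫ h' = spanMap D e)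
  (hdec : ∀ (Y : Over S) (a : Y ⟶ H'), ∃ w : Y ⟶ RedSub.pow (Red.Ga S) m,
    a ≫ h' = (a ≫ q ≫ h₁) * (w ≫ spanMap D e))
  {U' : Over S} [GrpObj U'] (u' : U' ⟶ H') [IsMonHom u'] [IsClosedImmersion u'.left]
  (hn : AlgGrp.IsNormalHom u') [Smooth U'.hom]

include hcl hh' hh₁ hconn₁ t' ht' ht₁ hR₁ he hf₁ hu₂ hdec hn in
/-- The Levi part of a point of a closed normal subgroup lies in it. -/
theorem levi_part_mem {R : Type u} [CommRing R] {j : Spec (CommRingCat.of R) ⟶ S} [IsOpenImmersion j]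
    {C : Type u} [CommRing C] [Algebra R C] (x : Sp j C ⟶ U') :
    ∃ p : Sp j C ⟶ U', p ≫ u' = x ≫ u' ≫ q ≫ f₁ := by
  classical
  haveI := hh'
  haveI := hh₁
  haveI : Mono h' := Over.mono_of_mono_left h'
  haveI : ∀ c, IsMonHom (D.u c) := fun c => (D.rootHom c).1
  haveI := isMonHom_i (D := D)
  obtain ⟨b, -⟩ := exists_base_of_noOpp (noOpp_asymPart hcl)
  obtain ⟨lam, hl0, hlp⟩ := exists_lam_levi hcl
  let Im : (X : Over S) → Subgroup (X ⟶ H') := fun X =>
    (MonoidHom.mk' (fun y : X ⟶ U' => y ≫ u') fun a c => MonObj.mul_comp a c u').range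
  have hconj : ∀ {X : Over S} (k a : X ⟶ H'), a ∈ Im X → k * a * k⁻¹ ∈ Im X := by
    rintro X k _ ⟨y, rfl⟩
    obtain ⟨y', hy'⟩ := hn X k y
    exact ⟨y', hy'.symm⟩
  obtain ⟨ω, hω⟩ := hdec _ (x ≫ u')
  obtain ⟨z, hz⟩ : ∃ z : D.idx → C, ω = tup m fun i => gp j (z (e i)) :=
    ⟨coordsOf e fun k => gv (ω ≫ proj _ m k), by simp only [coordsOf_apply he.1, gp_gv, tup_eta]⟩
  let L := LaurentPolynomial C
  let ι₁ : Polynomial C →ₐ[R] L := (Polynomial.toLaurentAlg).restrictScalars R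
  let ιC : C →ₐ[R] L := IsScalarTower.toAlgHom R C L
  let ev : Polynomial C →ₐ[R] C := (Polynomial.aeval (0 : C)).restrictScalars R
  let n : D.idx → ℕ := fun c => (lam (D.P.root c)).toNat
  let χL : Multiplicative D.M →* L :=
    { toFun := fun k => LaurentPolynomial.T (lam k.toAdd)
      map_one' := by rw [toAdd_one, map_zero, LaurentPolynomial.T_zero]
      map_mul' := fun k k' => by rw [toAdd_mul, map_add, LaurentPolynomial.T_add] }
  let yL : Sp j L ⟶ H' := mor j ιC ≫ x ≫ u' ≫ q ≫ f₁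
  let wL : Sp j L ⟶ H' := mor j ιC ≫ ω ≫ u₂
  let s : Sp j L ⟶ H' := tpt D j χL ≫ t'
  have hx : mor j ιC ≫ x ≫ u' = yL * wL := (cancel_mono h').1 (by
    simp only [yL, wL, MonObj.mul_comp, Category.assoc, hf₁, hu₂]
    simp only [← MonObj.comp_mul]
    rw [Category.assoc] at hω
    simp only [Category.assoc] at hω ⊢
    rw [hω])
  have hcomm : s * yL = yL * s := (cancel_mono h').1 (by
    simp only [MonObj.mul_comp, s, yL, Category.assoc, ht', hf₁]
    have := commute_of_roots hh₁ hconn₁ t₁ ht₁ hR₁ b (tpt D j χL) (fun a ha => tpt_char_eq_one χL a (by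
      show LaurentPolynomial.T (lam (D.P.root a)) = (1 : L)
      rw [hl0 a ha, LaurentPolynomial.T_zero])) (mor j ιC ≫ x ≫ u' ≫ q)
    simpa only [Category.assoc] using this.eq)
  have hc : s * wL * s⁻¹ * wL⁻¹ ∈ Im (Sp j L) := by
    have hxm : mor j ιC ≫ x ≫ u' ∈ Im (Sp j L) := ⟨mor j ιC ≫ x, Category.assoc (mor j ιC) x u'⟩
    have h := hconj yL⁻¹ _ (mul_mem (hconj s _ hxm) (inv_mem hxm))
    rw [hx] at h
    convert h using 1
    rw [inv_inv, show yL⁻¹ * (s * (yL * wL) * s⁻¹ * (yL * wL)⁻¹) * yL =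
      yL⁻¹ * (s * yL) * wL * s⁻¹ * wL⁻¹ by group, hcomm]
    group
  let w : Sp j (Polynomial C) ⟶ H' :=
    ((tup m fun i => gp j (Polynomial.X ^ n (e i) * Polynomial.C (z (e i)))) ≫ u₂) *
      (((tup m fun i => gp j (Polynomial.C (z (e i)))) ≫ u₂))⁻¹
  have hw : mor j ι₁ ≫ w = s * wL * s⁻¹ * wL⁻¹ := (cancel_mono h').1 (by
    simp only [w, wL, s, hz, MonObj.comp_mul, GrpObj.comp_inv, MonObj.mul_comp, GrpObj.inv_comp, Category.assoc,
      hu₂, ht']
    simp only [comp_prodMap, tup_proj]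
    rw [← rootProd_ofFn (x := fun c => Polynomial.X ^ n c * Polynomial.C (z c)),
      ← rootProd_ofFn (x := fun c => Polynomial.C (z c)), ← rootProd_ofFn (x := z),
      mor_rootProd, mor_rootProd, mor_rootProd, conj_rootProd j D.rootHom]
    congr 1
    · refine congrArg List.prod (List.map_congr_left fun c hc => ?_)
      have hc' : 0 ≤ lam (D.P.root c) := (hlp c ((mem_list_iff he c).1 hc)).le
      show gp j (Polynomial.toLaurent (Polynomial.X ^ n c * Polynomial.C (z c))) ≫ _ =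
        gp j (LaurentPolynomial.T (lam (D.P.root c)) * algebraMap C L (z c)) ≫ _
      rw [map_mul, Polynomial.toLaurent_X_pow, Polynomial.toLaurent_C, Int.toNat_of_nonneg hc']
      rfl
    · congr 1
      refine congrArg List.prod (List.map_congr_left fun c hc => ?_)
      show gp j (Polynomial.toLaurent (Polynomial.C (z c))) ≫ _ = gp j (algebraMap C L (z c)) ≫ _
      rw [Polynomial.toLaurent_C]
      rfl)
  obtain ⟨y₀, hy₀⟩ := hc
  obtain ⟨y, hy⟩ := exists_lift_of_injective u' ι₁ Polynomial.toLaurent_injective w ⟨y₀, by rw [hw]; exact hy₀⟩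
  have hev : mor j ev ≫ w = (ω ≫ u₂)⁻¹ := (cancel_mono h').1 (by
    simp only [w, hz, MonObj.comp_mul, GrpObj.comp_inv, MonObj.mul_comp, GrpObj.inv_comp, Category.assoc, hu₂]
    simp only [comp_prodMap, tup_proj]
    rw [← rootProd_ofFn (x := fun c => Polynomial.X ^ n c * Polynomial.C (z c)),
      ← rootProd_ofFn (x := fun c => Polynomial.C (z c)), ← rootProd_ofFn (x := z), mor_rootProd, mor_rootProd,
      rootProd_eq_one j fun c hc => by
        have hi : 0 < lam (D.P.root c) := hlp _ ((mem_list_iff he c).1 hc)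
        show Polynomial.aeval (0 : C) (Polynomial.X ^ n c * Polynomial.C (z c)) = 0
        rw [map_mul, map_pow, Polynomial.aeval_X, zero_pow (by show (lam (D.P.root c)).toNat ≠ 0; omega),
          zero_mul], _root_.one_mul]
    congr 2
    funext c
    simp [ev])
  have hxC : x ≫ u' = (x ≫ u' ≫ q ≫ f₁) * (ω ≫ u₂) := (cancel_mono h').1 (by
    simp only [MonObj.mul_comp, Category.assoc, hf₁, hu₂]
    simpa only [Category.assoc] using hω)
  refine ⟨x * (mor j ev ≫ y), ?_⟩
  rw [MonObj.mul_comp, Category.assoc, hy, hev, hxC, _root_.mul_assoc, mul_inv_cancel, _root_.mul_one]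

variable (hfib : ∀ s : S, ConnectedSpace (Red.geomFibre s U').left ∧
    Red.HasNoSubtorus (AlgebraicClosure (S.residueField s)) (Red.geomFibre s U'))

include hcl hh' hconn' ht' hR' hh₁ hconn₁ ht₁ hR₁ he hf₁ hq hu₂ hdec hn hfib in
/-- A normal subgroup without subtori has trivial Levi part. -/
theorem rad_proj_eq_one : u' ≫ q = 1 := by
  classical
  haveI := hh'
  haveI := hh₁
  haveI := isMonHom_i (D := D)
  obtain ⟨b, -⟩ := exists_base_of_noOpp (noOpp_asymPart hcl)
  let R₁ := symPart D R'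
  obtain ⟨n, en, hen⟩ := exists_enum (D := D) (R₁ ∩ RedSub.negRoots D.P b)
  obtain ⟨k, ep, hep⟩ := exists_enum (D := D) (R₁ ∩ RedSub.posRoots D.P b)
  obtain ⟨f₀, hf₀, hopen⟩ := exists_cell hh₁ hconn₁ t₁ ht₁ hR₁ hen hep
  haveI : Mono h₁ := Over.mono_of_mono_left h₁
  haveI : Mono h' := Over.mono_of_mono_left h'
  let N : Over S := Over.mk (pullback.snd u'.left f₁.left ≫ H₁.hom)
  let pN : N ⟶ H₁ := Over.homMk (pullback.snd u'.left f₁.left)
  let pU : N ⟶ U' := Over.homMk (pullback.fst u'.left f₁.left) (by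
    show _ = pullback.snd u'.left f₁.left ≫ H₁.hom
    rw [← Over.w f₁, ← pullback.condition_assoc, Over.w u'])
  haveI : IsClosedImmersion (pullback.snd u'.left f₁.left) := MorphismProperty.pullback_snd _ _ ‹_›
  haveI : IsClosedImmersion pN.left := ‹IsClosedImmersion (pullback.snd u'.left f₁.left)›
  haveI : Mono pN := Groth.L08.mono_of_closedImmersion pN
  have hN : pU ≫ u' ≫ q = pN := by
    have h1 : pU ≫ u' = pN ≫ f₁ := Over.OverMorphism.ext pullback.condition
    rw [reassoc_of% h1, hq, Category.comp_id]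
  have hbc : ∀ (R : Type u) [CommRing R] (j : Spec (CommRingCat.of R) ⟶ S) [IsOpenImmersion j] (p : PrimeSpectrum R),
      ∃ (K : Type u) (_ : Field K) (_ : Algebra R K), RingHom.ker (algebraMap R K) = p.asIdeal ∧
        qK j K (IsLocalRing.closedPoint K) = j p ∧ (Over.pullback (qK j K)).map pN = 1 := by
    intro R _ j _ p
    obtain ⟨algK, hqK, hker⟩ := exists_algebra_geomPt (j := j) p
    letI := algK
    let K := AlgebraicClosure (S.residueField (j p))
    refine ⟨K, inferInstance, algK, hker, ?_, ?_⟩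
    · have : (Red.geomPt (j p)) (IsLocalRing.closedPoint K) ∈ Set.range (S.fromSpecResidueField (j p)) :=
        ⟨_, (Scheme.Hom.comp_apply _ _ _).symm⟩
      rw [hqK]
      rwa [Scheme.range_fromSpecResidueField, Set.mem_singleton_iff] at this
    · have h1 := comp_proj_bc_eq_one hcl hh' hconn' t' ht' hR' hh₁ hconn₁ t₁ ht₁ hR₁ he q hdec u' hn (j := j) (K := K)
        (hqK ▸ (hfib _).1) (by rw [hqK]; exact (hfib _).2)
      rw [← hN, Functor.map_comp, h1, MonObj.comp_one]
  have horig : cellOrigin D n k ≫ f₀ = 1 := (cancel_mono h₁).1 (by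
    rw [Category.assoc, hf₀, cellOrigin_cellMap, MonObj.one_comp])
  have hr : Set.range pN.left ⊆ Set.range f₀.left := by
    rintro _ ⟨x, rfl⟩
    obtain ⟨R, _, j, _, hs⟩ := exists_open_chart (N.hom x)
    obtain ⟨p, hp⟩ := hs
    obtain ⟨K, _, _, -, hK, h1⟩ := hbc R j p
    obtain ⟨w, hw, -⟩ := Scheme.Pullback.exists_preimage_pullback (f := N.hom) (g := qK j K) x
      (IsLocalRing.closedPoint K) (by rw [hK, hp])
    let c : N ⟶ H₁ := toUnit N ≫ cellOrigin D n k ≫ f₀
    have hc : (Over.pullback (qK j K)).map c = 1 := by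
      simp only [c, horig, MonObj.comp_one]
      exact map_one (Functor.homMonoidHom (Over.pullback (qK j K)))
    have h2 : pullback.fst N.hom (qK j K) ≫ pN.left = pullback.fst N.hom (qK j K) ≫ c.left := by
      have := congrArg (fun (φ : Red.bc (qK j K) N ⟶ Red.bc (qK j K) H₁) => φ.left ≫ pullback.fst H₁.hom (qK j K))
        (h1.trans hc.symm)
      exact (pullback.lift_fst _ _ _).symm.trans (this.trans (pullback.lift_fst _ _ _))
    refine ⟨(toUnit N ≫ cellOrigin D n k).left x, ?_⟩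
    rw [← hw]
    show ((toUnit N ≫ cellOrigin D n k) ≫ f₀).left _ = _
    rw [Category.assoc, ← Scheme.Hom.comp_apply, ← Scheme.Hom.comp_apply, h2]
  let pc : N ⟶ cellSpace D n k := Over.homMk (IsOpenImmersion.lift f₀.left pN.left hr) (by
    rw [← Over.w f₀, IsOpenImmersion.lift_fac_assoc, Over.w pN])
  have hpc : pc ≫ f₀ = pN := Over.OverMorphism.ext (IsOpenImmersion.lift_fac _ _ _)
  haveI hcellA := (affSmooth_cell D n k).1
  haveI hcellS := (affSmooth_cell D n k).2
  haveI : IsClosedImmersion pc.left := by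
    haveI : IsClosedImmersion (pc.left ≫ f₀.left) := by rw [← Over.comp_left, hpc]; infer_instance
    exact IsClosedImmersion.of_comp pc.left f₀.left
  haveI : IsAffineHom N.hom := by rw [← Over.w pc]; exact inferInstanceAs (IsAffineHom (pc.left ≫ _))
  haveI : LocallyOfFiniteType N.hom := by rw [← Over.w pc]; exact inferInstanceAs (LocallyOfFiniteType (pc.left ≫ _))
  have mkN : ∀ {X : Over S} (y : X ⟶ U') (c : X ⟶ H₁), y ≫ u' = c ≫ f₁ → ∃ p : X ⟶ N, p ≫ pN = c :=
    fun y c hy => ⟨Over.homMk (pullback.lift y.left c.left (congrArg CommaMorphism.left hy)) (by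
      show _ ≫ pullback.snd _ _ ≫ H₁.hom = _
      rw [pullback.lift_snd_assoc, Over.w c]), Over.OverMorphism.ext (pullback.lift_snd _ _ _)⟩
  refine hom_ext_open fun R _ j _ C _ _ x => ?_
  let A : Type u := Crd j N
  haveI : Algebra.FiniteType R A := by
    haveI : LocallyOfFiniteType (pullback.snd N.hom j) := MorphismProperty.pullback_snd _ _ ‹_›
    have h1 : LocallyOfFiniteType (Spec.map (CommRingCat.ofHom (algebraMap R A))) := by
      rw [show Spec.map (CommRingCat.ofHom (algebraMap R A)) =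
          (pullback N.hom j).isoSpec.inv ≫ pullback.snd N.hom j by rw [Iso.eq_inv_comp, specMap_algebraMap_crd]]
      infer_instance
    exact RingHom.finiteType_algebraMap.1 ((HasRingHomProperty.Spec_iff (P := @LocallyOfFiniteType)).1 h1)
  haveI : IsMonHom f₁ := Groth.L25.Bridge.isMonHom_of_mul _ fun Y a c => (cancel_mono h').1 (by
    rw [Category.assoc, hf₁, MonObj.mul_comp, MonObj.mul_comp, Category.assoc, Category.assoc, hf₁])
  obtain ⟨p₁, hp₁⟩ := mkN (1 : Sp j R ⟶ U') 1 (by rw [MonObj.one_comp, MonObj.one_comp])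
  let ε : A →ₐ[R] R := ptEquiv.symm p₁
  have hε : mor j ε ≫ univ j N = p₁ := by rw [← ptEquiv_apply, Equiv.apply_symm_apply]
  have key : ∀ a, ε a = 0 → a = 0 := by
    refine eq_zero_of_fibres ε fun p => ?_
    obtain ⟨K, fK, algK, hker, -, h1⟩ := hbc R j p
    refine ⟨K, fK, algK, hker, fun a ha => ?_⟩
    let B := A ⊗[R] K
    let i₁ : A →ₐ[R] B := Algebra.TensorProduct.includeLeft
    let i₂ : A →ₐ[R] B := (Algebra.ofId R B).comp ε
    suffices i₁ = i₂ by
      have h2 := DFunLike.congr_fun this a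
      rw [AlgHom.comp_apply, ha, map_zero] at h2
      exact h2
    refine ptEquiv.injective ((cancel_mono pN).1 ?_)
    rw [ptEquiv_apply, ptEquiv_apply,
      comp_eq_one_of_bc pN h1 (Algebra.TensorProduct.includeRight : K →ₐ[R] B) (mor j i₁ ≫ univ j N),
      comp_eq_one_of_bc pN h1 (Algebra.TensorProduct.includeRight : K →ₐ[R] B) (mor j i₂ ≫ univ j N)]
  have hid : AlgHom.id R A = (Algebra.ofId R A).comp ε := by
    refine AlgHom.ext fun a => sub_eq_zero.1 (key _ ?_)
    rw [AlgHom.id_apply, map_sub, AlgHom.comp_apply, Algebra.ofId_apply, AlgHom.commutes, Algebra.algebraMap_self,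
      RingHom.id_apply, sub_self]
  have huniv : univ j N ≫ pN = 1 := by
    rw [← Category.id_comp (univ j N), ← mor_id, hid, mor_comp, Category.assoc (mor j _), hε, Category.assoc, hp₁,
      MonObj.comp_one]
  obtain ⟨p, hp⟩ := levi_part_mem hcl hh' t' ht' hh₁ hconn₁ t₁ ht₁ hR₁ he f₁ hf₁ q u₂ hu₂ hdec u' hn x
  obtain ⟨π, hπ⟩ := mkN p (x ≫ u' ≫ q) (by rw [hp]; simp only [Category.assoc])
  obtain ⟨ψ, rfl⟩ := ptEquiv.surjective π
  rw [ptEquiv_apply, Category.assoc, huniv, MonObj.comp_one] at hπ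
  rw [MonObj.comp_one]
  exact hπ.symm

end Groth.L14.TypeR
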