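import Groth.Agent.L14.TypeR.LeviProd
import Groth.Agent.L14.TypeR.LeviMax

/-!
The Levi decomposition of a subgroup of type (R) with closed roots.
-/

set_option autoImplicit false
universe u

open CategoryTheory CategoryTheory.Limits AlgebraicGeometry MonoidalCategory CartesianMonoidalCategory MonObj
open Groth.L14.RankOne Groth.L25 Groth.L14.Chart Groth.L14.Chev.Cell

set_option backward.isDefEq.respectTransparency.types false
set_option linter.style.haveILetI false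
set_option linter.unusedSectionVars false
set_option maxHeartbeats 1000000

noncomputable section

namespace Groth.L14.TypeR

variable {S : Scheme.{u}} [PreconnectedSpace S] [Nonempty S] {G H' H₁ : Over S} [GrpObj G] [GrpObj H'] [GrpObj H₁]
  {D : Red.SplitRed G} {R' : Set D.idx}
  (hcl : ∀ a b c : D.idx, a ∈ R' → b ∈ R' → D.P.root a + D.P.root b = D.P.root c → c ∈ R')
  {h' : H' ⟶ G} [IsMonHom h'] (hh' : IsImmersion h'.left) [Smooth H'.hom] [QuasiCompact H'.hom]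
  (hconn' : RedSub.HasConnectedFibres H') (t' : D.T ⟶ H') (ht' : t' ≫ h' = D.i)
  (hR' : ∀ a : D.idx, (∃ v : Red.Ga S ⟶ H', v ≫ h' = D.u a) ↔ a ∈ R')
  {h₁ : H₁ ⟶ G} [IsMonHom h₁] (hh₁ : IsImmersion h₁.left) [Smooth H₁.hom]
  (hconn₁ : RedSub.HasConnectedFibres H₁) (t₁ : D.T ⟶ H₁) (ht₁ : t₁ ≫ h₁ = D.i)
  (hR₁ : ∀ a : D.idx, (∃ v : Red.Ga S ⟶ H₁, v ≫ h₁ = D.u a) ↔ a ∈ symPart D R')
  (f₁ : H₁ ⟶ H') (hf₁ : f₁ ≫ h' = h₁)

include hcl hh' hconn' t' ht' hR' hh₁ hconn₁ t₁ ht₁ hR₁ hf₁ in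
/-- The Levi decomposition. -/
theorem exists_levi : ∃ (U₂ : Over S) (_ : GrpObj U₂) (u₂ : U₂ ⟶ H'), IsMonHom u₂ ∧ Par.IsUnipotentRadical u₂ ∧
    IsIso ((f₁ ⊗ₘ u₂) ≫ μ[H']) ∧
    (∀ {m : ℕ} (e : Fin m → D.idx), RedSub.Enumerates (asymPart D R') e →
      ∃ ψ : RedSub.pow (Red.Ga S) m ≅ U₂, ψ.hom ≫ u₂ ≫ h' = RedSub.prodMap (Red.Ga S) m (fun k => D.u (e k))) ∧
    ∀ (X : Over S) (x : X ⟶ U₂),
      (∀ (X' : Over S) (y : X' ⟶ X) (z : X' ⟶ H₁),
        (∃ z' : X' ⟶ H₁, (y ≫ x ≫ u₂ ≫ h') * (z ≫ h₁) * (y ≫ x ≫ u₂ ≫ h')⁻¹ = z' ≫ h₁) ∧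
        (∃ z' : X' ⟶ H₁, (y ≫ x ≫ u₂ ≫ h')⁻¹ * (z ≫ h₁) * (y ≫ x ≫ u₂ ≫ h') = z' ≫ h₁)) → x = 1 := by
  classical
  haveI := hh'
  haveI := hh₁
  haveI : Mono h' := Over.mono_of_mono_left h'
  haveI : Mono h₁ := Over.mono_of_mono_left h₁
  haveI : ∀ c, IsMonHom (D.u c) := fun c => (D.rootHom c).1
  have hno := noOpp_asymPart hcl
  obtain ⟨b, hb⟩ := exists_base_of_noOpp hno
  obtain ⟨lam, hl⟩ := hasLam b
  have hlam : ∀ a ∈ asymPart D R', 0 < lam (D.P.root a) := fun a ha => (hl a).1 (hb ha)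
  have hF := filt_of_closed hno.1 lam hlam
  obtain ⟨m, e, he⟩ := exists_enum (D := D) (asymPart D R')
  haveI hclI : ∀ {k : ℕ} {e' : Fin k → D.idx}, RedSub.Enumerates (asymPart D R') e' →
      IsClosedImmersion (spanMap D e').left := fun he' => isClosedImmersion_spanMap_of_base b hb he'
  haveI := hclI he
  haveI : Mono (spanMap D e) := by
    haveI : Mono (spanMap D e).left := inferInstance
    exact Over.mono_of_mono_left _
  obtain ⟨gU, hgU⟩ := exists_grpObj_span hF (n := 0) (e := e) (by simpa [Level] using he)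
  letI := gU
  haveI := hgU
  obtain ⟨u₂, hu₂⟩ := exists_span_hom hR' he
  haveI hum : IsMonHom u₂ := Groth.L25.Bridge.isMonHom_of_mul _ fun Y a c => (cancel_mono h').1 (by
    rw [Category.assoc, hu₂, MonObj.mul_comp, MonObj.mul_comp, Category.assoc, Category.assoc, hu₂])
  haveI : IsClosedImmersion u₂.left := by
    haveI : IsClosedImmersion (u₂.left ≫ h'.left) := by rw [← Over.comp_left, hu₂]; infer_instance
    haveI : IsSeparated h'.left := inferInstance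
    exact IsClosedImmersion.of_comp u₂.left h'.left
  haveI hiso := isIso_levi_mul hcl hh' hconn' t' ht' hR' hh₁ hconn₁ t₁ ht₁ hR₁ he f₁ hf₁ u₂ hu₂
  haveI hf₁m : IsMonHom f₁ := Groth.L25.Bridge.isMonHom_of_mul _ fun Y a c => (cancel_mono h').1 (by
    rw [Category.assoc, hf₁, MonObj.mul_comp, MonObj.mul_comp, Category.assoc, Category.assoc, hf₁])
  let θ : H₁ ⊗ RedSub.pow (Red.Ga S) m ⟶ H' := (f₁ ⊗ₘ u₂) ≫ μ[H']
  haveI : IsIso θ := hiso
  let q : H' ⟶ H₁ := inv θ ≫ fst _ _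
  let r : H' ⟶ RedSub.pow (Red.Ga S) m := inv θ ≫ snd _ _
  have hθ : ∀ {Y : Over S} (y : Y ⟶ H₁) (w : Y ⟶ RedSub.pow (Red.Ga S) m),
      lift y w ≫ θ = (y ≫ f₁) * (w ≫ u₂) := fun y w => by
    show lift y w ≫ (f₁ ⊗ₘ u₂) ≫ μ[H'] = _
    rw [MonObj.mul_eq_mul, MonObj.comp_mul, MonObj.comp_mul, tensorHom_fst, tensorHom_snd, lift_fst_assoc,
      lift_snd_assoc]
  have hproj : ∀ {Y : Over S} (y : Y ⟶ H₁) (w : Y ⟶ RedSub.pow (Red.Ga S) m),
      ((y ≫ f₁) * (w ≫ u₂)) ≫ q = y ∧ ((y ≫ f₁) * (w ≫ u₂)) ≫ r = w := fun y w => by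
    rw [← hθ y w]
    simp only [q, r, Category.assoc, IsIso.hom_inv_id_assoc, lift_fst, lift_snd, and_self]
  have hsplit : ∀ {Y : Over S} (a : Y ⟶ H'), a = (a ≫ q ≫ f₁) * (a ≫ r ≫ u₂) := fun {Y} a => by
    rw [← Category.assoc a q, ← Category.assoc a r, ← hθ]
    simp only [q, r, ← Category.assoc, ← comp_lift]
    simp
  have hq : f₁ ≫ q = 𝟙 H₁ := by
    have := (hproj (𝟙 H₁) (1 : H₁ ⟶ RedSub.pow (Red.Ga S) m)).1
    rwa [MonObj.one_comp, _root_.mul_one, Category.id_comp] at this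
  have hnrm : ∀ (Y : Over S) (a : Y ⟶ H') (w : Y ⟶ RedSub.pow (Red.Ga S) m),
      ∃ w', a * (w ≫ u₂) * a⁻¹ = w' ≫ u₂ := fun Y a w => by
    obtain ⟨w', hw'⟩ := levi_normalises hcl hh' hconn' t' ht' hR' he Y a w
    refine ⟨w', (cancel_mono h').1 ?_⟩
    rw [MonObj.mul_comp, MonObj.mul_comp, GrpObj.inv_comp, Category.assoc, Category.assoc, hu₂]
    exact hw'
  haveI hqm : IsMonHom q := Groth.L25.Bridge.isMonHom_of_mul _ fun Y a c => by
    obtain ⟨w', hw'⟩ := hnrm Y ((c ≫ q) ≫ f₁)⁻¹ (a ≫ r)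
    rw [inv_inv] at hw'
    have e1 : a * c = (((a ≫ q) * (c ≫ q)) ≫ f₁) * ((w' * (c ≫ r)) ≫ u₂) := by
      conv_lhs => rw [hsplit a, hsplit c]
      rw [MonObj.mul_comp, MonObj.mul_comp, ← hw']
      simp only [Category.assoc]
      group
    rw [e1, (hproj _ _).1]
  have hdec : ∀ (Y : Over S) (a : Y ⟶ H'), ∃ w : Y ⟶ RedSub.pow (Red.Ga S) m,
      a ≫ h' = (a ≫ q ≫ h₁) * (w ≫ spanMap D e) := fun Y a => ⟨a ≫ r, by
    conv_lhs => rw [hsplit a]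
    rw [MonObj.mul_comp]
    simp only [Category.assoc, hf₁, hu₂]⟩
  have hU := (affSmooth_ga (S := S)).pow m
  haveI := hU.1
  haveI := hU.2
  have hns : ∀ s : S, Red.HasNoSubtorus (AlgebraicClosure (S.residueField s))
      (Red.geomFibre s (RedSub.pow (Red.Ga S) m)) := fun s => hasNoSubtorus_span lam hlam hF he s
  refine ⟨_, gU, u₂, hum, ⟨hum, ‹_›, fun Y a w => ?_, hU.2, inferInstance,
    fun s => ⟨connectedSpace_pow (Red.geomPt s) m, hns s⟩, ?_⟩, hiso, ?_, ?_⟩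
  · obtain ⟨w', hw'⟩ := hnrm Y a w
    exact ⟨w', hw'⟩
  · intro U' _ u' _ hu'c hn' hs' _ hfib'
    haveI := hu'c
    haveI := hs'
    have h1 := rad_proj_eq_one hcl hh' hconn' t' ht' hR' hh₁ hconn₁ t₁ ht₁ hR₁ he f₁ hf₁ q hq u₂ hu₂ hdec u' hn' hfib'
    refine ⟨u' ≫ r, ?_⟩
    conv_rhs => rw [hsplit u', reassoc_of% h1, MonObj.one_comp, _root_.one_mul]
    rw [Category.assoc]
  · intro k e' he'
    haveI := hclI he'
    haveI : Mono (spanMap D e') := by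
      haveI : Mono (spanMap D e').left := inferInstance
      exact Over.mono_of_mono_left _
    obtain ⟨w₁, hw₁⟩ := exists_lift_of_pts (spanMap D e) (spanMap D e') fun R _ j _ C _ _ τ =>
      (mem_gen_span_iff hF he).1 ((mem_gen_span_iff hF he').2 ⟨τ, rfl⟩)
    obtain ⟨w₂, hw₂⟩ := exists_lift_of_pts (spanMap D e') (spanMap D e) fun R _ j _ C _ _ τ =>
      (mem_gen_span_iff hF he').1 ((mem_gen_span_iff hF he).2 ⟨τ, rfl⟩)
    refine ⟨⟨w₁, w₂, (cancel_mono (spanMap D e')).1 (by rw [Category.assoc, hw₂, hw₁, Category.id_comp]),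
      (cancel_mono (spanMap D e)).1 (by rw [Category.assoc, hw₁, hw₂, Category.id_comp])⟩, ?_⟩
    rw [hu₂]
    exact hw₁
  · intro X x hn
    refine (cancel_mono (spanMap D e)).1 ?_
    rw [MonObj.one_comp]
    refine span_normalizer_trivial hcl hh₁ hconn₁ t₁ ht₁ hR₁ he X x fun X' y z => ?_
    have := (hn X' y z).1
    rwa [hu₂] at this

end Groth.L14.TypeR
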