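import Groth.Agent.L14.TypeR.UnipPts
import Mathlib.Algebra.Polynomial.Laurent

/-!
A normal subgroup stable under a contracting torus contains the unipotent parts of its points.
-/

set_option autoImplicit false
universe u

open CategoryTheory CategoryTheory.Limits AlgebraicGeometry MonoidalCategory CartesianMonoidalCategory MonObj
open Groth.L14.RankOne Groth.L25 Groth.L14.Chart Groth.L14.Chev.Cell

set_option backward.isDefEq.respectTransparency.types false
set_option linter.style.haveILetI false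
set_option linter.unusedSectionVars false
set_option maxHeartbeats 1000000

noncomputable section

namespace Groth.L14.TypeR

variable {S : Scheme.{u}} {G H : Over S} [GrpObj G] [GrpObj H] {R : Type u} [CommRing R]
  {j : Spec (CommRingCat.of R) ⟶ S} {C : Type u} [CommRing C] [Algebra R C]

/-- Membership in a closed subscheme descends along injective algebra maps. -/
theorem exists_lift_of_injective {X Y : Over S} (f : X ⟶ Y) [IsClosedImmersion f.left] {C' : Type u} [CommRing C']
    [Algebra R C'] (ι₁ : C →ₐ[R] C') (hι : Function.Injective ι₁) (g : Sp j C ⟶ Y)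
    (hg : ∃ y : Sp j C' ⟶ X, y ≫ f = mor j ι₁ ≫ g) : ∃ y : Sp j C ⟶ X, y ≫ f = g := by
  obtain ⟨y, hy⟩ := hg
  let q : pullback f.left g.left ⟶ Spec (CommRingCat.of C) := pullback.snd f.left g.left
  haveI : IsClosedImmersion q := MorphismProperty.pullback_snd _ _ ‹_›
  obtain ⟨I, e, he⟩ := IsClosedImmersion.Spec_iff.1 ‹IsClosedImmersion q›
  let l : Spec (CommRingCat.of C') ⟶ pullback f.left g.left :=
    pullback.lift y.left (Spec.map (CommRingCat.ofHom ι₁.toRingHom)) (congrArg CommaMorphism.left hy)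
  have hl : l ≫ q = Spec.map (CommRingCat.ofHom ι₁.toRingHom) := pullback.lift_snd _ _ _
  rw [he, ← Category.assoc] at hl
  have h1 : CommRingCat.ofHom (Ideal.Quotient.mk I) ≫ Spec.preimage (l ≫ e.hom) = CommRingCat.ofHom ι₁.toRingHom :=
    Spec.map_injective (by rw [Spec.map_comp, Spec.map_preimage]; exact hl)
  have hI : ∀ x ∈ I, x = 0 := fun x hx => hι (by
    have := congrArg (fun φ => φ.hom x) h1
    simp only [CommRingCat.hom_comp, CommRingCat.hom_ofHom, RingHom.comp_apply,
      Ideal.Quotient.eq_zero_iff_mem.2 hx, map_zero] at this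
    rw [map_zero]; exact this.symm)
  haveI : IsIso (CommRingCat.ofHom (Ideal.Quotient.mk I)) :=
    (ConcreteCategory.isIso_iff_bijective _).2
      ⟨fun a c hac => sub_eq_zero.1 (hI _ (Ideal.Quotient.eq.1 hac)), Ideal.Quotient.mk_surjective⟩
  haveI : IsIso q := by rw [he]; infer_instance
  refine ⟨Over.homMk (inv q ≫ pullback.fst f.left g.left) ?_, Over.OverMorphism.ext ?_⟩
  · rw [← Over.w f, Category.assoc, pullback.condition_assoc, IsIso.inv_hom_id_assoc, Over.w g]
  · show (inv q ≫ pullback.fst f.left g.left) ≫ f.left = g.left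
    rw [Category.assoc, pullback.condition, IsIso.inv_hom_id_assoc]

variable [IsOpenImmersion j] {D : Red.SplitRed G} {h : H ⟶ G} [IsMonHom h] {b : D.P.Base} {R' : Set D.idx}
  {m : ℕ} {e : Fin m → D.idx} (t : D.T ⟶ H) (ht : t ≫ h = D.i)
  (hsub : R' ⊆ RedSub.posRoots D.P b) (he : RedSub.Enumerates R' e)
  {U' : Over S} [GrpObj U'] (u' : U' ⟶ H) [IsMonHom u']

include ht hsub he in
/-- The unipotent part of a point of a closed normal subgroup lies in it. -/
theorem rootProd_inv_mem [IsClosedImmersion (u' ≫ h).left] (hn : AlgGrp.IsNormalHom u') (x : Sp j C ⟶ U')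
    (χ : Multiplicative D.M →* C) (z : D.idx → C)
    (hx : x ≫ u' ≫ h = (tpt D j χ ≫ D.i) * rootProd j D.u (List.ofFn e) z) :
    (rootProd j D.u (List.ofFn e) z)⁻¹ ∈ HP j C (u' ≫ h) := by
  classical
  haveI : ∀ c, IsMonHom (D.u c) := fun c => (D.rootHom c).1
  haveI := isMonHom_i (D := D)
  obtain ⟨lam, hl⟩ := hasLam b
  let n : D.idx → ℕ := fun c => (lam (D.P.root c)).toNat
  let L := LaurentPolynomial C
  let ι₁ : Polynomial C →ₐ[R] L := (Polynomial.toLaurentAlg).restrictScalars R
  let ιC : C →ₐ[R] L := IsScalarTower.toAlgHom R C L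
  let ev : Polynomial C →ₐ[R] C := (Polynomial.aeval (0 : C)).restrictScalars R
  let χL : Multiplicative D.M →* L :=
    { toFun := fun k => LaurentPolynomial.T (lam k.toAdd)
      map_one' := by rw [toAdd_one, map_zero, LaurentPolynomial.T_zero]
      map_mul' := fun k k' => by rw [toAdd_mul, map_add, LaurentPolynomial.T_add] }
  let χ' : Multiplicative D.M →* L := (ιC : C →* L).comp χ
  let Tc : Sp j L ⟶ G := tpt D j χ' ≫ D.i
  let s : Sp j L ⟶ G := tpt D j χL ≫ D.i
  let u₁ : Sp j L ⟶ G := rootProd j D.u (List.ofFn e) (ιC ∘ z)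
  have hTs : s * Tc = Tc * s := by
    rw [← MonObj.mul_comp, ← MonObj.mul_comp, ← tpt_mul, ← tpt_mul, mul_comm]
  have hg : Tc * u₁ ∈ HP j L (u' ≫ h) := by
    refine mem_HP.2 ⟨mor j ιC ≫ x, ?_⟩
    rw [Category.assoc, hx, MonObj.comp_mul, ← Category.assoc, mor_tpt, mor_rootProd]
    rfl
  have hconj : ∀ (k : Sp j L ⟶ H) (g : Sp j L ⟶ G), g ∈ HP j L (u' ≫ h) →
      (k ≫ h) * g * (k ≫ h)⁻¹ ∈ HP j L (u' ≫ h) := by
    rintro k g ⟨y, rfl⟩
    obtain ⟨y', hy'⟩ := hn _ k y
    refine mem_HP.2 ⟨y', ?_⟩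
    show y' ≫ u' ≫ h = _ * (y ≫ u' ≫ h) * _
    rw [← Category.assoc, ← hy', MonObj.mul_comp, MonObj.mul_comp, GrpObj.inv_comp, Category.assoc]
  have hs : s * (Tc * u₁) * s⁻¹ * (Tc * u₁)⁻¹ ∈ HP j L (u' ≫ h) := by
    refine mul_mem ?_ (inv_mem hg)
    have := hconj (tpt D j χL ≫ t) _ hg
    rwa [Category.assoc, ht] at this
  have hu : s * u₁ * s⁻¹ * u₁⁻¹ ∈ HP j L (u' ≫ h) := by
    have := hconj (tpt D j χ' ≫ t)⁻¹ _ hs
    rw [GrpObj.inv_comp, Category.assoc, ht] at this
    convert this using 1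
    rw [show tpt D j χ' ≫ D.i = Tc from rfl, ← _root_.mul_assoc s Tc, hTs]
    group
  let w : Sp j (Polynomial C) ⟶ G :=
    rootProd j D.u (List.ofFn e) (fun c => Polynomial.X ^ n c * Polynomial.C (z c)) *
      (rootProd j D.u (List.ofFn e) fun c => Polynomial.C (z c))⁻¹
  have hw : mor j ι₁ ≫ w = s * u₁ * s⁻¹ * u₁⁻¹ := by
    rw [MonObj.comp_mul, GrpObj.comp_inv, mor_rootProd, mor_rootProd, conj_rootProd j D.rootHom]
    congr 1
    · refine congrArg List.prod (List.map_congr_left fun c hc => ?_)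
      have hc' : 0 ≤ lam (D.P.root c) := ((hl c).1 (hsub ((mem_list_iff he c).1 hc))).le
      show gp j (Polynomial.toLaurent (Polynomial.X ^ n c * Polynomial.C (z c))) ≫ _ =
        gp j (LaurentPolynomial.T (lam (D.P.root c)) * algebraMap C L (z c)) ≫ _
      rw [map_mul, Polynomial.toLaurent_X_pow, Polynomial.toLaurent_C, Int.toNat_of_nonneg hc']
      rfl
    · congr 1
      refine congrArg List.prod (List.map_congr_left fun c hc => ?_)
      show gp j (Polynomial.toLaurent (Polynomial.C (z c))) ≫ _ = gp j (algebraMap C L (z c)) ≫ _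
      rw [Polynomial.toLaurent_C]
      rfl
  obtain ⟨y, hy⟩ := exists_lift_of_injective (u' ≫ h) ι₁ Polynomial.toLaurent_injective w
    (hw ▸ mem_HP.1 hu)
  refine mem_HP.2 ⟨mor j ev ≫ y, ?_⟩
  rw [Category.assoc, hy, MonObj.comp_mul, GrpObj.comp_inv, mor_rootProd, mor_rootProd,
    rootProd_eq_one j fun c hc => by
      have hc' : 0 < lam (D.P.root c) := (hl c).1 (hsub ((mem_list_iff he c).1 hc))
      show Polynomial.aeval (0 : C) (Polynomial.X ^ n c * Polynomial.C (z c)) = 0
      rw [map_mul, map_pow, Polynomial.aeval_X, zero_pow (by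
        show (lam (D.P.root c)).toNat ≠ 0
        omega), zero_mul],
    _root_.one_mul, show (fun c => ev (Polynomial.C (z c))) = z from funext fun c => by simp [ev]]

end Groth.L14.TypeR
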