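import Groth.Agent.L14.TypeR.UnipPts
import Groth.Agent.L14.TypeR.UnipDesc

/-!
Points of a subgroup with positive roots normalising another subgroup containing the torus.
-/

set_option autoImplicit false
universe u

open CategoryTheory CategoryTheory.Limits AlgebraicGeometry MonoidalCategory CartesianMonoidalCategory MonObj
open Groth.L14.RankOne Groth.L25 Groth.L14.Chart Groth.L14.Chev.Cell

set_option backward.isDefEq.respectTransparency.types false
set_option linter.style.haveILetI false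
set_option linter.unusedSectionVars false
set_option maxHeartbeats 1000000

noncomputable section

namespace Groth.L14.TypeR

variable {S : Scheme.{u}}

/-- A morphism factors through a monomorphism as soon as its points over affine opens of the base do. -/
theorem exists_lift_of_pts {X B Y : Over S} (i : B ⟶ Y) [Mono i] (f : X ⟶ Y)
    (h : ∀ (R : Type u) [CommRing R] (j : Spec (CommRingCat.of R) ⟶ S) [IsOpenImmersion j] (C : Type u) [CommRing C]
      [Algebra R C] (τ : Sp j C ⟶ X), ∃ t : Sp j C ⟶ B, t ≫ i = τ ≫ f) : ∃ w : X ⟶ B, w ≫ i = f := by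
  let 𝒰 := S.affineOpenCover
  let P := pullback f.left i.left
  let p : P ⟶ X.left := pullback.fst f.left i.left
  haveI : IsIso p := by
    refine IsZariskiLocalAtTarget.of_openCover (P := MorphismProperty.isomorphisms Scheme)
      ((𝒰.openCover.pullback₁ X.hom).bind fun k => (pullback X.hom (𝒰.f k)).affineOpenCover.openCover)
      fun ⟨k, l⟩ => ?_
    haveI : IsOpenImmersion (𝒰.f k) := 𝒰.map_prop k
    let R : Type u := 𝒰.X k
    let j : Spec (CommRingCat.of R) ⟶ S := 𝒰.f k
    let C : Type u := (pullback X.hom (𝒰.f k)).affineOpenCover.X l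
    let c : Spec (CommRingCat.of C) ⟶ pullback X.hom (𝒰.f k) := (pullback X.hom (𝒰.f k)).affineOpenCover.f l
    letI : Algebra R C := (Spec.preimage (c ≫ pullback.snd X.hom (𝒰.f k))).hom.toAlgebra
    have hc : Spec.map (CommRingCat.ofHom (algebraMap R C)) = c ≫ pullback.snd X.hom (𝒰.f k) :=
      Spec.map_preimage _
    let τ : Sp j C ⟶ X := Over.homMk (c ≫ pullback.fst X.hom (𝒰.f k)) (by
      simp only [Over.mk_hom, Category.assoc, pullback.condition, hc]; rfl)
    obtain ⟨t, ht⟩ := h R j C τ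
    show IsIso (pullback.snd p (c ≫ pullback.fst X.hom (𝒰.f k)))
    let s : Spec (CommRingCat.of C) ⟶ P :=
      pullback.lift (c ≫ pullback.fst X.hom (𝒰.f k)) t.left (congrArg CommaMorphism.left ht).symm
    let sec : Spec (CommRingCat.of C) ⟶ pullback p (c ≫ pullback.fst X.hom (𝒰.f k)) :=
      pullback.lift s (𝟙 _) (by rw [Category.id_comp]; exact pullback.lift_fst _ _ _)
    haveI : IsSplitEpi (pullback.snd p (c ≫ pullback.fst X.hom (𝒰.f k))) := ⟨⟨⟨sec, pullback.lift_snd _ _ _⟩⟩⟩
    haveI : Mono p := by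
      refine ⟨fun a a' e => pullback.hom_ext e ?_⟩
      let a₁ : Over.mk (a ≫ p ≫ X.hom) ⟶ B := Over.homMk (a ≫ pullback.snd f.left i.left) (by
        show (a ≫ _) ≫ B.hom = a ≫ p ≫ X.hom
        rw [Category.assoc, ← Over.w i, ← pullback.condition_assoc, Over.w f])
      let a₂ : Over.mk (a ≫ p ≫ X.hom) ⟶ B := Over.homMk (a' ≫ pullback.snd f.left i.left) (by
        show (a' ≫ _) ≫ B.hom = a ≫ p ≫ X.hom
        rw [Category.assoc, ← Over.w i, ← pullback.condition_assoc, Over.w f, reassoc_of% e])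
      have hee : a₁ ≫ i = a₂ ≫ i := Over.OverMorphism.ext (by
        show (a ≫ _) ≫ i.left = (a' ≫ _) ≫ i.left
        rw [Category.assoc, Category.assoc, ← pullback.condition, reassoc_of% e])
      exact congrArg CommaMorphism.left ((cancel_mono i).1 hee)
    exact isIso_of_mono_of_isSplitEpi _
  refine ⟨Over.homMk (inv p ≫ pullback.snd f.left i.left) ?_, Over.OverMorphism.ext ?_⟩
  · rw [Category.assoc, ← Over.w i, ← pullback.condition_assoc, Over.w f, IsIso.inv_hom_id_assoc]
  · simp only [Over.comp_left, Over.homMk_left, Category.assoc]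
    rw [← pullback.condition, IsIso.inv_hom_id_assoc]

variable {G H H'' : Over S} [GrpObj G] [GrpObj H] [GrpObj H''] [Smooth H.hom] {D : Red.SplitRed G} {h : H ⟶ G} [IsMonHom h]
  {h'' : H'' ⟶ G} [IsMonHom h''] {b : D.P.Base} {R' : Set D.idx} {m : ℕ} {e : Fin m → D.idx}
  (hh'' : IsImmersion h''.left) [Smooth H''.hom] (hconn'' : RedSub.HasConnectedFibres H'')
  (t'' : D.T ⟶ H'') (ht'' : t'' ≫ h'' = D.i) {R'' : Set D.idx}
  (hR'' : ∀ a : D.idx, (∃ v : Red.Ga S ⟶ H'', v ≫ h'' = D.u a) ↔ a ∈ R'')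
  (hsub : R' ⊆ RedSub.posRoots D.P b) (he : RedSub.Enumerates R' e)
  {R : Type u} [CommRing R] {j : Spec (CommRingCat.of R) ⟶ S} [IsOpenImmersion j] {C : Type u} [CommRing C]
  [Algebra R C]

include hh'' hconn'' ht'' hR'' hsub he in
/-- A normalising point has no coordinates outside the roots of the normalised subgroup. -/
theorem coords_zero_of_normalises [PreconnectedSpace S] [Nonempty S] (z : D.idx → C)
    (hn : ∀ (L : Type u) [CommRing L] [Algebra R L] (ι₁ : C →ₐ[R] L) (g : Sp j L ⟶ G), g ∈ HP j L h'' →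
      rootProd j D.u (List.ofFn e) (ι₁ ∘ z) * g * (rootProd j D.u (List.ofFn e) (ι₁ ∘ z))⁻¹ ∈ HP j L h'') :
    ∀ c ∈ R', c ∉ R'' → z c = 0 := by
  classical
  haveI : ∀ c, IsMonHom (D.u c) := fun c => (D.rootHom c).1
  haveI := isMonHom_i (D := D)
  obtain ⟨lam, hl⟩ := hasLam b
  let n : D.idx → ℕ := fun c => (lam (D.P.root c)).toNat
  let L := LaurentPolynomial C
  let ι₁ : Polynomial C →ₐ[R] L := (Polynomial.toLaurentAlg).restrictScalars R
  let ιC : C →ₐ[R] L := IsScalarTower.toAlgHom R C L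
  let ev : Polynomial C →ₐ[R] C := (Polynomial.aeval (0 : C)).restrictScalars R
  let χL : Multiplicative D.M →* L :=
    { toFun := fun k => LaurentPolynomial.T (lam k.toAdd)
      map_one' := by rw [toAdd_one, map_zero, LaurentPolynomial.T_zero]
      map_mul' := fun k k' => by rw [toAdd_mul, map_add, LaurentPolynomial.T_add] }
  let s : Sp j L ⟶ G := tpt D j χL ≫ D.i
  let u₁ : Sp j L ⟶ G := rootProd j D.u (List.ofFn e) (ιC ∘ z)
  have hs : s ∈ HP j L h'' := torus_mem t'' ht'' χL
  have hmem : u₁ * (s * u₁ * s⁻¹)⁻¹ ∈ HP j L h'' := by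
    have := mul_mem (hn L ιC s hs) (inv_mem hs)
    convert this using 1
    simp only [u₁]
    group
  let w : Sp j (Polynomial C) ⟶ G :=
    (rootProd j D.u (List.ofFn e) fun c => Polynomial.C (z c)) *
      (rootProd j D.u (List.ofFn e) fun c => Polynomial.X ^ n c * Polynomial.C (z c))⁻¹
  have hw : mor j ι₁ ≫ w = u₁ * (s * u₁ * s⁻¹)⁻¹ := by
    rw [MonObj.comp_mul, GrpObj.comp_inv, mor_rootProd, mor_rootProd, conj_rootProd j D.rootHom]
    congr 1
    · refine congrArg List.prod (List.map_congr_left fun c hc => ?_)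
      show gp j (Polynomial.toLaurent (Polynomial.C (z c))) ≫ _ = gp j (algebraMap C L (z c)) ≫ _
      rw [Polynomial.toLaurent_C]
      rfl
    · congr 1
      refine congrArg List.prod (List.map_congr_left fun c hc => ?_)
      have hc' : 0 ≤ lam (D.P.root c) := ((hl c).1 (hsub ((mem_list_iff he c).1 hc))).le
      show gp j (Polynomial.toLaurent (Polynomial.X ^ n c * Polynomial.C (z c))) ≫ _ =
        gp j (LaurentPolynomial.T (lam (D.P.root c)) * algebraMap C L (z c)) ≫ _
      rw [map_mul, Polynomial.toLaurent_X_pow, Polynomial.toLaurent_C, Int.toNat_of_nonneg hc']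
      rfl
  obtain ⟨N, en, hen⟩ := exists_enum (D := D) (RedSub.negRoots D.P b)
  obtain ⟨l, ep', hep'⟩ := exists_enum (D := D) (RedSub.posRoots D.P b \ R')
  have hE : RedSub.Enumerates (RedSub.posRoots D.P b) (Fin.append e ep') :=
    enum_append he hep' (fun a ha hb => hb.2 ha) (Set.union_sdiff_cancel hsub)
  have hF := filt_of_closed (closed_posRoots b) lam fun a ha => (hl a).1 ha
  have hgen : w ∈ gen j (Polynomial C) D.u (RedSub.posRoots D.P b) (fun c => (lam (D.P.root c)).natAbs) 0 :=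
    mul_mem (rootProd_mem_gen_pos hsub he _) (inv_mem (rootProd_mem_gen_pos hsub he _))
  obtain ⟨y, hy⟩ := (mem_gen_iff D.rootHom hF (nodup_list hE) (mem_list_iff hE)).1 hgen
  have hy0 : ∀ c ∈ RedSub.posRoots D.P b, c ∉ R'' → y c = 0 := by
    intro c hc hcR
    refine Polynomial.toLaurent_injective ((?_ : ι₁ (y c) = 0).trans (map_zero _).symm)
    let x : D.idx → L := fun a => if a ∈ RedSub.posRoots D.P b then ι₁ (y a) else 0
    have hx : chart j D.u (cellList en (Fin.append e ep')) (co1 x) = u₁ * (s * u₁ * s⁻¹)⁻¹ := by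
      rw [chart_one_tor, rootProd, List.map_append, List.prod_append]
      rw [show ((List.ofFn en).map fun a => gp j (x a) ≫ D.u a).prod = 1 from List.prod_eq_one fun g hg => by
        obtain ⟨a, ha, rfl⟩ := List.mem_map.1 hg
        rw [show x a = 0 from if_neg fun hp => by
          have := (hl a).1 hp
          have := (hl a).2 ((mem_list_iff hen a).1 ha)
          omega, gp_zero, MonObj.one_comp], _root_.one_mul]
      rw [← hw, ← hy, mor_rootProd]
      refine congrArg List.prod (List.map_congr_left fun a ha => ?_)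
      rw [show x a = ι₁ (y a) from if_pos ((mem_list_iff hE a).1 ha)]
    have := cell_roots hen hE hh'' hconn'' t'' ht'' (co1 x) (hx ▸ hmem) c fun hc' =>
      hcR ((hR'' c).1 ((mem_tanRoots_iff hen hE hh'' t'' ht'' c).2 hc'))
    simpa [x, co1, hc] using this
  intro c hc hcR
  have h1 : rootProd j D.u (List.ofFn (Fin.append e ep')) (ev ∘ y) =
      rootProd j D.u (List.ofFn (Fin.append e ep')) (fun a => if a ∈ R' then z a else 0) := by
    rw [show rootProd j D.u (List.ofFn (Fin.append e ep')) (ev ∘ y) =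
      mor j ev ≫ rootProd j D.u (List.ofFn (Fin.append e ep')) y from (mor_rootProd j ev _ _).symm, hy, MonObj.comp_mul, GrpObj.comp_inv, mor_rootProd, mor_rootProd]
    rw [rootProd_eq_one j (l := List.ofFn e) (x := fun a => ev (Polynomial.X ^ n a * Polynomial.C (z a))) fun a ha => by
      have hc' : 0 < lam (D.P.root a) := (hl a).1 (hsub ((mem_list_iff he a).1 ha))
      show Polynomial.aeval (0 : C) (Polynomial.X ^ n a * Polynomial.C (z a)) = 0
      rw [map_mul, map_pow, Polynomial.aeval_X, zero_pow (by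
        show (lam (D.P.root a)).toNat ≠ 0
        omega), zero_mul]]
    rw [inv_one, _root_.mul_one, rootProd_ofFn, rootProd_ofFn, ofFn_prod_append]
    simp only [Fin.append_left, Fin.append_right]
    rw [show (List.ofFn fun i => gp j (if ep' i ∈ R' then z (ep' i) else 0) ≫ D.u (ep' i)).prod = 1 from
      List.prod_eq_one fun g hg => by
        obtain ⟨i, rfl⟩ := List.mem_ofFn.1 hg
        rw [if_neg (hep'.2 ▸ Set.mem_range_self i : ep' i ∈ RedSub.posRoots D.P b \ R').2, gp_zero, MonObj.one_comp],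
      _root_.mul_one]
    refine congrArg List.prod (congrArg List.ofFn (funext fun i => ?_))
    rw [if_pos (he.2 ▸ Set.mem_range_self i : e i ∈ R')]
    simp [ev]
  have h2 := rootProd_injective_of_pos D.rootHom (mu := lam) (nodup_list hE)
    (fun a ha => (hl a).1 ((mem_list_iff hE a).1 ha)) h1 c ((mem_list_iff hE c).2 (hsub hc))
  rw [Function.comp_apply, hy0 c (hsub hc) hcR, map_zero, if_pos hc] at h2
  exact h2.symm

variable (φ : D.T ⊗ RedSub.pow (Red.Ga S) m ≅ H) (hφ : φ.hom ≫ h = RedSub.borelMap D e)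
  {K : Over S} [GrpObj K] (kG : K ⟶ G) [IsMonHom kG] (tK : D.T ⟶ K) (htK : tK ≫ kG = D.i)

include hh'' hconn'' ht'' hR'' hsub he hφ htK in
/-- A normalising point lies in the subgroup of the common roots. -/
theorem exists_pt_of_normalises [PreconnectedSpace S] [Nonempty S] (y : Sp j C ⟶ H)
    (hK : ∀ c ∈ R', c ∈ R'' → ∃ v : Red.Ga S ⟶ K, v ≫ kG = D.u c)
    (hn : ∀ (L : Type u) [CommRing L] [Algebra R L] (ι₁ : C →ₐ[R] L) (g : Sp j L ⟶ G), g ∈ HP j L h'' →
      (mor j ι₁ ≫ y ≫ h) * g * (mor j ι₁ ≫ y ≫ h)⁻¹ ∈ HP j L h'') : y ≫ h ∈ HP j C kG := by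
  classical
  haveI : ∀ c, IsMonHom (D.u c) := fun c => (D.rootHom c).1
  obtain ⟨χ, z, e₁, -⟩ := exists_H_coords hsub he φ hφ y
  have hz : ∀ c ∈ R', c ∉ R'' → z c = 0 := coords_zero_of_normalises hh'' hconn'' t'' ht'' hR'' hsub he z
    fun L _ _ ι₁ g hg => by
      have h1 := hn L ι₁ g hg
      rw [e₁, MonObj.comp_mul, ← Category.assoc, mor_tpt, mor_rootProd] at h1
      have hτ : tpt D j ((ι₁ : C →* L).comp χ) ≫ D.i ∈ HP j L h'' := torus_mem t'' ht'' _
      have h2 := mul_mem (mul_mem (inv_mem hτ) h1) hτ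
      convert h2 using 1
      show (rootProd j D.u (List.ofFn e) fun c => ι₁ (z c)) * g * (rootProd j D.u (List.ofFn e) fun c => ι₁ (z c))⁻¹ = _
      group
  rw [e₁]
  refine mul_mem (torus_mem tK htK χ) (Subgroup.list_prod_mem _ fun g hg => ?_)
  obtain ⟨c, hc, rfl⟩ := List.mem_map.1 hg
  have hc' := (mem_list_iff he c).1 hc
  by_cases hcR : c ∈ R''
  · obtain ⟨v, hv⟩ := hK c hc' hcR
    exact mem_HP.2 ⟨gp j _ ≫ v, by rw [Category.assoc, hv]⟩
  · rw [hz c hc' hcR, gp_zero, MonObj.one_comp]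
    exact one_mem _

end Groth.L14.TypeR
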