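import Groth.Agent.L14.TypeR.Stable
import Groth.Agent.L14.TypeR.Contain
import Groth.Agent.L14.TypeR.NormInter
import Groth.Agent.L02.SchDom.MonoApps

/-!
Subgroups normalising the group spanned by the root groups of a set of roots.
-/

set_option autoImplicit false
universe u

open CategoryTheory CategoryTheory.Limits AlgebraicGeometry MonoidalCategory CartesianMonoidalCategory MonObj
open Groth.L14.RankOne Groth.L25 Groth.L14.Chart Groth.L14.Chev.Cell

set_option backward.isDefEq.respectTransparency.types false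
set_option linter.style.haveILetI false
set_option linter.unusedSectionVars false
set_option maxHeartbeats 1000000

noncomputable section

namespace Groth.L14.TypeR

variable {S : Scheme.{u}} {G H'' : Over S} [GrpObj G] [GrpObj H''] {D : Red.SplitRed G} {h'' : H'' ⟶ G}
  [IsMonHom h''] {Ψ : Set D.idx} {lv : D.idx → ℕ} {m : ℕ} {e : Fin m → D.idx}

theorem irrFib_pow (m : ℕ) : Groth.L02.SchDom.IrrFib (RedSub.pow (Red.Ga S) m).hom := by
  haveI := (affSmooth_ga (S := S)).pow m |>.2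
  exact Groth.L02.SchDom.IrrFib.of_connected _ fun s => connectedSpace_pow (Red.geomPt s) m

/-- Points of the spanned group. -/
theorem mem_gen_span_iff (hF : Filt D Ψ lv) (he : RedSub.Enumerates Ψ e) {R : Type u} [CommRing R]
    {j : Spec (CommRingCat.of R) ⟶ S} [IsOpenImmersion j] {C : Type u} [CommRing C] [Algebra R C]
    {g : Sp j C ⟶ G} :
    g ∈ gen j C D.u Ψ lv 0 ↔ ∃ t : Sp j C ⟶ RedSub.pow (Red.Ga S) m, t ≫ spanMap D e = g :=
  exists_pt_iff hF (by simpa [Level] using he)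

variable (hh'' : IsImmersion h''.left) [Smooth H''.hom] (hconn'' : RedSub.HasConnectedFibres H'')
  (t'' : D.T ⟶ H'') (ht'' : t'' ≫ h'' = D.i)

include hh'' hconn'' ht'' in
/-- A subgroup containing the torus whose roots stabilise the set normalises its spanned group. -/
theorem normalises_span [PreconnectedSpace S] [Nonempty S] (hF : Filt D Ψ lv) (he : RedSub.Enumerates Ψ e)
    [IsClosedImmersion (spanMap D e).left] [GrpObj (RedSub.pow (Red.Ga S) m)] [IsMonHom (spanMap D e)]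
    (hst : ∀ a, (∃ v : Red.Ga S ⟶ H'', v ≫ h'' = D.u a) → Stab D a Ψ)
    (X : Over S) (y : X ⟶ H'') (x : X ⟶ RedSub.pow (Red.Ga S) m) :
    ∃ x' : X ⟶ RedSub.pow (Red.Ga S) m, (y ≫ h'') * (x ≫ spanMap D e) * (y ≫ h'')⁻¹ = x' ≫ spanMap D e := by
  classical
  haveI := hh''
  haveI : IsAffineHom G.hom := reductive_affine D
  haveI : Smooth G.hom := reductive_smooth D
  haveI : ∀ c, IsMonHom (D.u c) := fun c => (D.rootHom c).1
  haveI := isMonHom_i (D := D)
  haveI hU := (affSmooth_ga (S := S)).pow m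
  haveI := hU.1; haveI := hU.2
  haveI : Mono (spanMap D e) := by
    haveI : Mono (spanMap D e).left := inferInstance
    exact Over.mono_of_mono_left _
  haveI : LocallyOfFinitePresentation (spanMap D e).left := by
    haveI : LocallyOfFinitePresentation ((spanMap D e).left ≫ G.hom) := by rw [Over.w]; infer_instance
    exact Groth.L20.locallyOfFinitePresentation_of_comp (spanMap D e).left G.hom
  obtain ⟨Z, z, hz, -, hZ⟩ := Groth.L02.SchDom.exists_normalizer (irrFib_pow m) (spanMap D e)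
  haveI := hz
  haveI : Mono z := Over.mono_of_mono_left z
  obtain ⟨gZ, hgZ⟩ : ∃ _ : GrpObj Z, IsMonHom z := by
    refine Groth.L08.exists_grpObj_of_mono z ((hZ _ _).2 fun T' x h => ?_) ((hZ _ _).2 fun T' x h => ?_)
      ((hZ _ _).2 fun T' x h => ?_)
    · rw [show η[G] = (1 : 𝟙_ (Over S) ⟶ G) by rw [Hom.one_def, toUnit_unique (toUnit _) (𝟙 _), Category.id_comp],
        MonObj.comp_one]
      exact ⟨⟨h, by group⟩, ⟨h, by group⟩⟩
    · rw [MonObj.comp_mul, ← Category.assoc, ← Category.assoc]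
      have ha := (hZ _ ((x ≫ fst Z Z) ≫ z)).1 ⟨_, rfl⟩
      have hb := (hZ _ ((x ≫ snd Z Z) ≫ z)).1 ⟨_, rfl⟩
      refine ⟨?_, ?_⟩
      · obtain ⟨h₁, e₁⟩ := (hb T' (𝟙 _) h).1
        obtain ⟨h₂, e₂⟩ := (ha T' (𝟙 _) h₁).1
        refine ⟨h₂, ?_⟩
        rw [Category.id_comp] at e₁ e₂
        rw [← e₂, ← e₁]
        group
      · obtain ⟨h₁, e₁⟩ := (ha T' (𝟙 _) h).2
        obtain ⟨h₂, e₂⟩ := (hb T' (𝟙 _) h₁).2
        refine ⟨h₂, ?_⟩
        rw [Category.id_comp] at e₁ e₂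
        rw [← e₂, ← e₁]
        group
    · rw [GrpObj.comp_inv]
      obtain ⟨⟨h₁, e₁⟩, h₂, e₂⟩ := (hZ _ (x ≫ z)).1 ⟨_, rfl⟩ T' (𝟙 _) h
      rw [Category.id_comp] at e₁ e₂
      exact ⟨⟨h₂, by rw [← e₂]; group⟩, ⟨h₁, by rw [← e₁]; group⟩⟩
  letI := gZ
  haveI := hgZ
  let R'' : Set D.idx := {a | ∃ v : Red.Ga S ⟶ H'', v ≫ h'' = D.u a}
  obtain ⟨b⟩ := Groth.L14.AlmostSimple.exists_base D
  obtain ⟨n, en, hen⟩ := exists_enum (D := D) (R'' ∩ RedSub.negRoots D.P b)
  obtain ⟨k, ep, hep⟩ := exists_enum (D := D) (R'' ∩ RedSub.posRoots D.P b)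
  obtain ⟨f₀, hf₀, hopen⟩ := exists_cell hh'' hconn'' t'' ht'' (R' := R'') (fun _ => Iff.rfl) hen hep
  obtain ⟨w, hw⟩ : ∃ w : cellSpace D n k ⟶ Z, w ≫ z = RedSub.cellMap D en ep := by
    refine exists_lift_of_pts z _ fun R _ j _ C _ _ τ => (hZ _ _).2 fun T' q h => ?_
    obtain ⟨χ, y₁, y₂, e₁, -⟩ := exists_coords τ hen.1 hep.1
    rw [e₁]
    -- both conjugates of the spanned group by a product of torus and root points stay inside it
    suffices hgen : ∀ (R' : Type u) [CommRing R'] (j' : Spec (CommRingCat.of R') ⟶ S) [IsOpenImmersion j']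
        (C' : Type u) [CommRing C'] [Algebra R' C'] (σ : Sp j' C' ⟶ T') (v : Sp j' C' ⟶ G),
        v ∈ gen j' C' D.u Ψ lv 0 →
        σ ≫ q ≫ (rootProd j D.u (List.ofFn en) y₁ * ((tpt D j χ ≫ D.i) * rootProd j D.u (List.ofFn ep) y₂)) * v *
            (σ ≫ q ≫ (rootProd j D.u (List.ofFn en) y₁ * ((tpt D j χ ≫ D.i) * rootProd j D.u (List.ofFn ep) y₂)))⁻¹ ∈
          gen j' C' D.u Ψ lv 0 ∧
        (σ ≫ q ≫ (rootProd j D.u (List.ofFn en) y₁ * ((tpt D j χ ≫ D.i) * rootProd j D.u (List.ofFn ep) y₂)))⁻¹ * v *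
            (σ ≫ q ≫ (rootProd j D.u (List.ofFn en) y₁ * ((tpt D j χ ≫ D.i) * rootProd j D.u (List.ofFn ep) y₂))) ∈
          gen j' C' D.u Ψ lv 0 by
      constructor <;>
      · refine (exists_lift_of_pts (spanMap D e) _ fun R' _ j' _ C' _ _ σ => ?_).imp fun _ e => e.symm
        simp only [MonObj.comp_mul σ, GrpObj.comp_inv]
        first
          | exact (mem_gen_span_iff hF he).1 (hgen R' j' C' σ _ ((mem_gen_span_iff hF he).2 ⟨σ ≫ h, Category.assoc _ _ _⟩)).1
          | exact (mem_gen_span_iff hF he).1 (hgen R' j' C' σ _ ((mem_gen_span_iff hF he).2 ⟨σ ≫ h, Category.assoc _ _ _⟩)).2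
    intro R' _ j' _ C' _ _ σ v hv
    -- the elements with this property form a subgroup
    let N : Subgroup (Sp j' C' ⟶ G) :=
      { carrier := {g | ∀ v ∈ gen j' C' D.u Ψ lv 0, g * v * g⁻¹ ∈ gen j' C' D.u Ψ lv 0 ∧
          g⁻¹ * v * g ∈ gen j' C' D.u Ψ lv 0}
        one_mem' := fun v hv => by simpa using hv
        mul_mem' := fun {g g'} hg hg' v hv => ⟨by
            rw [show g * g' * v * (g * g')⁻¹ = g * (g' * v * g'⁻¹) * g⁻¹ by group]
            exact (hg _ (hg' v hv).1).1, by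
            rw [show (g * g')⁻¹ * v * (g * g') = g'⁻¹ * (g⁻¹ * v * g) * g' by group]
            exact (hg' _ (hg v hv).2).2⟩
        inv_mem' := fun {g} hg v hv => by rw [inv_inv]; exact ⟨(hg v hv).2, (hg v hv).1⟩ }
    suffices hmem : σ ≫ q ≫ (rootProd j D.u (List.ofFn en) y₁ * ((tpt D j χ ≫ D.i) *
        rootProd j D.u (List.ofFn ep) y₂)) ∈ N from hmem v hv
    have hroot : ∀ {r : ℕ} (el : Fin r → D.idx) (y : D.idx → C), (∀ i, el i ∈ R'') →
        σ ≫ q ≫ rootProd j D.u (List.ofFn el) y ∈ N := by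
      intro r el y hel
      rw [rootProd_ofFn, ← Category.assoc]
      let φ : (Sp j C ⟶ G) →* (Sp j' C' ⟶ G) := MonoidHom.mk' ((σ ≫ q) ≫ ·) fun a a' => MonObj.comp_mul _ a a'
      show φ _ ∈ N
      rw [map_list_prod]
      refine Subgroup.list_prod_mem _ fun g hg => ?_
      obtain ⟨g', hg', rfl⟩ := List.mem_map.1 hg
      obtain ⟨i, rfl⟩ := List.mem_ofFn.1 hg'
      show (σ ≫ q) ≫ gp j (y (el i)) ≫ D.u (el i) ∈ N
      rw [← Category.assoc, ← gp_gv ((σ ≫ q) ≫ gp j (y (el i)))]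
      intro v hv
      exact conj_mem_of_stab (hst _ (hel i)) _ hv
    rw [MonObj.comp_mul, MonObj.comp_mul, MonObj.comp_mul, MonObj.comp_mul]
    refine mul_mem (hroot en y₁ fun i => (hen.2 ▸ Set.mem_range_self i : en i ∈ R'' ∩ _).1)
      (mul_mem ?_ (hroot ep y₂ fun i => (hep.2 ▸ Set.mem_range_self i : ep i ∈ R'' ∩ _).1))
    obtain ⟨χ', hχ'⟩ := exists_tpt j' (σ ≫ q ≫ tpt D j χ)
    rw [← Category.assoc q, ← Category.assoc σ, ← hχ']
    intro v hv
    refine ⟨conjT_mem_gen χ' hv, ?_⟩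
    let χi : Multiplicative D.M →* C' := χ'.comp invMonoidHom
    have hi : tpt D j' χi ≫ D.i = (tpt D j' χ' ≫ D.i)⁻¹ := by
      rw [eq_inv_iff_mul_eq_one, ← MonObj.mul_comp, ← tpt_mul, show χi * χ' = 1 from MonoidHom.ext fun k => by
        show χ' k⁻¹ * χ' k = 1
        rw [← map_mul, inv_mul_cancel, map_one], tpt_one, MonObj.one_comp]
    have hc := conjT_mem_gen χi hv
    rwa [conjT, hi, inv_inv] at hc
  obtain ⟨f, hf⟩ := exists_hom_of_open h'' z hconn'' f₀ (cellOrigin D n k) (by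
    haveI : Mono h'' := Over.mono_of_mono_left h''
    exact (cancel_mono h'').1 (by rw [Category.assoc, hf₀, cellOrigin_cellMap, MonObj.one_comp])) w
    (by rw [hw, hf₀])
  obtain ⟨h', e'⟩ := ((hZ _ (y ≫ h'')).1 ⟨y ≫ f, by rw [Category.assoc, hf]⟩ X (𝟙 _) x).1
  rw [Category.id_comp] at e'
  exact ⟨h', e'⟩

end Groth.L14.TypeR
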