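import Groth.Agent.L14.TypeR.LeviRoots
import Groth.Agent.L14.TypeR.SpanNorm

/-!
The decomposition of a subgroup with closed roots into the subgroup of its symmetric roots and the span of the others.
-/

set_option autoImplicit false
universe u

open CategoryTheory CategoryTheory.Limits AlgebraicGeometry MonoidalCategory CartesianMonoidalCategory MonObj
open Groth.L14.RankOne Groth.L25 Groth.L14.Chart Groth.L14.Chev.Cell

set_option backward.isDefEq.respectTransparency.types false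
set_option linter.style.haveILetI false
set_option linter.unusedSectionVars false
set_option maxHeartbeats 1000000

noncomputable section

namespace Groth.L14.TypeR

variable {S : Scheme.{u}} [PreconnectedSpace S] [Nonempty S] {G H' H₁ : Over S} [GrpObj G] [GrpObj H'] [GrpObj H₁]
  {D : Red.SplitRed G} {R' : Set D.idx}
  (hcl : ∀ a b c : D.idx, a ∈ R' → b ∈ R' → D.P.root a + D.P.root b = D.P.root c → c ∈ R')
  {h' : H' ⟶ G} [IsMonHom h'] (hh' : IsImmersion h'.left) [Smooth H'.hom] (hconn' : RedSub.HasConnectedFibres H')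
  (t' : D.T ⟶ H') (ht' : t' ≫ h' = D.i)
  (hR' : ∀ a : D.idx, (∃ v : Red.Ga S ⟶ H', v ≫ h' = D.u a) ↔ a ∈ R')
  {h₁ : H₁ ⟶ G} [IsMonHom h₁] (hh₁ : IsImmersion h₁.left) [Smooth H₁.hom]
  (hconn₁ : RedSub.HasConnectedFibres H₁) (t₁ : D.T ⟶ H₁) (ht₁ : t₁ ≫ h₁ = D.i)
  (hR₁ : ∀ a : D.idx, (∃ v : Red.Ga S ⟶ H₁, v ≫ h₁ = D.u a) ↔ a ∈ symPart D R')
  {m : ℕ} {e : Fin m → D.idx} (he : RedSub.Enumerates (asymPart D R') e)

include hcl hh₁ hconn₁ ht₁ hR₁ he in
/-- The span meets the subgroup of the symmetric roots trivially. -/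
theorem span_inter_trivial {R : Type u} [CommRing R] {j : Spec (CommRingCat.of R) ⟶ S} [IsOpenImmersion j]
    {C : Type u} [CommRing C] [Algebra R C] (τ : Sp j C ⟶ RedSub.pow (Red.Ga S) m)
    (hτ : τ ≫ spanMap D e ∈ HP j C h₁) : τ ≫ spanMap D e = 1 := by
  classical
  haveI : ∀ c, IsMonHom (D.u c) := fun c => (D.rootHom c).1
  obtain ⟨b, hb⟩ := exists_base_of_noOpp (noOpp_asymPart hcl)
  obtain ⟨n, en, hen⟩ := exists_enum (D := D) (RedSub.negRoots D.P b)
  obtain ⟨l, ep', hep'⟩ := exists_enum (D := D) (RedSub.posRoots D.P b \ asymPart D R')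
  have hE : RedSub.Enumerates (RedSub.posRoots D.P b) (Fin.append e ep') :=
    enum_append he hep' (fun a ha hb => hb.2 ha) (Set.union_sdiff_cancel hb)
  obtain ⟨z, hz⟩ : ∃ z : D.idx → C, τ ≫ spanMap D e = rootProd j D.u (List.ofFn e) z :=
    ⟨_, (comp_prodMap _ τ).trans (ofFn_prod_eq_rootProd j he.1 _)⟩
  rw [hz] at hτ ⊢
  let x : D.idx → C := fun a => if a ∈ asymPart D R' then z a else 0
  have hx : chart j D.u (cellList en (Fin.append e ep')) (co1 x) = rootProd j D.u (List.ofFn e) z := by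
    obtain ⟨lam, hl⟩ := hasLam b
    rw [chart_one_tor, rootProd, List.map_append, List.prod_append]
    rw [show ((List.ofFn en).map fun a => gp j (x a) ≫ D.u a).prod = 1 from List.prod_eq_one fun g hg => by
      obtain ⟨a, ha, rfl⟩ := List.mem_map.1 hg
      rw [show x a = 0 from if_neg fun hp => by
        have := (hl a).1 (hb hp)
        have := (hl a).2 ((mem_list_iff hen a).1 ha)
        omega, gp_zero, MonObj.one_comp], _root_.one_mul]
    rw [List.map_ofFn, ofFn_prod_append, rootProd_ofFn]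
    simp only [Function.comp_apply, Fin.append_left, Fin.append_right]
    rw [show (List.ofFn fun i => gp j (x (ep' i)) ≫ D.u (ep' i)).prod = 1 from List.prod_eq_one fun g hg => by
      obtain ⟨i, rfl⟩ := List.mem_ofFn.1 hg
      rw [show x (ep' i) = 0 from if_neg (hep'.2 ▸ Set.mem_range_self i : ep' i ∈ RedSub.posRoots D.P b \ asymPart D R').2,
        gp_zero, MonObj.one_comp], _root_.mul_one]
    refine congrArg List.prod (congrArg List.ofFn (funext fun i => ?_))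
    rw [show x (e i) = z (e i) from if_pos (he.2 ▸ Set.mem_range_self i)]
  refine rootProd_eq_one j fun c hc => ?_
  have hc' := (mem_list_iff he c).1 hc
  have := cell_roots hen hE hh₁ hconn₁ t₁ ht₁ (co1 x) (hx ▸ hτ) c fun hm =>
    hc'.2 ((hR₁ c).1 ((mem_tanRoots_iff hen hE hh₁ t₁ ht₁ c).2 hm)).2
  simpa [x, co1, hc'] using this

variable [IsClosedImmersion (spanMap D e).left] [GrpObj (RedSub.pow (Red.Ga S) m)] [IsMonHom (spanMap D e)]

include hcl hh' hconn' ht' hR' he in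
theorem levi_normalises (X : Over S) (y : X ⟶ H') (x : X ⟶ RedSub.pow (Red.Ga S) m) :
    ∃ x' : X ⟶ RedSub.pow (Red.Ga S) m, (y ≫ h') * (x ≫ spanMap D e) * (y ≫ h')⁻¹ = x' ≫ spanMap D e := by
  obtain ⟨lam, hlam⟩ := exists_lam_of_noOpp (noOpp_asymPart hcl)
  exact normalises_span hh' hconn' t' ht' (filt_of_closed (noOpp_asymPart hcl).1 lam hlam) he
    (fun a ha => stab_asymPart hcl ((hR' a).1 ha)) X y x

include hR' he in
theorem exists_span_hom : ∃ u₂ : RedSub.pow (Red.Ga S) m ⟶ H', u₂ ≫ h' = spanMap D e := by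
  choose v hv using fun i => (hR' (e i)).2 (he.2 ▸ Set.mem_range_self i : e i ∈ asymPart D R').1
  exact ⟨RedSub.prodMap _ m v, by rw [prodMap_comp]; simp only [hv]⟩

include hcl hh' hconn' ht' hR' hh₁ hconn₁ ht₁ hR₁ he in
/-- The product of the two parts is the whole subgroup. -/
theorem isIso_levi_mul (f₁ : H₁ ⟶ H') (hf₁ : f₁ ≫ h' = h₁) (u₂ : RedSub.pow (Red.Ga S) m ⟶ H')
    (hu₂ : u₂ ≫ h' = spanMap D e) : IsIso ((f₁ ⊗ₘ u₂) ≫ μ[H']) := by
  classical
  haveI := hh'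
  haveI := hh₁
  haveI : ∀ c, IsMonHom (D.u c) := fun c => (D.rootHom c).1
  haveI := isMonHom_i (D := D)
  haveI : Mono h' := Over.mono_of_mono_left h'
  haveI : Mono h₁ := Over.mono_of_mono_left h₁
  haveI : Mono (spanMap D e) := by
    haveI : Mono (spanMap D e).left := inferInstance
    exact Over.mono_of_mono_left _
  let P : Over S := H₁ ⊗ RedSub.pow (Red.Ga S) m
  let ι₁ : P ⟶ G := (fst _ _ ≫ h₁) * (snd _ _ ≫ spanMap D e)
  have hι₁ : ((f₁ ⊗ₘ u₂) ≫ μ[H']) ≫ h' = ι₁ := by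
    rw [MonObj.mul_eq_mul, MonObj.comp_mul, tensorHom_fst, tensorHom_snd, MonObj.mul_comp, Category.assoc,
      Category.assoc, hf₁, hu₂]
  haveI : Mono ι₁ := ⟨fun p q hpq => hom_ext_open fun R _ j _ C _ _ τ => by
    have h1 := congrArg (τ ≫ ·) hpq
    simp only [ι₁, MonObj.comp_mul, ← Category.assoc] at h1
    have h2 : (((τ ≫ q) ≫ snd _ _) * ((τ ≫ p) ≫ snd _ _)⁻¹) ≫ spanMap D e = 1 := by
      refine span_inter_trivial hcl hh₁ hconn₁ t₁ ht₁ hR₁ he _
        (mem_HP.2 ⟨((τ ≫ q) ≫ fst _ _)⁻¹ * ((τ ≫ p) ≫ fst _ _), ?_⟩)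
      rw [MonObj.mul_comp, MonObj.mul_comp, GrpObj.inv_comp, GrpObj.inv_comp]
      rw [eq_mul_inv_iff_mul_eq, _root_.mul_assoc, inv_mul_eq_iff_eq_mul]
      exact h1
    rw [MonObj.mul_comp, GrpObj.inv_comp, mul_inv_eq_one] at h2
    rw [h2] at h1
    apply CartesianMonoidalCategory.hom_ext
    · exact ((cancel_mono h₁).1 (mul_right_cancel h1))
    · exact ((cancel_mono (spanMap D e)).1 h2).symm⟩
  have hnorm₁ : ∀ (X : Over S) (y : X ⟶ H₁) (x : X ⟶ RedSub.pow (Red.Ga S) m),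
      ∃ x' : X ⟶ RedSub.pow (Red.Ga S) m, (y ≫ h₁) * (x ≫ spanMap D e) * (y ≫ h₁)⁻¹ = x' ≫ spanMap D e :=
    fun X y x => by
      obtain ⟨x', hx'⟩ := levi_normalises hcl hh' hconn' t' ht' hR' he X (y ≫ f₁) x
      exact ⟨x', by rw [← hx', Category.assoc, hf₁]⟩
  obtain ⟨gP, hgP⟩ : ∃ x : GrpObj P, @IsMonHom (Over S) _ _ P G x.toMonObj _ ι₁ := by
    refine Groth.L08.exists_grpObj_of_mono ι₁ ⟨lift 1 1, ?_⟩ ?_ ?_
    · rw [MonObj.comp_mul, lift_fst_assoc, lift_snd_assoc, MonObj.one_comp, MonObj.one_comp, _root_.mul_one,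
        show η[G] = (1 : 𝟙_ (Over S) ⟶ G) by rw [Hom.one_def, toUnit_unique (toUnit _) (𝟙 _), Category.id_comp]]
    · let a := fst P P ≫ fst H₁ _
      let x := fst P P ≫ snd H₁ _
      let a' := snd P P ≫ fst H₁ _
      let x' := snd P P ≫ snd H₁ _
      obtain ⟨w, hw⟩ := hnorm₁ _ a'⁻¹ x
      refine ⟨lift (a * a') (w * x'), ?_⟩
      rw [MonObj.comp_mul, lift_fst_assoc, lift_snd_assoc, MonObj.mul_comp, MonObj.mul_comp, ← hw, GrpObj.inv_comp,
        MonObj.comp_mul, MonObj.comp_mul]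
      simp only [a, x, a', x', Category.assoc]
      group
    · obtain ⟨w, hw⟩ := hnorm₁ _ (fst H₁ _) (snd H₁ (RedSub.pow (Red.Ga S) m))⁻¹
      refine ⟨lift (fst H₁ _)⁻¹ w, ?_⟩
      rw [MonObj.comp_mul, lift_fst_assoc, lift_snd_assoc, ← hw, GrpObj.inv_comp, GrpObj.inv_comp]
      show _ = ι₁⁻¹
      simp only [ι₁]
      group
  letI := gP
  letI : MonObj P := gP.toMonObj
  haveI := hgP
  obtain ⟨b, -⟩ := exists_base_of_noOpp (noOpp_asymPart hcl)
  obtain ⟨lam, hlam⟩ := exists_lam_of_noOpp (noOpp_asymPart hcl)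
  haveI : Mono ι₁.left := inferInstanceAs (Mono ((Over.forget S).map ι₁))
  have h1 : ι₁ = ((fst _ _ ≫ h₁) * (snd _ _ ≫ spanMap D e)) := rfl
  obtain ⟨g, hg⟩ := exists_hom_of_roots hh' hconn' t' ht' b ι₁ (lift t₁ 1) (by
    rw [h1, MonObj.comp_mul, lift_fst_assoc, lift_snd_assoc, MonObj.one_comp, _root_.mul_one, ht₁]) fun a ha => by
    by_cases has : a ∈ symPart D R'
    · obtain ⟨v, hv⟩ := (hR₁ a).2 has
      exact ⟨lift v 1, by rw [h1, MonObj.comp_mul, lift_fst_assoc, lift_snd_assoc, MonObj.one_comp, _root_.mul_one, hv]⟩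
    · have haa : a ∈ asymPart D R' := ⟨(hR' a).1 ha, fun h => has ⟨(hR' a).1 ha, h⟩⟩
      obtain ⟨w, hw⟩ := exists_lift_of_pts (spanMap D e) (D.u a) fun R _ j _ C _ _ τ => by
        refine (mem_gen_span_iff (filt_of_closed (noOpp_asymPart hcl).1 lam hlam) he).1 ?_
        rw [← gp_gv τ]
        exact gp_mem_gen haa (Nat.zero_le _) _
      exact ⟨lift 1 w, by rw [h1, MonObj.comp_mul, lift_fst_assoc, lift_snd_assoc, MonObj.one_comp, _root_.one_mul, hw]⟩
  refine ⟨g, (cancel_mono ι₁).1 ?_, (cancel_mono h').1 ?_⟩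
  · rw [Category.assoc, hg, hι₁, Category.id_comp]
  · rw [Category.assoc, hι₁, hg, Category.id_comp]

include hcl hh₁ hconn₁ ht₁ hR₁ he in
/-- The span meets the normalizer of the subgroup of the symmetric roots trivially. -/
theorem span_normalizer_trivial (X : Over S) (x : X ⟶ RedSub.pow (Red.Ga S) m)
    (hn : ∀ (X' : Over S) (y : X' ⟶ X) (z : X' ⟶ H₁),
      ∃ z' : X' ⟶ H₁, (y ≫ x ≫ spanMap D e) * (z ≫ h₁) * (y ≫ x ≫ spanMap D e)⁻¹ = z' ≫ h₁) :
    x ≫ spanMap D e = 1 := by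
  haveI : ∀ c, IsMonHom (D.u c) := fun c => (D.rootHom c).1
  obtain ⟨b, hb⟩ := exists_base_of_noOpp (noOpp_asymPart hcl)
  refine hom_ext_open fun R _ j _ C _ _ τ => ?_
  obtain ⟨z, hz⟩ : ∃ z : D.idx → C, (τ ≫ x) ≫ spanMap D e = rootProd j D.u (List.ofFn e) z :=
    ⟨_, (comp_prodMap _ (τ ≫ x)).trans (ofFn_prod_eq_rootProd j he.1 _)⟩
  rw [MonObj.comp_one, ← Category.assoc, hz]
  refine rootProd_eq_one j fun c hc => ?_
  have hc' := (mem_list_iff he c).1 hc
  refine coords_zero_of_normalises (j := j) hh₁ hconn₁ t₁ ht₁ hR₁ hb he z (fun L _ _ ι₀ g hg => ?_) c hc'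
    (fun hm => hc'.2 hm.2)
  obtain ⟨w, rfl⟩ := hg
  obtain ⟨w', hw'⟩ := hn _ (mor j ι₀ ≫ τ) w
  refine mem_HP.2 ⟨w', hw'.symm.trans ?_⟩
  rw [Category.assoc (mor j ι₀), ← Category.assoc τ, hz, mor_rootProd]
  rfl

end Groth.L14.TypeR
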