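import Groth.Agent.L14.TypeR.LeviFibre
import Groth.Agent.L25.Locus.Normalizer

/-!
The projection of a normal subgroup without subtori onto the Levi part is trivial on the geometric fibres.
-/

set_option autoImplicit false
universe u

open CategoryTheory CategoryTheory.Limits AlgebraicGeometry MonoidalCategory CartesianMonoidalCategory MonObj
open Groth.L14.RankOne Groth.L25 Groth.L14.Chart Groth.L14.Chev.Cell
open Groth.L08.Borel (ptOf exists_pt_mem exists_pt_lift)

set_option backward.isDefEq.respectTransparency.types false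
set_option linter.style.haveILetI false
set_option linter.unusedSectionVars false
set_option maxHeartbeats 2000000

noncomputable section

namespace Groth.L14.TypeR

variable {S : Scheme.{u}} [PreconnectedSpace S] [Nonempty S] {G H' H₁ : Over S} [GrpObj G] [GrpObj H'] [GrpObj H₁]
  {D : Red.SplitRed G} {R' : Set D.idx}
  (hcl : ∀ a b c : D.idx, a ∈ R' → b ∈ R' → D.P.root a + D.P.root b = D.P.root c → c ∈ R')
  {h' : H' ⟶ G} [IsMonHom h'] (hh' : IsImmersion h'.left) [Smooth H'.hom] [QuasiCompact H'.hom]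
  (hconn' : RedSub.HasConnectedFibres H') (t' : D.T ⟶ H') (ht' : t' ≫ h' = D.i)
  (hR' : ∀ a : D.idx, (∃ v : Red.Ga S ⟶ H', v ≫ h' = D.u a) ↔ a ∈ R')
  {h₁ : H₁ ⟶ G} [IsMonHom h₁] (hh₁ : IsImmersion h₁.left) [Smooth H₁.hom]
  (hconn₁ : RedSub.HasConnectedFibres H₁) (t₁ : D.T ⟶ H₁) (ht₁ : t₁ ≫ h₁ = D.i)
  (hR₁ : ∀ a : D.idx, (∃ v : Red.Ga S ⟶ H₁, v ≫ h₁ = D.u a) ↔ a ∈ symPart D R')
  {m : ℕ} {e : Fin m → D.idx} (he : RedSub.Enumerates (asymPart D R') e)
  (q : H' ⟶ H₁) [IsMonHom q]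
  (hdec : ∀ (Y : Over S) (a : Y ⟶ H'), ∃ w : Y ⟶ RedSub.pow (Red.Ga S) m,
    a ≫ h' = (a ≫ q ≫ h₁) * (w ≫ spanMap D e))
  {U' : Over S} [GrpObj U'] (u' : U' ⟶ H') [IsMonHom u'] [IsClosedImmersion u'.left]
  (hn : AlgGrp.IsNormalHom u') [Smooth U'.hom]
  {R : Type u} [CommRing R] {j : Spec (CommRingCat.of R) ⟶ S} [IsOpenImmersion j]
  {K : Type u} [Field K] [IsAlgClosed K] [Algebra R K]
  (hc : ConnectedSpace (Red.bc (qK j K) U').left) (hns : Red.HasNoSubtorus K (Red.bc (qK j K) U'))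

include hcl hh₁ hconn₁ ht₁ hR₁ hh' hconn' ht' hR' he hdec hn hc hns in
theorem exists_proj_coords {b : D.P.Base} (hb : asymPart D R' ⊆ RedSub.posRoots D.P b) {n l k : ℕ}
    {eneg : Fin n → D.idx} {epos : Fin l → D.idx}
    (hneg : RedSub.Enumerates (RedSub.negRoots D.P b) eneg) (hpos : RedSub.Enumerates (RedSub.posRoots D.P b) epos)
    {es : Fin k → D.idx} (hes : RedSub.Enumerates (symPart D R' ∩ RedSub.posRoots D.P b) es) (g : Sp j K ⟶ U')
    (hg : (g ≫ u' ≫ h').left (IsLocalRing.closedPoint K) ∈ Set.range (RedSub.cellMap D eneg epos).left) :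
    ∃ (χ : Multiplicative D.M →* K) (z : D.idx → K),
      g ≫ u' ≫ q ≫ h₁ = (tpt D j χ ≫ D.i) * rootProd j D.u (List.ofFn es) z := by
  haveI : ∀ c, IsMonHom (D.u c) := fun c => (D.rootHom c).1
  obtain ⟨lv, hF⟩ := exists_filt_pos (D := D) b
  obtain ⟨χ, w, hw, hgw⟩ := mem_borelPts_of_normal hcl hh' hconn' t' ht' hR' hb hneg hpos hF u' hn hc hns g hg
  obtain ⟨ω, hω⟩ := hdec _ (g ≫ u')
  have hω' : ω ≫ spanMap D e ∈ gen j K D.u (RedSub.posRoots D.P b) lv 0 := by
    rw [(comp_prodMap _ ω).trans (ofFn_prod_eq_rootProd j he.1 _)]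
    exact rootProd_mem_gen D.rootHom fun c hc _ => ⟨hb ((mem_list_iff he c).1 hc), Nat.zero_le _⟩
  rw [Category.assoc, Category.assoc, hgw] at hω
  have hy : g ≫ u' ≫ q ≫ h₁ ∈ borelPts D b j K lv := ⟨χ, w * (ω ≫ spanMap D e)⁻¹, mul_mem hw (inv_mem hω'), by
    rw [← _root_.mul_assoc, hω, _root_.mul_assoc, mul_inv_cancel, _root_.mul_one]⟩
  have hmem : g ≫ u' ≫ q ≫ h₁ ∈ HP j K h₁ := mem_HP.2 ⟨g ≫ u' ≫ q, by simp only [Category.assoc]⟩
  obtain ⟨τ, hτ⟩ := (mem_borelInter_iff hh₁ hconn₁ t₁ ht₁ hR₁ hes hF).1 ⟨hmem, hy⟩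
  obtain ⟨χ', z, hz, -⟩ := exists_borel_coords τ hes.1
  exact ⟨χ', z, hτ.symm.trans hz⟩

include hcl hh₁ hconn₁ ht₁ hR₁ hh' hconn' ht' hR' he hdec hn hc hns in
/-- The projection is trivial on a geometric fibre. -/
theorem comp_proj_bc_eq_one : (Over.pullback (qK j K)).map (u' ≫ q) = 1 := by
  classical
  haveI := hh'
  haveI := hh₁
  haveI := hc
  haveI : Mono h₁ := Over.mono_of_mono_left h₁
  haveI := reductive_affine D
  haveI := reductive_smooth D
  haveI := isMonHom_i (D := D)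
  haveI : ∀ c, IsMonHom (D.u c) := fun c => (D.rootHom c).1
  obtain ⟨b, hb⟩ := exists_base_of_noOpp (noOpp_asymPart hcl)
  obtain ⟨lam, hl⟩ := hasLam b
  obtain ⟨b', hb'⟩ := exists_base_of_noOpp (noOpp_half hcl (-lam))
  have hsame : symPart D R' ∩ RedSub.posRoots D.P b' ⊆ symPart D R' ∩ RedSub.negRoots D.P b := fun c hc => by
    refine ⟨hc.1, ?_⟩
    rcases pos_or_neg D.P b c with hp | hp
    · exfalso
      have hlc := (hl c).1 hp
      obtain ⟨lam', hl'⟩ := hasLam b'
      have h1 := (hl' c).1 hc.2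
      have h2 := (hl' (opp D c)).1 (hb' (Or.inr ⟨opp_mem_symPart hc.1, by
        rw [AddMonoidHom.neg_apply, root_opp, map_neg]; omega⟩))
      rw [root_opp, map_neg] at h2
      omega
    · exact hp
  obtain ⟨n, en, hen⟩ := exists_enum (D := D) (RedSub.negRoots D.P b)
  obtain ⟨l, ep, hep⟩ := exists_enum (D := D) (RedSub.posRoots D.P b)
  obtain ⟨n', en', hen'⟩ := exists_enum (D := D) (RedSub.negRoots D.P b')
  obtain ⟨l', ep', hep'⟩ := exists_enum (D := D) (RedSub.posRoots D.P b')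
  obtain ⟨k, es, hes⟩ := exists_enum (D := D) (symPart D R' ∩ RedSub.posRoots D.P b)
  obtain ⟨k', es', hes'⟩ := exists_enum (D := D) (symPart D R' ∩ RedSub.posRoots D.P b')
  have hpts : ∀ g : Sp j K ⟶ U',
      (g ≫ u' ≫ h').left (IsLocalRing.closedPoint K) ∈ Set.range (RedSub.cellMap D en ep).left →
      (g ≫ u' ≫ h').left (IsLocalRing.closedPoint K) ∈ Set.range (RedSub.cellMap D en' ep').left →
      ∃ τ : Sp j K ⟶ D.T, τ ≫ t₁ = g ≫ u' ≫ q := by
    intro g hg hg'
    obtain ⟨χ, z, hz⟩ := exists_proj_coords hcl hh' hconn' t' ht' hR' hh₁ hconn₁ t₁ ht₁ hR₁ he q hdec u' hn hc hns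
      hb hen hep hes g hg
    obtain ⟨χ', z', hz'⟩ := exists_proj_coords hcl hh' hconn' t' ht' hR' hh₁ hconn₁ t₁ ht₁ hR₁ he q hdec u' hn hc hns
      (fun a ha => hb' (Or.inl ha)) hen' hep' hes' g hg'
    rw [hz] at hz'
    let z'' : D.idx → K := fun c => χ' (Multiplicative.ofAdd (D.P.root c)) * z' c
    have hswap : (tpt D j χ' ≫ D.i) * rootProd j D.u (List.ofFn es') z' =
        rootProd j D.u (List.ofFn es') z'' * (tpt D j χ' ≫ D.i) := by
      rw [← conj_rootProd j D.rootHom]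
      group
    obtain ⟨-, -, h0⟩ := cell_injective D.rootHom (mu := lam) (nodup_list hes') (nodup_list hes)
      (fun c hc => (hl c).2 (hsame ((mem_list_iff hes' c).1 hc)).2)
      (fun c hc => (hl c).1 ((mem_list_iff hes c).1 hc).2)
      (y := 0) (y' := z'') (χ := χ) (χ' := χ') (x := z) (x' := 0) (by
        rw [rootProd_eq_one j (x := (0 : D.idx → K)) fun _ _ => rfl, _root_.one_mul,
          rootProd_eq_one j (x := (0 : D.idx → K)) fun _ _ => rfl, _root_.mul_one, hz', hswap])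
    refine ⟨tpt D j χ, (cancel_mono h₁).1 ?_⟩
    simp only [Category.assoc]
    rw [ht₁, hz, rootProd_eq_one j (x := z) fun c hc => h0 c hc, _root_.mul_one]
  let qk := qK j K
  let UK := Red.bc qk U'
  let φ : UK ⟶ Red.bc qk H₁ := (Over.pullback qk).map (u' ≫ q)
  let tK : Red.bc qk D.T ⟶ Red.bc qk H₁ := (Over.pullback qk).map t₁
  haveI : IsMonHom φ := isMonHom_bcMap qk (u' ≫ q)
  haveI : IsClosedImmersion D.i.left := by
    haveI := D.maximalTorus.2.1
    exact Locus.isClosedImmersion_of_mono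
      (Locus.locally_of_multTypeFT (Locus.isMultTypeFT_of_isTorus D.maximalTorus.2.2.1)) D.i
  haveI : IsClosedImmersion t₁.left := by
    haveI : IsClosedImmersion (t₁.left ≫ h₁.left) := by rw [← Over.comp_left, ht₁]; infer_instance
    exact IsClosedImmersion.of_comp t₁.left h₁.left
  haveI : IsClosedImmersion tK.left :=
    MorphismProperty.overPullbackMap (P := @IsClosedImmersion) qk t₁ inferInstance
  haveI : Smooth UK.hom := MorphismProperty.pullback_snd _ _ ‹Smooth U'.hom›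
  haveI : IrreducibleSpace UK.left := ConnIrred.irreducibleSpace _
  haveI : LocallyOfFiniteType UK.hom := inferInstance
  haveI : IsReduced UK.left := Groth.L25.GenWords.isReduced_of_smooth_field UK.hom
  haveI := isOpenImmersion_cellMap hen hep
  haveI := isOpenImmersion_cellMap hen' hep'
  let π : UK.left ⟶ G.left := ((Over.pullback qk).map (u' ≫ h')).left ≫ pullback.fst G.hom qk
  let W : Set UK.left := π ⁻¹' (Set.range (RedSub.cellMap D en ep).left ∩ Set.range (RedSub.cellMap D en' ep').left)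
  let Y : Set UK.left := φ.left ⁻¹' Set.range tK.left
  have hW : IsOpen W := ((RedSub.cellMap D en ep).left.isOpenEmbedding.isOpen_range.inter
    (RedSub.cellMap D en' ep').left.isOpenEmbedding.isOpen_range).preimage π.continuous
  have hY : IsClosed Y := tK.left.isClosedEmbedding.isClosed_range.preimage φ.left.continuous
  have hπ : ∀ x : 𝟙_ (Over (Spec (CommRingCat.of K))) ⟶ UK,
      π (ptOf x) = (ptBC j K x ≫ u' ≫ h').left (IsLocalRing.closedPoint K) := fun x => by
    rw [← ptBC_comp, ptBC_closedPoint]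
    rfl
  have hcells : ∀ {n l : ℕ} {en : Fin n → D.idx} {ep : Fin l → D.idx},
      ((1 : Sp j K ⟶ G)).left (IsLocalRing.closedPoint K) ∈ Set.range (RedSub.cellMap D en ep).left :=
    fun {n l en ep} => ⟨(toUnit (Sp j K) ≫ cellOrigin D n l).left (IsLocalRing.closedPoint K), by
      show ((toUnit (Sp j K) ≫ cellOrigin D n l) ≫ RedSub.cellMap D en ep).left _ = _
      rw [Category.assoc, cellOrigin_cellMap, MonObj.comp_one]⟩
  have hW1 : ptOf (1 : 𝟙_ (Over (Spec (CommRingCat.of K))) ⟶ UK) ∈ W := by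
    simp only [W]
    rw [Set.mem_preimage, hπ, show ptBC j K (1 : 𝟙_ (Over (Spec (CommRingCat.of K))) ⟶ UK) = 1 from map_one (ptHom j K U'),
      MonObj.one_comp]
    exact ⟨hcells, hcells⟩
  have hYuniv : Y = Set.univ := by
    by_contra hne
    obtain ⟨p₀, hp₀⟩ := (Set.ne_univ_iff_exists_notMem _).1 hne
    obtain ⟨p, hpW, hpY⟩ := nonempty_preirreducible_inter hW hY.isOpen_compl ⟨_, hW1⟩ ⟨p₀, hp₀⟩
    obtain ⟨x, hxW, hxY⟩ := exists_pt_mem (X := UK) (hW.inter hY.isOpen_compl).isLocallyClosed ⟨p, hpW, hpY⟩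
    rw [Set.mem_preimage, hπ] at hxW
    obtain ⟨τ, hτ⟩ := hpts (ptBC j K x) hxW.1 hxW.2
    refine hxY ⟨ptOf ((ptBC j K).symm τ), ?_⟩
    show ptOf ((ptBC j K).symm τ ≫ tK) = ptOf (x ≫ φ)
    rw [ptBC_symm_comp, hτ, ← ptBC_comp, Equiv.symm_apply_apply]
  obtain ⟨T0, hT0⟩ := Groth.L14.Luna.exists_lift_of_points tK φ fun x => by
    haveI : LocallyOfFiniteType (Red.bc qk D.T).hom := by
      haveI : Smooth (Red.bc qk D.T).hom := MorphismProperty.pullback_snd _ _ (affSmooth_torus D).2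
      infer_instance
    haveI : LocallyOfFiniteType (Red.bc qk H₁).hom := by
      haveI : Smooth (Red.bc qk H₁).hom := MorphismProperty.pullback_snd _ _ ‹Smooth H₁.hom›
      infer_instance
    exact exists_pt_lift tK (x ≫ φ) (show ptOf x ∈ Y by rw [hYuniv]; trivial)
  haveI : IsMonHom t₁ := Groth.L25.Bridge.isMonHom_of_mul _ fun Y a c => (cancel_mono h₁).1 (by
    rw [Category.assoc, ht₁, MonObj.mul_comp, MonObj.mul_comp, Category.assoc, Category.assoc, ht₁])
  haveI : IsMonHom tK := isMonHom_bcMap qk t₁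
  haveI : Mono tK := Groth.L08.mono_of_closedImmersion tK
  haveI : IsMonHom T0 := Groth.L25.Bridge.isMonHom_of_mul _ fun Y a c => (cancel_mono tK).1 (by
    rw [Category.assoc, hT0, MonObj.mul_comp, MonObj.mul_comp, Category.assoc, Category.assoc, hT0])
  haveI : IsAffine UK.left := by
    haveI : IsImmersion ((Over.pullback qk).map h').left :=
      MorphismProperty.overPullbackMap (P := @IsImmersion) qk h' hh'
    haveI := isMonHom_bcMap qk h'
    haveI := GenWords.isClosedImmersion_of_isImmersion ((Over.pullback qk).map h')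
    haveI : IsAffineHom (Red.bc qk G).hom := MorphismProperty.pullback_snd _ _ ‹IsAffineHom G.hom›
    haveI : IsAffine (Red.bc qk G).left := isAffine_of_isAffineHom (Red.bc qk G).hom
    haveI : IsAffine (Red.bc qk H').left := isAffine_of_isAffineHom ((Over.pullback qk).map h').left
    haveI : IsClosedImmersion ((Over.pullback qk).map u').left :=
      MorphismProperty.overPullbackMap (P := @IsClosedImmersion) qk u' inferInstance
    exact isAffine_of_isAffineHom ((Over.pullback qk).map u').left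
  have h1 := Groth.L14.Luna.hom_torus_eq_one (Groth.L14.Luna.isSolvableGrp_of_noSubtorus UK hns) hns
    (Groth.L25.Locus.isTorus_bc D.maximalTorus.2.2.1 qk) T0
  show φ = 1
  rw [← hT0, h1, MonObj.one_comp]

end Groth.L14.TypeR
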