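import Groth.Agent.L14.TypeR.Eqns
import Mathlib.Algebra.MvPolynomial.PDeriv
import Mathlib.RingTheory.Polynomial.Basic

/-!
First order behaviour of the equations of a subgroup containing the torus; its root lines.
-/

set_option autoImplicit false
universe u

open CategoryTheory CategoryTheory.Limits AlgebraicGeometry MonoidalCategory CartesianMonoidalCategory MonObj
open Groth.L14.RankOne Groth.L25 Groth.L14.Chart Groth.L14.Chev.Cell TrivSqZeroExt

set_option backward.isDefEq.respectTransparency.types false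
set_option linter.style.haveILetI false
set_option linter.unusedSectionVars false
set_option maxHeartbeats 1000000

noncomputable section

namespace Groth.L14.TypeR

variable {S : Scheme.{u}} {G : Over S} [GrpObj G] {D : Red.SplitRed G} {R : Type u} [CommRing R]
  {C : Type u} [CommRing C] [Algebra R C]

/-- Coordinates with trivial torus part. -/
abbrev co1 (x : D.idx → C) : Coord D C := ⟨1, x⟩

variable (D R) in
/-- The coefficient of a coordinate in a function at the origin. -/
def coeffL (c : D.idx) (a : CoordRing D R) : R := originPt D R (MvPolynomial.pderiv c a)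

theorem originPt_X (c : D.idx) : originPt D R (MvPolynomial.X c) = 0 :=
  congrFun (congrArg Coord.co (map_evalCoord (R := R) (Coord.zero D R))) c

theorem eval_C (x : D.idx → C) (r : MonoidAlgebra R (Multiplicative D.M)) :
    evalCoord (R := R) (co1 x) (MvPolynomial.C r) = algebraMap R C (originPt D R (MvPolynomial.C r)) := by
  simp only [evalCoord, originPt, Coord.zero, MvPolynomial.aevalTower_C]
  induction r using MonoidAlgebra.induction_linear with
  | zero => simp
  | add a a' ha ha' => simp [map_add, ha, ha']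
  | single m a => simp [MonoidAlgebra.lift_single, Algebra.smul_def]

theorem eval_co1_X (x : D.idx → C) (c : D.idx) : evalCoord (R := R) (co1 x) (MvPolynomial.X c) = x c :=
  congrFun (congrArg Coord.co (map_evalCoord (R := R) (co1 x))) c

theorem eval_zero (a : CoordRing D R) :
    evalCoord (R := R) (co1 (0 : D.idx → C)) a = algebraMap R C (originPt D R a) := by
  rw [show co1 (0 : D.idx → C) = (Coord.zero D R).map (Algebra.ofId R C).toRingHom from (Coord.map_zero _).symm,
    evalCoord_map]
  rfl

/-- First order expansion. -/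
theorem eval_add (x δ : D.idx → C) (h1 : ∀ c d, δ c * δ d = 0) (h2 : ∀ c d, δ c * x d = 0) (a : CoordRing D R) :
    evalCoord (R := R) (co1 (x + δ)) a =
      evalCoord (R := R) (co1 x) a + ∑ c, algebraMap R C (coeffL D R c a) * δ c := by
  classical
  have hX : ∀ (d : D.idx) (a : CoordRing D R),
      δ d * evalCoord (R := R) (co1 x) a = algebraMap R C (originPt D R a) * δ d := by
    intro d a
    induction a using MvPolynomial.induction_on with
    | C r => rw [eval_C]; exact mul_comm _ _
    | add p q hp hq => rw [map_add, map_add, map_add, mul_add, hp, hq, add_mul]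
    | mul_X p e hp =>
      rw [map_mul, map_mul, eval_co1_X, originPt_X, mul_zero, map_zero, zero_mul, mul_comm (evalCoord _ p),
        ← _root_.mul_assoc, h2, zero_mul]
  induction a using MvPolynomial.induction_on with
  | C r => simp [eval_C, coeffL]
  | add p q hp hq => simp [map_add, hp, hq, coeffL, add_mul, Finset.sum_add_distrib]; ring
  | mul_X p e hp =>
    have hsum : (∑ c, algebraMap R C (coeffL D R c p) * δ c) * (x + δ) e = 0 := by
      rw [Finset.sum_mul]
      exact Finset.sum_eq_zero fun c _ => by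
        rw [Pi.add_apply, mul_add, _root_.mul_assoc, _root_.mul_assoc, h1, h2, mul_zero, add_zero]
    have hL : ∀ c, coeffL D R c (p * MvPolynomial.X e) = if c = e then originPt D R p else 0 := by
      intro c
      rw [coeffL, MvPolynomial.pderiv_mul, MvPolynomial.pderiv_X, map_add, map_mul, map_mul, originPt_X, mul_zero,
        zero_add]
      by_cases h : c = e
      · subst h; simp
      · simp [Pi.single_apply, h, Ne.symm h]
    rw [map_mul, map_mul, eval_co1_X, eval_co1_X, hp, add_mul, hsum, add_zero]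
    simp only [hL, Pi.add_apply, apply_ite (algebraMap R C), map_zero, ite_mul, zero_mul,
      Finset.sum_ite_eq', Finset.mem_univ, if_true]
    rw [mul_add, mul_comm _ (δ e), hX]

theorem eval_small (δ : D.idx → C) (h1 : ∀ c d, δ c * δ d = 0) (a : CoordRing D R) :
    evalCoord (R := R) (co1 δ) a = algebraMap R C (originPt D R a) + ∑ c, algebraMap R C (coeffL D R c a) * δ c := by
  have h := eval_add 0 δ h1 (fun c d => mul_zero _) a
  rwa [zero_add, eval_zero] at h

theorem isUnit_of_nilpotent {f : CoordRing D R} (hf : originPt D R f = 1) (d : Coord D C) {I : Ideal C}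
    (hI : ∀ x ∈ I, IsNilpotent x) (hd : d.IsNear I) : IsUnit (evalCoord (R := R) d f) := by
  have h := congrArg (fun e => evalCoord (R := R) e f) ((d.isNear_iff I).1 hd)
  rw [show d.map (Ideal.Quotient.mk I) = d.map (Ideal.Quotient.mkₐ R I).toRingHom from rfl, evalCoord_map,
    ← Coord.map_zero (Algebra.ofId R (C ⧸ I)).toRingHom, evalCoord_map, ← originPt, AlgHom.comp_apply,
    AlgHom.comp_apply, hf, map_one] at h
  have h1 : evalCoord (R := R) d f - 1 ∈ I := Ideal.Quotient.eq.1 (h.trans (map_one _).symm)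
  simpa using (hI _ h1).isUnit_add_one

theorem algebraMap_mul_single (r : R) (m : Multiplicative D.M) (z : C) :
    algebraMap R (MonoidAlgebra C (Multiplicative D.M)) r * MonoidAlgebra.single m z =
      MonoidAlgebra.single m (algebraMap R C r * z) := by
  rw [← Algebra.smul_def, MonoidAlgebra.smul_single, Algebra.smul_def]

theorem coeff_sum_single {κ : Type*} (s : Finset κ) (m : κ → Multiplicative D.M) (z : κ → C) (k : Multiplicative D.M)
    [DecidableEq (Multiplicative D.M)] :
    (∑ e ∈ s, MonoidAlgebra.single (m e) (z e)).coeff k = ∑ e ∈ s, if m e = k then z e else 0 := by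
  simp [Finsupp.single_apply]

theorem map_act_co1 (x : D.idx → C) :
    ((co1 x).map (IsScalarTower.toAlgHom R C (MonoidAlgebra C (Multiplicative D.M))).toRingHom).act
        (MonoidAlgebra.of C (Multiplicative D.M)) =
      co1 fun e => MonoidAlgebra.single (Multiplicative.ofAdd (D.P.root e)) (x e) := by
  refine Coord.ext (MonoidHom.ext fun m => map_one
    (IsScalarTower.toAlgHom R C (MonoidAlgebra C (Multiplicative D.M))).toRingHom) (funext fun e => ?_)
  show MonoidAlgebra.single (Multiplicative.ofAdd (D.P.root e)) (1 : C) *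
      algebraMap C (MonoidAlgebra C (Multiplicative D.M)) (x e) = _
  rw [mul_comm, ← Algebra.smul_def, MonoidAlgebra.smul_single, smul_eq_mul, _root_.mul_one]

variable {H : Over S} [GrpObj H] {j : Spec (CommRingCat.of R) ⟶ S} [IsOpenImmersion j] {h : H ⟶ G} [IsMonHom h]
  (t : D.T ⟶ H) (ht : t ≫ h = D.i) {l : List D.idx}

include ht in
theorem torus_mem (χ : Multiplicative D.M →* C) : tpt D j χ ≫ D.i ∈ HP j C h :=
  mem_HP.2 ⟨tpt D j χ ≫ t, by rw [Category.assoc, ht]⟩

include ht in
theorem strip_torus {d : Coord D C} (hd : chart j D.u l d ∈ HP j C h) : chart j D.u l (co1 d.co) ∈ HP j C h := by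
  haveI : ∀ c, IsMonHom (D.u c) := fun c => (D.rootHom c).1
  rw [show chart j D.u l (co1 d.co) = rootProd j D.u l d.co from chart_one_tor j d.co]
  exact (Subgroup.mul_mem_cancel_left _ (torus_mem t ht d.tor)).1 hd

include ht in
theorem act_mem {d : Coord D C} (χ : Multiplicative D.M →* C) (hd : chart j D.u l d ∈ HP j C h) :
    chart j D.u l (d.act χ) ∈ HP j C h := by
  rw [← conj_chart j D.rootHom]
  exact mul_mem (mul_mem (torus_mem t ht χ) hd) (inv_mem (torus_mem t ht χ))

theorem one_mem_coord (Q : Eqns j h D l) (a : CoordRing D R) (ha : Q.π a = 0) : originPt D R a = 0 := by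
  haveI : ∀ c, IsMonHom (D.u c) := fun c => (D.rootHom c).1
  have h1 : chart j D.u l (Coord.zero D R) ∈ HP j R h := by rw [chart_zero]; exact one_mem _
  exact (Q.mem R _ (by rw [← originPt, Q.one_f]; exact isUnit_one)).1 h1 a ha

/-- The root occurs in the tangent space of the subgroup over an algebra. -/
def Tan (Q : Eqns j h D l) (K : Type u) [CommRing K] [Algebra R K] (c : D.idx) : Prop :=
  ∀ a, Q.π a = 0 → algebraMap R K (coeffL D R c a) = 0

include ht in
theorem act_univ (x : D.idx → C) (hd : chart j D.u l (co1 x) ∈ HP j C h) :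
    chart j D.u l (co1 fun e => MonoidAlgebra.single (Multiplicative.ofAdd (D.P.root e)) (x e)) ∈
      HP j (MonoidAlgebra C (Multiplicative D.M)) h := by
  have h1 : mor j (IsScalarTower.toAlgHom R C (MonoidAlgebra C (Multiplicative D.M))) ≫ chart j D.u l (co1 x) ∈
      HP j (MonoidAlgebra C (Multiplicative D.M)) h := mor_mem_HP _ hd
  rw [mor_chart] at h1
  have h2 := act_mem (C := MonoidAlgebra C (Multiplicative D.M)) t ht (MonoidAlgebra.of C (Multiplicative D.M)) h1
  rwa [map_act_co1] at h2

include ht in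
/-- Tangent vectors decompose along the roots. -/
theorem decompose (Q : Eqns j h D l) (δ : D.idx → C) (h1 : ∀ c d, δ c * δ d = 0)
    (hd : chart j D.u l (co1 δ) ∈ HP j C h) (a : CoordRing D R) (ha : Q.π a = 0) (c : D.idx) :
    algebraMap R C (coeffL D R c a) * δ c = 0 := by
  classical
  let δ' : D.idx → (MonoidAlgebra C (Multiplicative D.M)) := fun e => MonoidAlgebra.single (Multiplicative.ofAdd (D.P.root e)) (δ e)
  have h2 : chart j D.u l (co1 δ') ∈ HP j (MonoidAlgebra C (Multiplicative D.M)) h := act_univ t ht δ hd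
  have h1' : ∀ e e', δ' e * δ' e' = 0 := fun e e' => by
    simp [δ', h1]
  have hnil : IsUnit (evalCoord (R := R) (co1 δ') Q.f) := by
    refine isUnit_of_nilpotent Q.one_f _ (I := Ideal.span (Set.range δ')) (fun z hz => ?_)
      ⟨fun m => by simp, fun e => Ideal.subset_span ⟨e, rfl⟩⟩
    refine (show Ideal.span (Set.range δ') ≤ nilradical (MonoidAlgebra C (Multiplicative D.M)) from Ideal.span_le.2 ?_) hz
    rintro _ ⟨e, rfl⟩
    exact ⟨2, by rw [pow_two, h1']; exact rfl⟩
  have h3 := (Q.mem (MonoidAlgebra C (Multiplicative D.M)) _ hnil).1 h2 a ha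
  rw [eval_small δ' h1', one_mem_coord Q a ha, map_zero, zero_add] at h3
  simp only [δ', algebraMap_mul_single] at h3
  have h4 := congrArg (fun z : (MonoidAlgebra C (Multiplicative D.M)) => z.coeff (Multiplicative.ofAdd (D.P.root c))) h3
  simp only [coeff_sum_single, MonoidAlgebra.coeff_zero, Finsupp.coe_zero, Pi.zero_apply] at h4
  rwa [Finset.sum_eq_single c (fun e _ he => if_neg fun h => he (D.P.root.injective (Multiplicative.ofAdd.injective h)))
    (by simp), if_pos rfl] at h4

variable (D R) in
/-- The restriction of a function to a root line. -/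
def linePoly (c : D.idx) [DecidableEq D.idx] : CoordRing D R →ₐ[R] Polynomial R :=
  evalCoord (co1 (Pi.single c Polynomial.X))

theorem eval_line [DecidableEq D.idx] (c : D.idx) (y : C) (a : CoordRing D R) :
    evalCoord (R := R) (co1 (Pi.single c y)) a = Polynomial.aeval y (linePoly D R c a) := by
  rw [linePoly, ← AlgHom.comp_apply, ← evalCoord_map]
  congr 2
  refine Coord.ext (MonoidHom.ext fun m => (map_one (Polynomial.aeval y).toRingHom).symm) (funext fun e => ?_)
  by_cases he : e = c
  · subst he; simp [Coord.map]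
  · simp [Coord.map, he]

theorem linePoly_coeff_zero [DecidableEq D.idx] (Q : Eqns j h D l) (c : D.idx) (a : CoordRing D R)
    (ha : Q.π a = 0) : (linePoly D R c a).coeff 0 = 0 := by
  have h0 := eval_line (C := R) c (0 : R) a
  rw [Pi.single_zero, eval_zero, one_mem_coord Q a ha, map_zero] at h0
  rw [Polynomial.coeff_zero_eq_aeval_zero]
  exact h0.symm

theorem linePoly_coeff_one [DecidableEq D.idx] (c : D.idx) (a : CoordRing D R) :
    (linePoly D R c a).coeff 1 = coeffL D R c a := by
  let ε : DualNumber R := DualNumber.eps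
  have hεε : ε * ε = 0 := DualNumber.eps_mul_eps
  have h0 : ∀ e d, (Pi.single c ε : D.idx → DualNumber R) e * (Pi.single c ε : D.idx → DualNumber R) d = 0 := fun e d => by
    simp only [Pi.single_apply]
    split_ifs <;> simp [hεε]
  have h1 := eval_small (Pi.single c ε) h0 a
  rw [eval_line, Finset.sum_eq_single c (fun e _ he => by simp [he]) (by simp), Pi.single_eq_same] at h1
  have h2 := congrArg TrivSqZeroExt.snd h1
  simp [TrivSqZeroExt.algebraMap_eq_inl, ε] at h2
  rw [← h2]
  induction linePoly D R c a using Polynomial.induction_on' with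
  | add p q hp hq => simp [hp, hq]
  | monomial n r =>
    rcases n with _ | _ | n
    · simp [TrivSqZeroExt.algebraMap_eq_inl]
    · simp [TrivSqZeroExt.algebraMap_eq_inl]
    · simp [TrivSqZeroExt.algebraMap_eq_inl, Polynomial.coeff_monomial, pow_succ, _root_.mul_assoc]

theorem nsmul_root_ne [Nonempty S] {c : D.idx} {n : ℕ} (hn : 2 ≤ n) (e : D.idx) :
    D.P.root e ≠ n • D.P.root c := by
  intro he
  haveI : Finite D.idx := Finite.of_fintype _
  haveI := Chart.RootCombo.isCrystallographic D.P
  haveI : D.P.IsReduced := Groth.L14.Luna.SemiRank.isReduced_splitRed D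
  have h2 : n = 2 := by
    have := RootCombo.multiple_le_two D.P (k := e) (i := c) (n := n) (by rw [he, natCast_zsmul])
    omega
  subst h2
  rcases RootPairing.IsReduced.eq_or_eq_neg (P := D.P) e c (fun hli => by
    have := LinearIndependent.pair_iff.1 hli 1 (-2) (by rw [he, ← natCast_zsmul, neg_smul, one_smul]; abel)
    exact one_ne_zero this.1) with h | h
  all_goals
    rw [h] at he
    refine D.P.ne_zero c ?_
  · rw [two_nsmul] at he
    simpa using he
  · have h3 : (3 : ℤ) • D.P.root c = 0 := by
      rw [← natCast_zsmul] at he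
      linear_combination (norm := module) -he
    exact (smul_eq_zero.1 h3).resolve_left (by norm_num)

theorem aeval_eq_of_vanish (y : C) {n : ℕ} (hy : y ^ (n + 1) = 0) (p : Polynomial R)
    (hp : ∀ i < n, algebraMap R C (p.coeff i) = 0) :
    Polynomial.aeval y p = algebraMap R C (p.coeff n) * y ^ n := by
  rw [Polynomial.aeval_eq_sum_range' (Nat.lt_of_lt_of_le (Nat.lt_succ_self _) (Nat.le_add_right _ (n + 1))),
    Finset.sum_eq_single n, Algebra.smul_def]
  · intro i _ hin
    rw [Algebra.smul_def]
    rcases Nat.lt_or_lt_of_ne hin with h | h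
    · rw [hp i h, zero_mul]
    · rw [pow_eq_zero_of_le h hy, mul_zero]
  · intro hn
    exact absurd (Finset.mem_range.2 (by omega)) hn

include ht in
theorem line_step [Nonempty S] (Q : Eqns j h D l) [DecidableEq D.idx] {c : D.idx} {n : ℕ} (hn : 2 ≤ n)
    (y : C) (hy : y ^ (n + 1) = 0) (δ : D.idx → C) (h1 : ∀ e d, δ e * δ d = 0) (h2 : ∀ e, δ e * y = 0)
    (hd : chart j D.u l (co1 (Pi.single c y + δ)) ∈ HP j C h) (a : CoordRing D R) (ha : Q.π a = 0)
    (hp : ∀ i < n, algebraMap R C ((linePoly D R c a).coeff i) = 0) :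
    algebraMap R C ((linePoly D R c a).coeff n) * y ^ n = 0 := by
  classical
  let y' : (MonoidAlgebra C (Multiplicative D.M)) := MonoidAlgebra.single (Multiplicative.ofAdd (D.P.root c)) y
  let δ' : D.idx → (MonoidAlgebra C (Multiplicative D.M)) := fun e => MonoidAlgebra.single (Multiplicative.ofAdd (D.P.root e)) (δ e)
  have h3 : chart j D.u l (co1 (fun e => MonoidAlgebra.single (Multiplicative.ofAdd (D.P.root e))
      ((Pi.single c y + δ : D.idx → C) e))) ∈ HP j (MonoidAlgebra C (Multiplicative D.M)) h := act_univ t ht _ hd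
  rw [show (fun e => MonoidAlgebra.single (Multiplicative.ofAdd (D.P.root e))
      ((Pi.single c y + δ : D.idx → C) e)) = (Pi.single c y' + δ' : D.idx → (MonoidAlgebra C (Multiplicative D.M))) from funext fun e => by
    by_cases he : e = c
    · subst he; simp [δ', y']
    · simp [δ', y', he]] at h3
  have h1' : ∀ e d, δ' e * δ' d = 0 := fun e d => by simp [δ', h1]
  have h2' : ∀ e d, δ' e * (Pi.single c y' : D.idx → (MonoidAlgebra C (Multiplicative D.M))) d = 0 := fun e d => by
    by_cases hd' : d = c
    · subst hd'; simp [δ', y', h2]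
    · simp [hd']
  have hy' : y' ^ (n + 1) = 0 := by simp [y', MonoidAlgebra.single_pow, hy]
  have hnil : IsUnit (evalCoord (R := R) (co1 (Pi.single c y' + δ')) Q.f) := by
    refine isUnit_of_nilpotent Q.one_f _ (I := nilradical (MonoidAlgebra C (Multiplicative D.M))) (fun z hz => hz) ⟨fun m => by simp, fun e => ?_⟩
    refine add_mem ?_ ⟨2, by rw [pow_two, h1']; exact rfl⟩
    by_cases he : e = c
    · subst he; rw [Pi.single_eq_same]; exact ⟨n + 1, hy'⟩
    · rw [Pi.single_eq_of_ne he]; exact zero_mem _
  have h4 := (Q.mem (MonoidAlgebra C (Multiplicative D.M)) _ hnil).1 h3 a ha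
  rw [eval_add _ δ' h1' h2', eval_line, aeval_eq_of_vanish y' hy' _ fun i hi => by
    rw [IsScalarTower.algebraMap_apply R C (MonoidAlgebra C (Multiplicative D.M)), hp i hi, map_zero]] at h4
  simp only [y', δ', MonoidAlgebra.single_pow, algebraMap_mul_single, ← ofAdd_nsmul] at h4
  have h5 := congrArg (fun z : (MonoidAlgebra C (Multiplicative D.M)) => z.coeff (Multiplicative.ofAdd (n • D.P.root c))) h4
  simp only [MonoidAlgebra.coeff_add, coeff_sum_single, MonoidAlgebra.coeff_zero, Finsupp.coe_zero, Pi.zero_apply,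
    Finsupp.coe_add, Pi.add_apply, MonoidAlgebra.coeff_single, Finsupp.single_eq_same] at h5
  rwa [Finset.sum_eq_zero (fun e _ => if_neg fun h => nsmul_root_ne hn e (Multiplicative.ofAdd.injective h)),
    add_zero] at h5

include ht in
/-- A tangent root gives a root line inside the subgroup to all orders. -/
theorem line_coeff [Nonempty S] [DecidableEq D.idx] (Q : Eqns j h D l) {K : Type u} [CommRing K] [Algebra R K]
    {c : D.idx} (hT : Tan Q K c) :
    ∀ (n : ℕ) (a : CoordRing D R), Q.π a = 0 → algebraMap R K ((linePoly D R c a).coeff n) = 0 := by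
  intro n
  induction n using Nat.strong_induction_on with
  | _ n ih =>
  intro a ha
  match n, ih with
  | 0, _ => rw [linePoly_coeff_zero Q c a ha, map_zero]
  | 1, _ => rw [linePoly_coeff_one]; exact hT a ha
  | n + 2, ih =>
    let N := n + 2
    let P := Polynomial K
    let J : Ideal P := Ideal.span {Polynomial.X ^ (N + 1)}
    let C := P ⧸ J
    let x : C := Ideal.Quotient.mk J Polynomial.X
    have hxN : x ^ (N + 1) = 0 := by
      rw [← map_pow]; exact Ideal.Quotient.eq_zero_iff_mem.2 (Ideal.mem_span_singleton_self _)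
    let I : Ideal C := Ideal.span {x ^ N}
    have hxI : ∀ z ∈ I, z * x = 0 := by
      intro z hz
      obtain ⟨w, rfl⟩ := Ideal.mem_span_singleton'.1 hz
      rw [_root_.mul_assoc, ← pow_succ, hxN, mul_zero]
    have hII : ∀ z ∈ I, ∀ w ∈ I, z * w = 0 := by
      intro z hz w hw
      obtain ⟨v, rfl⟩ := Ideal.mem_span_singleton'.1 hw
      rw [show z * (v * x ^ N) = v * (z * x) * x ^ (n + 1) by
        show z * (v * x ^ (n + 2)) = _
        ring, hxI z hz, mul_zero, zero_mul]
    have hI2 : I ^ 2 = ⊥ := by
      rw [pow_two, eq_bot_iff, Ideal.mul_le]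
      intro z hz w hw
      rw [hII z hz w hw]
      exact zero_mem _
    have hvan : ∀ b, Q.π b = 0 → ∀ i < N, algebraMap R C ((linePoly D R c b).coeff i) = 0 := fun b hb i hi => by
      rw [IsScalarTower.algebraMap_apply R K C, ih i hi b hb, map_zero]
    let xI : C ⧸ I := Ideal.Quotient.mk I x
    have hxI0 : xI ^ N = 0 := by
      rw [← map_pow]; exact Ideal.Quotient.eq_zero_iff_mem.2 (Ideal.mem_span_singleton_self _)
    let d₀ : Coord D (C ⧸ I) := co1 (Pi.single c xI)
    have hk : ∀ b, Q.π b = 0 → evalCoord (R := R) d₀ b = 0 := fun b hb => by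
      have hN : N - 1 + 1 = N := rfl
      rw [eval_line, aeval_eq_of_vanish xI (n := N - 1) (by rw [hN]; exact hxI0) _ fun i hi => by
        rw [IsScalarTower.algebraMap_apply R C (C ⧸ I), hvan b hb i (by omega), map_zero],
        IsScalarTower.algebraMap_apply R C (C ⧸ I), hvan b hb (N - 1) (by omega), map_zero]
      exact zero_mul (xI ^ (N - 1))
    have hu₀ : IsUnit (evalCoord (R := R) d₀ Q.f) := by
      refine isUnit_of_nilpotent Q.one_f _ (I := nilradical _) (fun z hz => hz) ⟨fun m => by simp [d₀], fun e => ?_⟩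
      show (Pi.single c xI : D.idx → C ⧸ I) e ∈ _
      by_cases he : e = c
      · subst he; rw [Pi.single_eq_same]; exact ⟨N, hxI0⟩
      · rw [Pi.single_eq_of_ne he]; exact zero_mem _
    obtain ⟨ψ₀, hψ₀⟩ := Q.fac (C ⧸ I) _ hu₀ hk
    obtain ⟨ψ, hψ⟩ := Algebra.FormallySmooth.comp_surjective R Q.B I hI2 ψ₀
    let d : Coord D C := (univCoord D R).map (ψ.comp Q.π).toRingHom
    have hev : evalCoord (R := R) d = ψ.comp Q.π := coordHom_ext (map_evalCoord _)
    have hd0 : (Ideal.Quotient.mkₐ R I).comp (evalCoord (R := R) d) = evalCoord (R := R) d₀ := by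
      rw [hev, ← AlgHom.comp_assoc, hψ, hψ₀]
    have hmem : chart j D.u l d ∈ HP j C h := (Q.mem C d (by rw [hev]; exact Q.unit_f.map ψ)).2 fun b hb => by
      rw [hev, AlgHom.comp_apply, hb, map_zero]
    have hδ : ∀ e, d.co e - (Pi.single c x : D.idx → C) e ∈ I := fun e => by
      refine Ideal.Quotient.eq.1 ?_
      rw [show Ideal.Quotient.mk I (d.co e) = d₀.co e from ?_]
      swap
      · have h9 := DFunLike.congr_fun hd0 (MvPolynomial.X e)
        rw [AlgHom.comp_apply, show evalCoord (R := R) d (MvPolynomial.X e) = d.co e from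
          congrFun (congrArg Coord.co (map_evalCoord (R := R) d)) e, eval_co1_X] at h9
        exact h9
      by_cases he : e = c
      · subst he; simp [d₀, xI]
      · simp [d₀, he]
    have h6 := line_step t ht Q (c := c) (n := N) (by omega) x hxN (fun e => d.co e - (Pi.single c x : D.idx → C) e)
      (fun e e' => hII _ (hδ e) _ (hδ e')) (fun e => hxI _ (hδ e))
      (by
        rw [show Pi.single c x + (fun e => d.co e - (Pi.single c x : D.idx → C) e) = d.co from funext fun e => by simp]
        exact strip_torus t ht hmem) a ha (hvan a ha)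
    rw [IsScalarTower.algebraMap_apply R K C] at h6
    have h7 : Polynomial.C (algebraMap R K ((linePoly D R c a).coeff N)) * Polynomial.X ^ N ∈ J := by
      refine Ideal.Quotient.eq_zero_iff_mem.1 ?_
      rw [map_mul, map_pow]
      exact h6
    rw [Ideal.mem_span_singleton, Polynomial.X_pow_dvd_iff] at h7
    have := h7 N (Nat.lt_succ_self _)
    rwa [Polynomial.coeff_C_mul, Polynomial.coeff_X_pow, if_pos rfl, _root_.mul_one] at this

include ht in
/-- Tangent roots persist on a neighbourhood. -/
theorem exists_tan_nhd [DecidableEq D.idx] (Q : Eqns j h D l) (p : Ideal R) [p.IsPrime] {c : D.idx}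
    (hc : ∀ a, Q.π a = 0 → coeffL D R c a ∈ p) :
    ∃ r ∉ p, ∀ a, Q.π a = 0 → r * coeffL D R c a = 0 := by
  let C := DualNumber R
  let I : Ideal C := Ideal.span ((fun r => (inr r : C)) '' (p : Set R))
  have hmul : ∀ (r : R) (z : C), z * inr r = inr (z.fst * r) := fun r z => by
    refine TrivSqZeroExt.ext ?_ ?_
    · rw [TrivSqZeroExt.fst_mul, TrivSqZeroExt.fst_inr, TrivSqZeroExt.fst_inr, mul_zero]
    · rw [TrivSqZeroExt.snd_mul, TrivSqZeroExt.fst_inr, TrivSqZeroExt.snd_inr, TrivSqZeroExt.snd_inr, smul_eq_mul,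
        MulOpposite.op_zero, zero_smul, add_zero]
  have hIimg : ∀ z ∈ I, ∃ r ∈ p, z = inr r := by
    intro z hz
    induction hz using Submodule.span_induction with
    | mem z hz => obtain ⟨r, hr, rfl⟩ := hz; exact ⟨r, hr, rfl⟩
    | zero => exact ⟨0, zero_mem _, (inr_zero R).symm⟩
    | add z w _ _ hz hw =>
      obtain ⟨r, hr, rfl⟩ := hz; obtain ⟨s, hs, rfl⟩ := hw
      exact ⟨r + s, add_mem hr hs, (inr_add R r s).symm⟩
    | smul z w _ hw =>
      obtain ⟨r, hr, rfl⟩ := hw
      exact ⟨z.fst * r, p.mul_mem_left _ hr, by rw [smul_eq_mul, hmul]⟩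
  have hI2 : I ^ 2 = ⊥ := by
    rw [pow_two, eq_bot_iff, Ideal.mul_le]
    intro z hz w hw
    obtain ⟨r, -, rfl⟩ := hIimg z hz
    obtain ⟨s, -, rfl⟩ := hIimg w hw
    rw [TrivSqZeroExt.inr_mul_inr]
    exact zero_mem _
  let q := Ideal.Quotient.mkₐ R I
  let δ : D.idx → C := Pi.single c (inr 1)
  have h1 : ∀ e d, δ e * δ d = 0 := fun e d => by
    simp only [δ, Pi.single_apply]
    split_ifs <;> first | exact TrivSqZeroExt.inr_mul_inr R 1 1 | simp
  have hu : IsUnit (evalCoord (R := R) (co1 δ) Q.f) := by
    refine isUnit_of_nilpotent Q.one_f _ (I := nilradical C) (fun z hz => hz) ⟨fun m => by simp, fun e => ?_⟩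
    exact ⟨2, by rw [pow_two]; exact h1 e e⟩
  have hk : ∀ a, Q.π a = 0 → (q.comp (evalCoord (R := R) (co1 δ))) a = 0 := fun a ha => by
    show Ideal.Quotient.mk I _ = 0
    rw [Ideal.Quotient.eq_zero_iff_mem]
    show evalCoord (R := R) (co1 δ) a ∈ I
    rw [eval_small δ h1, one_mem_coord Q a ha, map_zero, zero_add,
      Finset.sum_eq_single c (fun e _ he => by simp [δ, he]) (by simp)]
    simp only [δ, Pi.single_eq_same]
    rw [hmul]
    refine Ideal.subset_span ⟨_, ?_, rfl⟩
    show (algebraMap R C (coeffL D R c a)).fst * 1 ∈ p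
    rw [_root_.mul_one]
    exact hc a ha
  obtain ⟨ψ₀, hψ₀⟩ := Q.fac (C ⧸ I) _ (hu.map q) hk
  obtain ⟨ψ, hψ⟩ := Algebra.FormallySmooth.comp_surjective R Q.B I hI2 ψ₀
  let d : Coord D C := (univCoord D R).map (ψ.comp Q.π).toRingHom
  have hev : evalCoord (R := R) d = ψ.comp Q.π := coordHom_ext (map_evalCoord _)
  have hd0 : q.comp (evalCoord (R := R) d) = q.comp (evalCoord (R := R) (co1 δ)) := by
    rw [hev, ← AlgHom.comp_assoc, hψ, hψ₀]
  have hmem : chart j D.u l d ∈ HP j C h := (Q.mem C d (by rw [hev]; exact Q.unit_f.map ψ)).2 fun b hb => by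
    rw [hev, AlgHom.comp_apply, hb, map_zero]
  have hco : ∀ e, ∃ r ∈ p, d.co e = δ e + inr r := fun e => by
    have h9 := DFunLike.congr_fun hd0 (MvPolynomial.X e)
    rw [AlgHom.comp_apply, AlgHom.comp_apply, show evalCoord (R := R) d (MvPolynomial.X e) = d.co e from
      congrFun (congrArg Coord.co (map_evalCoord (R := R) d)) e, eval_co1_X] at h9
    obtain ⟨r, hr, hr'⟩ := hIimg _ (Ideal.Quotient.eq.1 h9)
    exact ⟨r, hr, eq_add_of_sub_eq' hr'⟩
  have hfst : ∀ e, (d.co e).fst = 0 := fun e => by
    obtain ⟨r, -, hr⟩ := hco e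
    rw [hr]
    by_cases he : e = c
    · subst he
      rw [TrivSqZeroExt.fst_add, show δ e = inr 1 from Pi.single_eq_same _ _, TrivSqZeroExt.fst_inr,
        TrivSqZeroExt.fst_inr, add_zero]
    · rw [TrivSqZeroExt.fst_add, show δ e = 0 from Pi.single_eq_of_ne he _, TrivSqZeroExt.fst_zero,
        TrivSqZeroExt.fst_inr, add_zero]
  have hdd : ∀ e d', d.co e * d.co d' = 0 := fun e d' => by
    refine TrivSqZeroExt.ext ?_ ?_
    · rw [TrivSqZeroExt.fst_mul, hfst, zero_mul, TrivSqZeroExt.fst_zero]
    · rw [TrivSqZeroExt.snd_mul, hfst, hfst, zero_smul, MulOpposite.op_zero, zero_smul, add_zero,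
        TrivSqZeroExt.snd_zero]
  obtain ⟨r, hr, hrc⟩ := hco c
  refine ⟨1 + r, fun h' => (Ideal.IsPrime.ne_top ‹_›) ((Ideal.eq_top_iff_one _).2
    ((add_sub_cancel_right (1 : R) r) ▸ sub_mem h' hr)), fun a ha => ?_⟩
  have h3 := decompose t ht Q d.co hdd (strip_torus t ht hmem) a ha c
  rw [hrc, show δ c = inr 1 from Pi.single_eq_same _ _, ← TrivSqZeroExt.inr_add, hmul] at h3
  have h4 : (algebraMap R C (coeffL D R c a)).fst * (1 + r) = 0 := by
    have := congrArg TrivSqZeroExt.snd h3
    rwa [TrivSqZeroExt.snd_inr, TrivSqZeroExt.snd_zero] at this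
  rw [mul_comm]
  exact h4

end Groth.L14.TypeR
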