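import Groth.Agent.L14.TypeR.UnipMax

/-!
The unipotent radical of a subgroup containing the torus whose roots are positive.
-/

set_option autoImplicit false
universe u

open CategoryTheory CategoryTheory.Limits AlgebraicGeometry MonoidalCategory CartesianMonoidalCategory MonObj
open Groth.L14.RankOne Groth.L25 Groth.L14.Chart Groth.L14.Chev.Cell

set_option backward.isDefEq.respectTransparency.types false
set_option linter.style.haveILetI false
set_option linter.unusedSectionVars false
set_option maxHeartbeats 1000000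

noncomputable section

namespace Groth.L14.TypeR

variable {S : Scheme.{u}} [PreconnectedSpace S] [Nonempty S] {G H : Over S} [GrpObj G] [GrpObj H]
  {D : Red.SplitRed G} {h : H ⟶ G} [IsMonHom h] {b : D.P.Base} {R' : Set D.idx}
  (hh : IsImmersion h.left) [Smooth H.hom] (hconn : RedSub.HasConnectedFibres H)
  (t : D.T ⟶ H) (ht : t ≫ h = D.i) (hR' : ∀ a : D.idx, (∃ v : Red.Ga S ⟶ H, v ≫ h = D.u a) ↔ a ∈ R')
  (hsub : R' ⊆ RedSub.posRoots D.P b)

include hh hconn ht hR' hsub in
theorem exists_lift_span' {lv : D.idx → ℕ} (hF : Filt D (RedSub.posRoots D.P b) lv) {m : ℕ} {e : Fin m → D.idx}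
    (he : RedSub.Enumerates R' e) [Mono (spanMap D e)] {Z : Over S} [IsAffineHom Z.hom] (f : Z ⟶ G)
    (hf : ∀ (R : Type u) [CommRing R] (j : Spec (CommRingCat.of R) ⟶ S) [IsOpenImmersion j] (C : Type u) [CommRing C]
      [Algebra R C] (τ : Sp j C ⟶ Z), τ ≫ f ∈ HP j C h ∧ τ ≫ f ∈ gen j C D.u (RedSub.posRoots D.P b) lv 0) :
    ∃ w : Z ⟶ RedSub.pow (Red.Ga S) m, w ≫ spanMap D e = f :=
  exists_lift_of_univ _ _ fun R _ j _ => (mem_span_iff hh hconn t ht hR' hsub he hF).1 (hf R j _ (univ j Z))

include hh hconn ht hR' hsub in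
/-- The unipotent radical. -/
theorem exists_unip : ∃ (U : Over S) (_ : GrpObj U) (u : U ⟶ H), IsMonHom u ∧ IsClosedImmersion (u ≫ h).left ∧
    Smooth U.hom ∧ Par.IsUnipotentRadical u ∧ IsIso ((t ⊗ₘ u) ≫ μ[H]) ∧
    ∀ {m : ℕ} (e : Fin m → D.idx), RedSub.Enumerates R' e →
      ∃ ψ : RedSub.pow (Red.Ga S) m ≅ U, ψ.hom ≫ u ≫ h = RedSub.prodMap (Red.Ga S) m (fun k => D.u (e k)) := by
  classical
  haveI := hh
  haveI : Mono h := Over.mono_of_mono_left h
  haveI : ∀ c, IsMonHom (D.u c) := fun c => (D.rootHom c).1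
  haveI := isMonHom_i (D := D)
  haveI : IsAffineHom G.hom := reductive_affine D
  obtain ⟨lam, hl⟩ := hasLam b
  have hlam : ∀ a ∈ RedSub.posRoots D.P b, 0 < lam (D.P.root a) := fun a ha => (hl a).1 ha
  have hF := filt_of_closed (closed_posRoots b) lam hlam
  obtain ⟨m, e, he⟩ := exists_enum (D := D) R'
  obtain ⟨φ, hφ⟩ := exists_borel_iso hh hconn t ht hR' hsub he
  haveI hcl : ∀ {k : ℕ} {e' : Fin k → D.idx}, RedSub.Enumerates R' e' → IsClosedImmersion (spanMap D e').left :=
    fun he' => isClosedImmersion_spanMap_of_base b hsub he'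
  haveI := hcl he
  haveI : Mono (spanMap D e) := by
    haveI : Mono (spanMap D e).left := inferInstance
    exact Over.mono_of_mono_left _
  have hU := (affSmooth_ga (S := S)).pow m
  haveI := hU.1
  haveI := hU.2
  have hpt : ∀ (R : Type u) [CommRing R] (j : Spec (CommRingCat.of R) ⟶ S) [IsOpenImmersion j] (C : Type u)
      [CommRing C] [Algebra R C] (τ : Sp j C ⟶ RedSub.pow (Red.Ga S) m),
      τ ≫ spanMap D e ∈ HP j C h ∧ τ ≫ spanMap D e ∈ gen j C D.u (RedSub.posRoots D.P b) _ 0 :=
    fun R _ j _ C _ _ τ => (mem_span_iff hh hconn t ht hR' hsub he hF).2 ⟨τ, rfl⟩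
  obtain ⟨gU, hgU⟩ : ∃ _ : GrpObj (RedSub.pow (Red.Ga S) m), IsMonHom (spanMap D e) := by
    refine Groth.L08.exists_grpObj_of_mono _ ?_ ?_ ?_
    · haveI := affSmooth_one (S := S) |>.1
      refine exists_lift_span' hh hconn t ht hR' hsub hF he _ fun R _ j _ C _ _ τ => ?_
      rw [show η[G] = (1 : 𝟙_ (Over S) ⟶ G) by rw [Hom.one_def, toUnit_unique (toUnit _) (𝟙 _), Category.id_comp],
        MonObj.comp_one]
      exact ⟨one_mem _, one_mem _⟩
    · haveI := (hU.tensor hU).1
      refine exists_lift_span' hh hconn t ht hR' hsub hF he _ fun R _ j _ C _ _ τ => ?_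
      rw [MonObj.comp_mul, ← Category.assoc, ← Category.assoc]
      exact ⟨mul_mem (hpt R j C _).1 (hpt R j C _).1, mul_mem (hpt R j C _).2 (hpt R j C _).2⟩
    · refine exists_lift_span' hh hconn t ht hR' hsub hF he _ fun R _ j _ C _ _ τ => ?_
      rw [GrpObj.comp_inv]
      exact ⟨inv_mem (hpt R j C τ).1, inv_mem (hpt R j C τ).2⟩
  letI := gU
  haveI := hgU
  let u : RedSub.pow (Red.Ga S) m ⟶ H := lift 1 (𝟙 _) ≫ φ.hom
  have hu : u ≫ h = spanMap D e := by
    show (_ ≫ φ.hom) ≫ h = _
    rw [Category.assoc, hφ, RedSub.borelMap, MonObj.comp_mul, lift_fst_assoc, lift_snd_assoc, MonObj.one_comp,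
      _root_.one_mul, Category.id_comp]
  clear_value u
  haveI hum : IsMonHom u := Groth.L25.Bridge.isMonHom_of_mul _ fun Y a c => (cancel_mono h).1 (by
    rw [Category.assoc, hu, MonObj.mul_comp, MonObj.mul_comp, Category.assoc, Category.assoc, hu])
  haveI : IsClosedImmersion (u ≫ h).left := by rw [hu]; infer_instance
  haveI : IsClosedImmersion u.left := by
    haveI : IsClosedImmersion (u.left ≫ h.left) := by rw [← Over.comp_left]; infer_instance
    haveI : IsSeparated h.left := inferInstance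
    exact IsClosedImmersion.of_comp u.left h.left
  refine ⟨_, gU, u, hum, ‹_›, hU.2, ⟨hum, ‹_›, ?_, hU.2, inferInstance, fun s => ⟨connectedSpace_pow _ m, ?_⟩, ?_⟩,
    ?_, fun {k} e' he' => ?_⟩
  · intro Y g n
    haveI := affSmooth_borel D m
    haveI hB := (affSmooth_borel D m)
    haveI := ((hB.tensor hU)).1
    let c : (D.T ⊗ RedSub.pow (Red.Ga S) m) ⊗ RedSub.pow (Red.Ga S) m ⟶ G :=
      ((fst _ _ ≫ φ.hom) * (snd _ _ ≫ u) * (fst _ _ ≫ φ.hom)⁻¹) ≫ h
    obtain ⟨w, hw⟩ := exists_lift_span' hh hconn t ht hR' hsub hF he c fun R _ j _ C _ _ τ => by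
      refine ⟨mem_HP.2 ⟨τ ≫ ((fst _ _ ≫ φ.hom) * (snd _ _ ≫ u) * (fst _ _ ≫ φ.hom)⁻¹), Category.assoc _ _ _⟩, ?_⟩
      obtain ⟨χ, z, e₁, -⟩ := exists_H_coords hsub he φ hφ (τ ≫ fst _ _ ≫ φ.hom)
      rw [← Category.assoc, MonObj.comp_mul, MonObj.comp_mul, GrpObj.comp_inv, MonObj.mul_comp, MonObj.mul_comp,
        GrpObj.inv_comp, e₁, Category.assoc τ, Category.assoc _ u, hu]
      have hu₀ : rootProd j D.u (List.ofFn e) z ∈ gen j C D.u (RedSub.posRoots D.P b) _ 0 :=
        rootProd_mem_gen_pos (lv := fun c => (lam (D.P.root c)).natAbs) hsub he z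
      have h2 := conjT_mem_gen χ (mul_mem (mul_mem hu₀ (hpt R j C (τ ≫ snd _ _)).2) (inv_mem hu₀))
      convert h2 using 1
      rw [conjT, Category.assoc]
      group
    refine ⟨lift (g ≫ φ.inv) n ≫ w, (cancel_mono h).1 ?_⟩
    rw [Category.assoc, Category.assoc, hu, hw]
    simp only [c, MonObj.comp_mul, MonObj.mul_comp, GrpObj.inv_comp, GrpObj.comp_inv, Category.assoc, lift_fst_assoc,
      lift_snd_assoc, Iso.inv_hom_id_assoc]
  · obtain ⟨l, ep', hep'⟩ := exists_enum (D := D) (RedSub.posRoots D.P b \ R')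
    have hE : RedSub.Enumerates (RedSub.posRoots D.P b) (Fin.append e ep') :=
      enum_append he hep' (fun a ha hb => hb.2 ha) (Set.union_sdiff_cancel hsub)
    haveI := isClosedImmersion_spanMap_of_base b subset_rfl hE
    haveI : Mono (spanMap D (Fin.append e ep')) := by
      haveI : Mono (spanMap D (Fin.append e ep')).left := inferInstance
      exact Over.mono_of_mono_left _
    obtain ⟨gP, hgP⟩ := exists_grpObj_span hF (n := 0) (e := Fin.append e ep') (by simpa [Level] using hE)
    letI := gP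
    haveI := hgP
    have hns := hasNoSubtorus_span lam hlam hF hE s
    let ιP : RedSub.pow (Red.Ga S) m ⟶ RedSub.pow (Red.Ga S) (m + l) := pad m l
    have hι : ιP ≫ spanMap D (Fin.append e ep') = spanMap D e := by
      refine (comp_prodMap _ _).trans (Eq.trans ?_ ((comp_prodMap _ (𝟙 _)).symm.trans (Category.id_comp _)))
      have := comp_pad_prod (Fin.append e ep') (𝟙 (RedSub.pow (Red.Ga S) m))
      simp only [Category.id_comp, Fin.append_left] at this
      simpa only [Category.id_comp] using this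
    clear_value ιP
    haveI : IsMonHom ιP := Groth.L25.Bridge.isMonHom_of_mul _ fun Y a c =>
      (cancel_mono (spanMap D (Fin.append e ep'))).1 (by
        rw [Category.assoc, hι, MonObj.mul_comp, MonObj.mul_comp, Category.assoc, Category.assoc, hι])
    haveI : Mono ιP := by
      haveI : Mono (ιP ≫ spanMap D (Fin.append e ep')) := by rw [hι]; infer_instance
      exact mono_of_mono ιP (spanMap D (Fin.append e ep'))
    haveI := isMonHom_bcMap (Red.geomPt s) ιP
    haveI : Mono ((Over.pullback (Red.geomPt s)).map ιP) := mono_bcMap _ _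
    exact Groth.L14.Luna.hasNoSubtorus_of_mono ((Over.pullback (Red.geomPt s)).map ιP) hns
  · intro U' _ u' _ hu'c hn' hs' hqc' hfib'
    haveI := hu'c
    haveI := hs'
    haveI : IsClosedImmersion h.left := by
      haveI : IsIso φ.hom.left := inferInstanceAs (IsIso ((Over.forget S).map φ.hom))
      haveI : IsClosedImmersion (φ.hom.left ≫ h.left) := by
        rw [← Over.comp_left, hφ]
        obtain ⟨l, ep', hep'⟩ := exists_enum (D := D) (RedSub.posRoots D.P b \ R')
        have hE : RedSub.Enumerates (RedSub.posRoots D.P b) (Fin.append e ep') :=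
          enum_append he hep' (fun a ha hb => hb.2 ha) (Set.union_sdiff_cancel hsub)
        haveI := isClosedImmersion_borelMap hE
        haveI : IsClosedImmersion (borelIncl D m l).left := by
          haveI := (affSmooth_borel D m).1
          haveI : IsSeparated (borelProj D m l).left := by
            haveI : IsSeparated ((borelProj D m l).left ≫ (D.T ⊗ RedSub.pow (Red.Ga S) m).hom) := by
              haveI := (affSmooth_borel D (m + l)).1
              rw [Over.w (borelProj D m l)]; infer_instance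
            exact IsSeparated.of_comp _ (D.T ⊗ RedSub.pow (Red.Ga S) m).hom
          haveI : IsClosedImmersion ((borelIncl D m l).left ≫ (borelProj D m l).left) := by
            rw [← Over.comp_left, borelIncl_proj]
            exact inferInstanceAs (IsClosedImmersion (𝟙 _))
          exact IsClosedImmersion.of_comp (borelIncl D m l).left (borelProj D m l).left
        rw [← borelIncl_borelMap (e' := ep'), Over.comp_left]
        infer_instance
      rwa [MorphismProperty.cancel_left_of_respectsIso @IsClosedImmersion] at this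
    haveI : IsClosedImmersion (u' ≫ h).left := by rw [Over.comp_left]; infer_instance
    haveI : IsAffineHom U'.hom := by
      rw [← Over.w (u' ≫ h)]
      exact inferInstanceAs (IsAffineHom ((u' ≫ h).left ≫ G.hom))
    obtain ⟨w, hw⟩ := exists_lift_span' hh hconn t ht hR' hsub hF he (u' ≫ h) fun R _ j _ C _ _ τ => by
      refine ⟨mem_HP.2 ⟨τ ≫ u', Category.assoc _ _ _⟩, ?_⟩
      obtain ⟨χ, z, e₁, -⟩ := exists_H_coords hsub he φ hφ (τ ≫ u')
      rw [Category.assoc] at e₁
      rw [e₁, tor_eq_one t ht hsub he hF φ hφ u' hfib' hn' τ χ z e₁, tpt_one, MonObj.one_comp, _root_.one_mul]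
      exact rootProd_mem_gen_pos hsub he z
    exact ⟨w, (cancel_mono h).1 (by rw [Category.assoc, hu, hw])⟩
  · suffices e₁ : (t ⊗ₘ u) ≫ μ[H] = φ.hom by rw [e₁]; infer_instance
    refine (cancel_mono h).1 ?_
    rw [hφ, MonObj.mul_eq_mul, MonObj.comp_mul, tensorHom_fst, tensorHom_snd, MonObj.mul_comp, Category.assoc,
      Category.assoc, ht, hu]
    rfl
  · haveI := hcl he'
    haveI : Mono (spanMap D e') := by
      haveI : Mono (spanMap D e').left := inferInstance
      exact Over.mono_of_mono_left _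
    haveI := (affSmooth_ga (S := S)).pow k |>.1
    obtain ⟨w₁, hw₁⟩ := exists_lift_span' hh hconn t ht hR' hsub hF he (spanMap D e') fun R _ j _ C _ _ τ =>
      (mem_span_iff hh hconn t ht hR' hsub he' hF).2 ⟨τ, rfl⟩
    obtain ⟨w₂, hw₂⟩ := exists_lift_span' hh hconn t ht hR' hsub hF he' (spanMap D e) hpt
    refine ⟨⟨w₁, w₂, (cancel_mono (spanMap D e')).1 (by rw [Category.assoc, hw₂, hw₁, Category.id_comp]),
      (cancel_mono (spanMap D e)).1 (by rw [Category.assoc, hw₁, hw₂, Category.id_comp])⟩, ?_⟩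
    rw [hu]
    exact hw₁

end Groth.L14.TypeR
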