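import Groth.Agent.L14.TypeR.SpanNorm
import Groth.Agent.L14.TypeR.Unip

/-!
Subgroups normalising the unipotent radical of a subgroup with positive roots.
-/

set_option autoImplicit false
universe u

open CategoryTheory CategoryTheory.Limits AlgebraicGeometry MonoidalCategory CartesianMonoidalCategory MonObj
open Groth.L14.RankOne Groth.L25 Groth.L14.Chart Groth.L14.Chev.Cell

set_option backward.isDefEq.respectTransparency.types false
set_option linter.style.haveILetI false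
set_option linter.unusedSectionVars false
set_option maxHeartbeats 1000000

noncomputable section

namespace Groth.L14.TypeR

variable {S : Scheme.{u}} {G H H'' U : Over S} [GrpObj G] [GrpObj H] [GrpObj H''] [GrpObj U]

theorem normalises_radical [PreconnectedSpace S] [Nonempty S] {D : Red.SplitRed G} {h : H ⟶ G} [IsMonHom h]
    (hh : IsImmersion h.left) [Smooth H.hom] (hconn : RedSub.HasConnectedFibres H)
    (t : D.T ⟶ H) (ht : t ≫ h = D.i) {R' : Set D.idx}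
    (hR' : ∀ a : D.idx, (∃ v : Red.Ga S ⟶ H, v ≫ h = D.u a) ↔ a ∈ R') (hno : NoOpp D R')
    (u : U ⟶ H) (hU : Par.IsUnipotentRadical u)
    {h'' : H'' ⟶ G} [IsMonHom h''] (hh'' : IsImmersion h''.left) [Smooth H''.hom]
    (hconn'' : RedSub.HasConnectedFibres H'') (t'' : D.T ⟶ H'') (ht'' : t'' ≫ h'' = D.i)
    (hst : ∀ a, (∃ v : Red.Ga S ⟶ H'', v ≫ h'' = D.u a) → Stab D a R')
    (X : Over S) (y : X ⟶ H'') (x : X ⟶ U) :
    ∃ x' : X ⟶ U, (y ≫ h'') * (x ≫ u ≫ h) * (y ≫ h'')⁻¹ = x' ≫ u ≫ h := by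
  obtain ⟨b, hb⟩ := exists_base_of_noOpp hno
  obtain ⟨lam, hlam⟩ := exists_lam_of_noOpp hno
  have hF := filt_of_closed hno.1 lam hlam
  obtain ⟨m₀, e₀, gP, he₀, hhom, hcl, -, -, -⟩ := exists_span D R' hno
  letI := gP
  haveI := hhom
  haveI := hcl
  obtain ⟨U₀, gU, u₀, hu₀, -, -, hrad, -, hψ⟩ := exists_unip hh hconn t ht hR' hb
  obtain ⟨ψ, hψ⟩ := hψ e₀ he₀
  haveI := hu₀
  haveI := hU.1
  haveI := hU.2.1
  haveI := hrad.2.1
  obtain ⟨f₁, hf₁⟩ := hrad.2.2.2.2.2.2 U u hU.2.1 hU.2.2.1 hU.2.2.2.1 hU.2.2.2.2.1 hU.2.2.2.2.2.1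
  obtain ⟨f₂, hf₂⟩ := hU.2.2.2.2.2.2 U₀ u₀ hrad.2.1 hrad.2.2.1 hrad.2.2.2.1 hrad.2.2.2.2.1 hrad.2.2.2.2.2.1
  have hx : x ≫ u ≫ h = (x ≫ f₁ ≫ ψ.inv) ≫ spanMap D e₀ := by
    rw [← hf₁, spanMap, ← hψ]
    simp only [Category.assoc, Iso.inv_hom_id_assoc]
  obtain ⟨x', hx'⟩ := normalises_span hh'' hconn'' t'' ht'' hF he₀ hst X y (x ≫ f₁ ≫ ψ.inv)
  refine ⟨x' ≫ ψ.hom ≫ f₂, ?_⟩
  rw [hx, hx', spanMap, ← hψ, ← hf₂]
  simp only [Category.assoc]

end Groth.L14.TypeR
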