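import Groth.Agent.L14.TypeR.Roots

/-!
Splitting off a first order part of chart coordinates.
-/

set_option autoImplicit false
universe u

open CategoryTheory CategoryTheory.Limits AlgebraicGeometry MonoidalCategory CartesianMonoidalCategory MonObj
open Groth.L14.RankOne Groth.L25 Groth.L14.Chart Groth.L14.Chev.Cell

set_option backward.isDefEq.respectTransparency.types false
set_option linter.style.haveILetI false
set_option linter.unusedSectionVars false
set_option maxHeartbeats 1000000

noncomputable section

namespace Groth.L14.TypeR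

variable {S : Scheme.{u}} {G : Over S} [GrpObj G] {D : Red.SplitRed G} {R : Type u} [CommRing R]
  {C : Type u} [CommRing C] [Algebra R C]

/-- Pairs with the same augmentation up to an ideal. -/
def pairAlg (e : C →ₐ[R] R) (I : Ideal C) : Subalgebra R (C × C) where
  carrier := {p | p.2 - algebraMap R C (e p.1) ∈ I}
  mul_mem' := fun {p q} hp hq => by
    show p.2 * q.2 - algebraMap R C (e (p.1 * q.1)) ∈ I
    rw [map_mul, map_mul, show p.2 * q.2 - algebraMap R C (e p.1) * algebraMap R C (e q.1) =
      (p.2 - algebraMap R C (e p.1)) * q.2 + algebraMap R C (e p.1) * (q.2 - algebraMap R C (e q.1)) by ring]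
    exact add_mem (I.mul_mem_right _ hp) (I.mul_mem_left _ hq)
  add_mem' := fun {p q} hp hq => by
    show p.2 + q.2 - algebraMap R C (e (p.1 + q.1)) ∈ I
    rw [map_add, map_add, add_sub_add_comm]
    exact add_mem hp hq
  algebraMap_mem' := fun r => by
    show algebraMap R C r - algebraMap R C (e (algebraMap R C r)) ∈ I
    rw [AlgHom.commutes, Algebra.algebraMap_self, RingHom.id_apply, sub_self]
    exact zero_mem _

variable {j : Spec (CommRingCat.of R) ⟶ S} {l : List D.idx} [IsAffineHom G.hom]

/-- A first order part of the coordinates splits off as a factor. -/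
theorem chart_split (e : C →ₐ[R] R) (I : Ideal C) (hIe : ∀ i ∈ I, e i = 0) (hII : ∀ i ∈ I, ∀ i' ∈ I, i * i' = 0)
    (hkI : ∀ z, e z = 0 → ∀ i ∈ I, z * i = 0) (χ : Multiplicative D.M →* C) (x δ : D.idx → C)
    (hχ : ∀ m, e (χ m) = 1) (hx : ∀ c, e (x c) = 0) (hδ : ∀ c, δ c ∈ I) :
    chart j D.u l (⟨χ, x + δ⟩ : Coord D C) = chart j D.u l ⟨χ, x⟩ * chart j D.u l (co1 δ) := by
  haveI : ∀ c, IsMonHom (D.u c) := fun c => (D.rootHom c).1
  let A := pairAlg e I
  let p₁ : A →ₐ[R] C := (AlgHom.fst R C C).comp A.val
  let p₂ : A →ₐ[R] C := (AlgHom.snd R C C).comp A.val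
  have hI2 : ∀ z w : C, ∀ i ∈ I, algebraMap R C (e z) * i = z * i := fun z w i hi => by
    have h := hkI (z - algebraMap R C (e z)) (by
      rw [map_sub, AlgHom.commutes, Algebra.algebraMap_self, RingHom.id_apply, sub_self]) i hi
    rw [sub_mul, sub_eq_zero] at h
    exact h.symm
  let Φ : A →ₐ[R] C :=
    { toFun := fun p => p.1.1 + (p.1.2 - algebraMap R C (e p.1.1))
      map_one' := by simp
      map_zero' := by simp
      map_add' := fun p q => by
        simp only [Subalgebra.coe_add, Prod.fst_add, Prod.snd_add, map_add]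
        ring
      map_mul' := fun p q => by
        simp only [Subalgebra.coe_mul, Prod.fst_mul, Prod.snd_mul, map_mul]
        have h1 := hI2 p.1.1 0 _ q.2
        have h2 := hI2 q.1.1 0 _ p.2
        have h3 := hII _ p.2 _ q.2
        linear_combination h1 + h2
      commutes' := fun r => by
        show algebraMap R C r + (algebraMap R C r - algebraMap R C (e (algebraMap R C r))) = algebraMap R C r
        rw [AlgHom.commutes, Algebra.algebraMap_self, RingHom.id_apply, sub_self, add_zero] }
  let tor : Multiplicative D.M →* A :=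
    { toFun := fun m => ⟨(χ m, 1), by
        show (1 : C) - algebraMap R C (e (χ m)) ∈ I
        rw [hχ, map_one, sub_self]; exact zero_mem _⟩
      map_one' := Subtype.ext (Prod.ext (map_one χ) rfl)
      map_mul' := fun a b => Subtype.ext (Prod.ext (map_mul χ a b) (_root_.one_mul 1).symm) }
  let cA : Coord D A := ⟨tor, fun c => ⟨(x c, δ c), by
    show δ c - algebraMap R C (e (x c)) ∈ I
    rw [hx, map_zero, sub_zero]; exact hδ c⟩⟩
  let dA : Coord D A := ⟨tor, fun c => ⟨(x c, 0), by
    show (0 : C) - algebraMap R C (e (x c)) ∈ I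
    rw [hx, map_zero, sub_zero]; exact zero_mem _⟩⟩
  let εA : Coord D A := co1 fun c => ⟨(0, δ c), by
    show δ c - algebraMap R C (e 0) ∈ I
    rw [map_zero, map_zero, sub_zero]; exact hδ c⟩
  have hA : chart j D.u l cA = chart j D.u l dA * chart j D.u l εA := by
    have hc : ∀ d : Coord D A, ∀ q : A →ₐ[R] C,
        mor j q ≫ chart j D.u l d = chart j D.u l (d.map q.toRingHom) := fun d q => mor_chart j q l d
    have k1 : mor j p₁ ≫ chart j D.u l cA = mor j p₁ ≫ (chart j D.u l dA * chart j D.u l εA) := by
      rw [MonObj.comp_mul, hc, hc, hc, show εA.map p₁.toRingHom = Coord.zero D C from rfl, chart_zero,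
        _root_.mul_one]
      rfl
    have k2 : mor j p₂ ≫ chart j D.u l cA = mor j p₂ ≫ (chart j D.u l dA * chart j D.u l εA) := by
      rw [MonObj.comp_mul, hc, hc, hc, show dA.map p₂.toRingHom = Coord.zero D C from rfl, chart_zero,
        _root_.one_mul]
      rfl
    refine ptEquiv.symm.injective (AlgHom.ext fun a => Subtype.ext (Prod.ext ?_ ?_))
    · have := DFunLike.congr_fun (congrArg ptEquiv.symm k1) a
      rwa [ptEquiv_symm_comp, ptEquiv_symm_comp] at this
    · have := DFunLike.congr_fun (congrArg ptEquiv.symm k2) a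
      rwa [ptEquiv_symm_comp, ptEquiv_symm_comp] at this
  have hΦ := congrArg (mor j Φ ≫ ·) hA
  simp only [MonObj.comp_mul, mor_chart] at hΦ
  have e1 : cA.map Φ.toRingHom = ⟨χ, x + δ⟩ := by
    refine Coord.ext (MonoidHom.ext fun m => ?_) (funext fun c => ?_)
    · show χ m + (1 - algebraMap R C (e (χ m))) = χ m
      rw [hχ, map_one, sub_self, add_zero]
    · show x c + (δ c - algebraMap R C (e (x c))) = x c + δ c
      rw [hx, map_zero, sub_zero]
  have e2 : dA.map Φ.toRingHom = ⟨χ, x⟩ := by
    refine Coord.ext (MonoidHom.ext fun m => ?_) (funext fun c => ?_)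
    · show χ m + (1 - algebraMap R C (e (χ m))) = χ m
      rw [hχ, map_one, sub_self, add_zero]
    · show x c + (0 - algebraMap R C (e (x c))) = x c
      rw [hx, map_zero, sub_zero, add_zero]
  have e3 : εA.map Φ.toRingHom = co1 δ := by
    refine Coord.ext (MonoidHom.ext fun m => ?_) (funext fun c => ?_)
    · exact map_one Φ
    · show 0 + (δ c - algebraMap R C (e 0)) = δ c
      rw [map_zero, map_zero, sub_zero, zero_add]
  rw [e1, e2, e3] at hΦ
  exact hΦ

end Groth.L14.TypeR
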