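import Groth.Agent.L14.TypeR.Borel
import Groth.Agent.L14.AlmostSimple.Torus

/-!
Sets of roots stable under adding a root, and the conjugation of their groups by the root group of that root.
-/

set_option autoImplicit false
universe u

open CategoryTheory CategoryTheory.Limits AlgebraicGeometry MonoidalCategory CartesianMonoidalCategory MonObj
open Groth.L14.RankOne Groth.L25 Groth.L14.Chart Groth.L14.Chev.Cell

set_option backward.isDefEq.respectTransparency.types false
set_option linter.style.haveILetI false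
set_option linter.unusedSectionVars false
set_option maxHeartbeats 1000000

noncomputable section

namespace Groth.L14.TypeR

variable {S : Scheme.{u}} {G : Over S} [GrpObj G] {D : Red.SplitRed G}

/-- The set is stable under positive combinations with the root. -/
structure Stab (D : Red.SplitRed G) (a : D.idx) (Ψ : Set D.idx) : Prop where
  ne : ∀ b ∈ Ψ, ∀ i k : ℕ, 1 ≤ i → 1 ≤ k → i • D.P.root b + k • D.P.root a ≠ 0
  step : ∀ b ∈ Ψ, ∀ (c : D.idx) (i k : ℕ), 1 ≤ i → 1 ≤ k →
    D.P.root c = i • D.P.root b + k • D.P.root a → c ∈ Ψ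

theorem eq_one_of_nsmul [Nonempty S] {c d : D.idx} {k : ℕ} (hk : 1 ≤ k) (h : D.P.root c = k • D.P.root d) : k = 1 := by
  haveI : Finite D.idx := Finite.of_fintype _
  haveI : IsAddTorsionFree D.M := .of_isTorsionFree ℤ _
  obtain ⟨b₀⟩ := Groth.L14.AlmostSimple.exists_base D
  have h' : (1 : ℤ) • D.P.root c = (k : ℤ) • D.P.root d := by rw [one_smul, natCast_zsmul, h]
  rcases eq_or_neg_of_dep D.P b₀ one_ne_zero h' with rfl | e
  · rw [one_smul] at h'
    have := smul_left_injective ℤ (D.P.ne_zero c) ((one_smul ℤ (D.P.root c)).trans h')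
    try simp only at this
    omega
  · have h0 : ((k : ℤ) + 1) • D.P.root d = 0 := by rw [add_smul, one_smul, ← h', one_smul, e, neg_add_cancel]
    rcases smul_eq_zero.1 h0 with h0 | h0
    · omega
    · exact absurd h0 (D.P.ne_zero d)

theorem stab_of_mix [Nonempty S] {a : D.idx} {Ψ : Set D.idx}
    (hcl : ∀ x y c : D.idx, x ∈ Ψ → y ∈ Ψ → D.P.root x + D.P.root y = D.P.root c → c ∈ Ψ)
    (hmix : ∀ x c : D.idx, x ∈ Ψ → D.P.root x + D.P.root a = D.P.root c → c ∈ Ψ)
    (hopp : ∀ x ∈ Ψ, D.P.root x ≠ -D.P.root a) : Stab D a Ψ := by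
  haveI : Finite D.idx := Finite.of_fintype _
  haveI : IsAddTorsionFree D.M := .of_isTorsionFree ℤ _
  haveI := Chart.RootCombo.isCrystallographic D.P
  obtain ⟨b₀⟩ := Groth.L14.AlmostSimple.exists_base D
  have hne : ∀ b ∈ Ψ, ∀ i k : ℕ, 1 ≤ i → 1 ≤ k → i • D.P.root b + k • D.P.root a ≠ 0 := by
    intro b hb i k hi hk h
    have h' : (i : ℤ) • D.P.root b = (-(k : ℤ)) • D.P.root a := by
      rw [neg_smul, natCast_zsmul, natCast_zsmul, eq_neg_iff_add_eq_zero, h]
    rcases eq_or_neg_of_dep D.P b₀ (by omega : (i : ℤ) ≠ 0) h' with rfl | e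
    · have := smul_left_injective ℤ (D.P.ne_zero b) h'
      omega
    · exact hopp b hb e
  refine ⟨hne, ?_⟩
  suffices ∀ n : ℕ, ∀ b ∈ Ψ, ∀ (c : D.idx) (i k : ℕ), i + k = n → 1 ≤ i → 1 ≤ k →
      D.P.root c = i • D.P.root b + k • D.P.root a → c ∈ Ψ from fun b hb c i k hi hk h => this _ b hb c i k rfl hi hk h
  intro n
  induction n using Nat.strong_induction_on with
  | _ n ih =>
    intro b hb c i k hn hi hk h
    have hl : D.P.root c = Groth.L24.RootD.rsum D.P (Multiset.replicate i b + Multiset.replicate k a) := by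
      simp [Groth.L24.RootD.rsum, Multiset.map_replicate, Multiset.sum_replicate, h]
    rcases Groth.L24.RootD.exists_summand hl with hmem | ⟨d, hd, -, c', hc'⟩
    · rcases Multiset.mem_add.1 hmem with hm | hm
      · rwa [Multiset.eq_of_mem_replicate hm]
      · rw [Multiset.eq_of_mem_replicate hm] at h
        rcases Nat.lt_or_ge 1 k with hk1 | hk1
        · obtain ⟨k', rfl⟩ : ∃ k', k = k' + 1 := ⟨k - 1, by omega⟩
          refine absurd ?_ (hne b hb i k' hi (by omega))
          rwa [succ_nsmul, ← add_assoc, right_eq_add] at h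
        · obtain rfl : k = 1 := by omega
          rw [one_nsmul, right_eq_add, ← natCast_zsmul, smul_eq_zero] at h
          exact absurd h (by rintro (h | h); · omega
                             · exact D.P.ne_zero b h)
    · rcases Multiset.mem_add.1 hd with hm | hm
      · rw [Multiset.eq_of_mem_replicate hm] at hc'
        obtain ⟨i', rfl⟩ : ∃ i', i = i' + 1 := ⟨i - 1, by omega⟩
        have hc'' : D.P.root c' = i' • D.P.root b + k • D.P.root a := by rw [hc', h, succ_nsmul]; abel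
        rcases Nat.eq_zero_or_pos i' with rfl | hi'
        · rw [zero_smul, zero_add] at hc''
          obtain rfl := eq_one_of_nsmul hk hc''
          exact hmix b c hb (by rw [h]; simp)
        · exact hcl c' b c (ih (i' + k) (by omega) b hb c' i' k rfl hi' hk hc'') hb (by rw [hc', sub_add_cancel])
      · rw [Multiset.eq_of_mem_replicate hm] at hc'
        obtain ⟨k', rfl⟩ : ∃ k', k = k' + 1 := ⟨k - 1, by omega⟩
        have hc'' : D.P.root c' = i • D.P.root b + k' • D.P.root a := by rw [hc', h, succ_nsmul]; abel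
        rcases Nat.eq_zero_or_pos k' with rfl | hk'
        · rw [zero_smul, add_zero] at hc''
          obtain rfl := eq_one_of_nsmul hi hc''
          exact hmix b c hb (by rw [h]; simp)
        · exact hmix c' c (ih (i + k') (by omega) b hb c' i k' rfl hi hk' hc'') (by rw [hc', sub_add_cancel])

variable {R : Type u} [CommRing R] {j : Spec (CommRingCat.of R) ⟶ S} [IsOpenImmersion j] {C : Type u} [CommRing C]
  [Algebra R C] {a : D.idx} {Ψ : Set D.idx} {lv : D.idx → ℕ}

theorem comm_mem_of_stab (hs : Stab D a Ψ) {b : D.idx} (hb : b ∈ Ψ) (y x : C) :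
    Chart.comm j (D.u b) (D.u a) y x ∈ gen j C D.u Ψ lv 0 := by
  classical
  haveI : ∀ c, IsMonHom (D.u c) := fun c => (D.rootHom c).1
  by_cases hab : b = a
  · subst hab
    have : Chart.comm j (D.u b) (D.u b) y x = 1 := by
      rw [Chart.comm, mul_inv_eq_one, mul_inv_eq_iff_eq_mul, ← MonObj.mul_comp, ← MonObj.mul_comp, ← gp_add,
        ← gp_add, add_comm]
    rw [this]
    exact one_mem _
  let e : D.idx → ℕ × ℕ := fun c =>
    if h : ∃ ik : ℕ × ℕ, 1 ≤ ik.1 ∧ 1 ≤ ik.2 ∧ D.P.root c = ik.1 • D.P.root b + ik.2 • D.P.root a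
    then h.choose else (0, 0)
  have huniq : ∀ (c : D.idx) (i k : ℕ), 1 ≤ i → 1 ≤ k → D.P.root c = i • D.P.root b + k • D.P.root a → e c = (i, k) := by
    intro c i k hi hk h
    have hex : ∃ ik : ℕ × ℕ, 1 ≤ ik.1 ∧ 1 ≤ ik.2 ∧ D.P.root c = ik.1 • D.P.root b + ik.2 • D.P.root a :=
      ⟨(i, k), hi, hk, h⟩
    simp only [e, dif_pos hex]
    obtain ⟨h1, h2, h3⟩ := hex.choose_spec
    have hli : LinearIndependent ℤ ![D.P.root b, D.P.root a] := by
      by_contra hdep
      exact no_combo_of_dep hab hdep (hs.ne b hb) hi hk h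
    have hz := LinearIndependent.pair_iff.1 hli ((hex.choose.1 : ℤ) - i) ((hex.choose.2 : ℤ) - k) (by
      rw [sub_smul, sub_smul, natCast_zsmul, natCast_zsmul, natCast_zsmul, natCast_zsmul]
      linear_combination (norm := abel) -h3 + h)
    exact Prod.ext (by omega) (by omega)
  obtain ⟨K, hK, he⟩ := comm_expansion j D.rootHom (Finset.univ : Finset D.idx).nodup_toList
    (fun c => Finset.mem_toList.2 (Finset.mem_univ c)) b a (hs.ne b hb) e huniq
  rw [he]
  refine rootProd_mem_gen D.rootHom fun c _ hc => ?_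
  obtain ⟨h1, h2, h3⟩ := hK c fun h0 => hc (by simp [h0])
  exact ⟨hs.step b hb c _ _ h1 h2 h3, Nat.zero_le _⟩

/-- A root group stabilising the set normalises its group. -/
theorem conj_mem_of_stab (hs : Stab D a Ψ) (x : C) {g : Sp j C ⟶ G} (hg : g ∈ gen j C D.u Ψ lv 0) :
    (gp j x ≫ D.u a) * g * (gp j x ≫ D.u a)⁻¹ ∈ gen j C D.u Ψ lv 0 ∧
      (gp j x ≫ D.u a)⁻¹ * g * (gp j x ≫ D.u a) ∈ gen j C D.u Ψ lv 0 := by
  haveI : ∀ c, IsMonHom (D.u c) := fun c => (D.rootHom c).1
  suffices ∀ x : C, (gp j x ≫ D.u a) * g * (gp j x ≫ D.u a)⁻¹ ∈ gen j C D.u Ψ lv 0 by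
    refine ⟨this x, ?_⟩
    have h := this (-x)
    rwa [gp_neg, GrpObj.inv_comp, inv_inv] at h
  intro x
  induction hg using Subgroup.closure_induction with
  | mem g hg =>
    obtain ⟨b, hb, -, y, rfl⟩ := hg
    rw [show (gp j x ≫ D.u a) * (gp j y ≫ D.u b) * (gp j x ≫ D.u a)⁻¹ =
      Chart.comm j (D.u b) (D.u a) y x * (gp j y ≫ D.u b) by rw [Chart.comm]; group]
    exact mul_mem (comm_mem_of_stab hs hb y x) (gp_mem_gen hb (Nat.zero_le _) y)
  | one => simp
  | mul g g' _ _ hg hg' =>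
    rw [show (gp j x ≫ D.u a) * (g * g') * (gp j x ≫ D.u a)⁻¹ =
      ((gp j x ≫ D.u a) * g * (gp j x ≫ D.u a)⁻¹) * ((gp j x ≫ D.u a) * g' * (gp j x ≫ D.u a)⁻¹) by group]
    exact mul_mem hg hg'
  | inv g _ hg =>
    rw [show (gp j x ≫ D.u a) * g⁻¹ * (gp j x ≫ D.u a)⁻¹ = ((gp j x ≫ D.u a) * g * (gp j x ≫ D.u a)⁻¹)⁻¹ by group]
    exact inv_mem hg

end Groth.L14.TypeR
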